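import Cfsg.Agent.Lib.Walter8.Main
import Cfsg.Agent.Lib.GW.Main
import Cfsg.Agent.Lib.FusionSys.SimpleTwo
import Cfsg.Agent.Lib.FusionSys.QdFree
import Cfsg.Agent.S3189
import Cfsg.Agent.S3188
import Cfsg.Agent.S1011
import Cfsg.Agent.S3215
import Cfsg.Agent.Lib.Dickson.Overgroups

/-!
# Simple groups with Sylow two-subgroups of order eight: the case division

Every case except an elementary abelian Sylow subgroup with automizer of order 21 and a
nonsolvable involution centralizer is finished here.  That case is reduced to the structure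
`C(t) ≅ 2 × PSL₂(q)`, which is an explicit hypothesis (`CentClause`).
-/

set_option autoImplicit false
set_option linter.style.haveILetI false
set_option linter.unusedSectionVars false

namespace Cfsg.Lib.Walter3

open Subgroup Cfsg Matrix
open scoped commutatorElement

universe u

/-- The involution centralizers in the case of the automizer of order 21. -/
def CentClause (G : Type u) [Group G] : Prop :=
  ∀ S : Sylow 2 G, Nat.card (S : Subgroup G) = 8 → IsElementaryAbelian 2 (S : Subgroup G) →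
    Nat.card (E8Cent.automizer S) = 21 →
    ∀ t : G, orderOf t = 2 → t ∈ (S : Subgroup G) →
      ¬ Group.IsSolvable ↥(centralizer ({t} : Set G)) →
      ∃ (F : Type) (_ : Field F) (_ : Fintype F), 3 ≤ Fintype.card F ∧
        Nonempty (centralizer ({t} : Set G) ≃*
          Multiplicative (ZMod 2) × ProjectiveSpecialLinearGroup (Fin 2) F)

variable {G : Type u} [Group G] [Finite G] [IsSimpleGroup G]

/-- The conclusion of the theorem on simple groups with Sylow two-subgroups of order eight. -/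
def EightConcl (G : Type u) [Group G] : Prop :=
  (∃ (F : Type) (_ : Field F) (_ : Fintype F), Fintype.card F = 8 ∧
      Nonempty (G ≃* ProjectiveSpecialLinearGroup (Fin 2) F)) ∨
    (∃ (F : Type) (_ : Field F) (_ : Fintype F), (Fintype.card F % 16 = 7 ∨ Fintype.card F % 16 = 9) ∧
      Nonempty (G ≃* ProjectiveSpecialLinearGroup (Fin 2) F)) ∨
    Nonempty (G ≃* alternatingGroup (Fin 7)) ∨ Cfsg.IsJ1 G ∨ Cfsg.IsRee G

theorem card_sylow_two_eq {K : Type*} [Group K] [Finite K] (S : Sylow 2 G) (e : G ≃* K) {m : ℕ}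
    (h8 : Nat.card (S : Subgroup G) = 8) (hm : Nat.card K = m) :
    8 ∣ m ∧ ¬ 16 ∣ m := by
  haveI : Fact (Nat.Prime 2) := ⟨Nat.prime_two⟩
  rw [← hm, ← Nat.card_congr e.toEquiv, ← (S : Subgroup G).card_mul_index, h8]
  refine ⟨dvd_mul_right 8 _, fun h => S.not_dvd_index ?_⟩
  exact Nat.dvd_of_mul_dvd_mul_left (by norm_num : 0 < 8) (show 8 * 2 ∣ 8 * _ from h)

/-- Dihedral Sylow subgroups of order eight. -/
theorem of_dihedral (hG : ¬ IsMulCommutative G) (T : Sylow 2 G)
    (h8 : Nat.card (T : Subgroup G) = 8) (e : (T : Subgroup G) ≃* DihedralGroup 4) : EightConcl G := by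
  haveI : Fact (Nat.Prime 2) := ⟨Nat.prime_two⟩
  rcases GW.simpleGW G hG (fun S => ⟨4, by norm_num, ⟨(S.equiv T).trans e⟩⟩) with
    ⟨F, i, j, hodd, h3, ⟨f⟩⟩ | h
  · refine Or.inr (Or.inl ⟨F, i, j, ?_, ⟨f⟩⟩)
    have hq := Nat.odd_iff.1 hodd
    obtain ⟨h8d, h16⟩ := card_sylow_two_eq T f h8 rfl
    have hc := Dickson.card_psl_mul (K := F) hq
    obtain ⟨k, hk⟩ : ∃ k, Fintype.card F = 16 * k + Fintype.card F % 16 :=
      ⟨Fintype.card F / 16, by omega⟩
    set r := Fintype.card F % 16 with hr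
    set M := Nat.card (ProjectiveSpecialLinearGroup (Fin 2) F)
    have hrlt : r < 16 := Nat.mod_lt _ (by norm_num)
    have hmul : 16 ∣ Fintype.card F * (Fintype.card F ^ 2 - 1) := by
      rw [← hc]; exact Nat.mul_dvd_mul_left 2 h8d
    have h32 : ¬ 32 ∣ Fintype.card F * (Fintype.card F ^ 2 - 1) := fun h => h16 <| by
      rw [← hc] at h; exact Nat.dvd_of_mul_dvd_mul_left (by norm_num : 0 < 2) h
    have h32' : ¬ 32 ∣ Fintype.card F ^ 2 - 1 := fun h => h32 (dvd_mul_of_dvd_right h _)
    have hsq : Fintype.card F ^ 2 = 32 * (8 * k * k + k * r) + r * r := by rw [hk]; ring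
    have h16' : 16 ∣ Fintype.card F ^ 2 - 1 :=
      (Nat.Coprime.pow_left 4 (Nat.coprime_two_left.2 hodd)).dvd_of_dvd_mul_left hmul
    rw [hsq] at h32' h16'
    interval_cases r <;> omega
  · exact Or.inr (Or.inr (Or.inl h))

/-- A Sylow subgroup of order eight with a single involution is impossible. -/
theorem false_of_unique (hG : ¬ IsMulCommutative G) (T : Sylow 2 G) {z : G} (hz : orderOf z = 2)
    (hzT : z ∈ (T : Subgroup G)) (hu : ∀ x ∈ (T : Subgroup G), orderOf x = 2 → x = z) : False := by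
  refine FusionSys.false_of_stronglyClosed_unique_involution hG T (T := (T : Subgroup G)) ?_ hz hzT hu
  exact FusionSys.stronglyClosed_top _

/-- An abelian Sylow subgroup of order eight and exponent four is impossible. -/
theorem false_of_sq (hG : ¬ IsMulCommutative G) (T : Sylow 2 G) [IsMulCommutative (T : Subgroup G)]
    {z : G} (hsq : ∀ x ∈ (T : Subgroup G), x * x = 1 ∨ x * x = z) {w : G} (hw : w ∈ (T : Subgroup G))
    (hwz : w * w = z) (hz : z ≠ 1) : False := by
  have hcm : ∀ a ∈ (T : Subgroup G), ∀ b ∈ (T : Subgroup G), a * b = b * a := fun a ha b hb =>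
    congrArg Subtype.val (IsMulCommutative.is_comm.comm (⟨a, ha⟩ : (T : Subgroup G)) ⟨b, hb⟩)
  let H : Subgroup G :=
    { carrier := {x | x ∈ (T : Subgroup G) ∧ x * x = 1}
      one_mem' := ⟨one_mem _, one_mul 1⟩
      mul_mem' := fun {a b} ha hb => ⟨mul_mem ha.1 hb.1, by
        rw [mul_assoc, ← mul_assoc b, hcm b hb.1 a ha.1, mul_assoc a b, ← mul_assoc a a, ha.2,
          one_mul, hb.2]⟩
      inv_mem' := fun {a} ha => ⟨inv_mem ha.1, by rw [← _root_.mul_inv_rev, ha.2, inv_one]⟩ }
  have hle : ⁅(T : Subgroup G), normalizer ((T : Subgroup G) : Set G)⁆ ≤ H := by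
    rw [commutator_le]
    intro x hx n hn
    have hy : n * x⁻¹ * n⁻¹ ∈ (T : Subgroup G) := (mem_normalizer_iff.1 hn _).1 (inv_mem hx)
    have hzn : n * z * n⁻¹ = z := by
      have hwn : n * w * n⁻¹ ∈ (T : Subgroup G) := (mem_normalizer_iff.1 hn _).1 hw
      rcases hsq _ hwn with h | h
      · exfalso
        have : n * (w * w) * n⁻¹ = 1 := by rw [← h]; group
        rw [hwz] at this
        exact hz (conj_eq_one_iff.1 this)
      · rw [← hwz]
        calc n * (w * w) * n⁻¹ = n * w * n⁻¹ * (n * w * n⁻¹) := by group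
          _ = w * w := by rw [h, hwz]
    refine ⟨by rw [commutatorElement_def, mul_assoc, mul_assoc, ← mul_assoc n]; exact mul_mem hx hy, ?_⟩
    have e : ⁅x, n⁆ = x * (n * x⁻¹ * n⁻¹) := by rw [commutatorElement_def]; group
    rw [e, mul_assoc, ← mul_assoc (n * x⁻¹ * n⁻¹), hcm _ hy x hx, mul_assoc x, ← mul_assoc x x,
      show n * x⁻¹ * n⁻¹ * (n * x⁻¹ * n⁻¹) = n * (x * x)⁻¹ * n⁻¹ by group]
    rcases hsq x hx with h | h <;> rw [h]
    · group
    · rw [show n * z⁻¹ * n⁻¹ = (n * z * n⁻¹)⁻¹ by group, hzn, mul_inv_cancel]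
  rw [E8Cent.commutator_normalizer_eq hG] at hle
  exact hz (hwz.symm.trans (hle hw).2)

/-- The centralizer of an involution is solvable when the automizer has order 7. -/
theorem solvable_of_seven (S : Sylow 2 G) [IsMulCommutative (S : Subgroup G)]
    (h8 : Nat.card (S : Subgroup G) = 8) (hel : IsElementaryAbelian 2 (S : Subgroup G))
    (h7 : Nat.card (E8Cent.automizer S) = 7) {t : G} (htS : t ∈ (S : Subgroup G)) (ht : t ≠ 1) :
    Group.IsSolvable ↥(centralizer ({t} : Set G)) := by
  classical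
  haveI : Fact (Nat.Prime 2) := ⟨Nat.prime_two⟩
  haveI : Fact (Nat.Prime 7) := ⟨by norm_num⟩
  haveI := Fintype.ofFinite (S : Subgroup G)
  set C := centralizer ({t} : Set G)
  have hcm : ∀ a ∈ (S : Subgroup G), ∀ b ∈ (S : Subgroup G), a * b = b * a := fun a ha b hb =>
    congrArg Subtype.val (IsMulCommutative.is_comm.comm (⟨a, ha⟩ : (S : Subgroup G)) ⟨b, hb⟩)
  have hSC : (S : Subgroup G) ≤ C := fun s hs => mem_centralizer_singleton_iff.2 (hcm s hs t htS)
  let T : Sylow 2 C := S.subtype hSC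
  set t' : (S : Subgroup G) := ⟨t, htS⟩
  have ht' : t' ≠ 1 := fun h => ht (congrArg Subtype.val h)
  have hstab : MulAction.stabilizer (E8Cent.automizer S) t' = ⊥ := by
    haveI : Fact (Nat.card (E8Cent.automizer S)).Prime := ⟨by rw [h7]; norm_num⟩
    refine ((MulAction.stabilizer _ t').eq_bot_or_eq_top_of_prime_card).resolve_right fun h => ?_
    obtain ⟨s, hs1, hst⟩ : ∃ s : (S : Subgroup G), s ≠ 1 ∧ s ≠ t' := by
      by_contra hc
      push Not at hc
      have : Nat.card (S : Subgroup G) ≤ 2 := by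
        rw [Nat.card_eq_fintype_card (α := ↥(S : Subgroup G))]
        refine (Finset.card_le_card (t := ({1, t'} : Finset _)) fun s _ => ?_).trans Finset.card_le_two
        by_cases h1 : s = 1
        · simp [h1]
        · simp [hc s h1]
      omega
    obtain ⟨a, ha⟩ := E8Cent.transitive_of_seven h8 hel (h7 ▸ dvd_rfl) hs1 ht'
    exact hst (ha.symm.trans (MulAction.mem_stabilizer_iff.1 (h ▸ mem_top a)))
  have hNC : normalizer ((T : Subgroup C) : Set C) ≤ centralizer ((T : Subgroup C) : Set C) := by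
    intro n hn
    have hmem : ∀ c : C, c ∈ (T : Subgroup C) ↔ (c : G) ∈ (S : Subgroup G) := fun c => Iff.rfl
    have hnG : (n : G) ∈ normalizer ((S : Subgroup G) : Set G) := by
      rw [mem_normalizer_iff]
      intro x
      constructor
      · intro hx
        exact (hmem _).1 ((mem_normalizer_iff.1 hn ⟨x, hSC hx⟩).1 hx)
      · intro hx
        have hxC : x ∈ C := by
          have := mul_mem (mul_mem (inv_mem n.2) (hSC hx)) n.2
          simpa [mul_assoc] using this
        exact (hmem ⟨x, hxC⟩).1 ((mem_normalizer_iff.1 hn ⟨x, hxC⟩).2 hx)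
    set a : E8Cent.automizer S := ⟨_, ⟨n, hnG⟩, rfl⟩ with ha
    have hat : a ∈ MulAction.stabilizer (E8Cent.automizer S) t' := by
      refine MulAction.mem_stabilizer_iff.2 (Subtype.ext ?_)
      show (n : G) * t * (n : G)⁻¹ = t
      rw [mem_centralizer_singleton_iff.1 n.2, mul_inv_cancel_right]
    rw [hstab, mem_bot] at hat
    rw [mem_centralizer_iff]
    intro c hc
    refine Subtype.ext ?_
    have h := congrArg (fun b : E8Cent.automizer S =>
      (((b : MulAut (S : Subgroup G)) ⟨(c : G), hc⟩ : (S : Subgroup G)) : G)) hat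
    have h' : (n : G) * c * (n : G)⁻¹ = c := h
    exact (mul_inv_eq_iff_eq_mul.1 h').symm
  haveI : IsMulCommutative (T : Subgroup C) := ⟨⟨fun a b => Subtype.ext (Subtype.ext
    (hcm _ a.2 _ b.2))⟩⟩
  obtain ⟨P, K, hKn, hK⟩ := Cfsg.Lib.Fusion.hasNormalPComplement_of_normalizer_le_centralizer T hNC
  haveI := hKn
  have hKodd : Odd (Nat.card K) := by
    rw [Nat.odd_iff, ← hK.index_eq_card]
    have := P.not_dvd_index
    omega
  haveI : Group.IsSolvable K := Cfsg.Agent.S0205.result hKodd
  have hq : IsPGroup 2 (C ⧸ K) := by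
    obtain ⟨n, hn⟩ := IsPGroup.iff_card.1 P.2
    exact IsPGroup.of_card (n := n) (by rw [← hn, ← Subgroup.index_eq_card]; exact hK.symm.index_eq_card)
  haveI : Group.IsNilpotent (C ⧸ K) := hq.isNilpotent
  exact Group.isSolvable_of_ker_le_range K.subtype (QuotientGroup.mk' K) (by simp)

/-- All centralizers of involutions solvable: `PSL₂(8)`. -/
theorem exists_iso_of_solvable (hG : ¬ IsMulCommutative G) (T : Sylow 2 G)
    [IsMulCommutative (T : Subgroup G)] (h8 : Nat.card (T : Subgroup G) = 8)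
    (hC : ∀ t : G, orderOf t = 2 → Group.IsSolvable ↥(centralizer ({t} : Set G))) :
    ∃ (F : Type) (_ : Field F) (_ : Fintype F), Fintype.card F = 8 ∧
      Nonempty (G ≃* ProjectiveSpecialLinearGroup (Fin 2) F) := by
  haveI : Fact (Nat.Prime 2) := ⟨Nat.prime_two⟩
  rcases Cfsg.Agent.S3188.result T inferInstance hC with h | ⟨F, i, j, hq, N, hN, ⟨e⟩, -⟩
  · exact absurd ⟨⟨IsSimpleGroup.comm_iff_isSolvable.2 h⟩⟩ hG
  have hO : oddCore G = ⊥ := by
    rcases IsSimpleGroup.eq_bot_or_eq_top_of_normal (oddCore G) inferInstance with h | h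
    · exact h
    · exfalso
      have h1 := Cfsg.Lib.AbTwo.odd_oddCore (G := G)
      rw [h, card_top, Nat.odd_iff] at h1
      have h2 := (T : Subgroup G).card_subgroup_dvd_card
      rw [h8] at h2
      omega
  let f : G ≃* G ⧸ oddCore G := ((QuotientGroup.quotientMulEquivOfEq hO).trans
    QuotientGroup.quotientBot).symm
  haveI : Nontrivial (G ⧸ oddCore G) := f.toEquiv.symm.nontrivial
  haveI : IsSimpleGroup (G ⧸ oddCore G) := IsSimpleGroup.isSimpleGroup_of_surjective f.toMonoidHom f.surjective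
  have hN' : N = ⊤ := by
    refine (IsSimpleGroup.eq_bot_or_eq_top_of_normal N hN).resolve_left fun h => ?_
    subst h
    have h1 := Nat.card_congr e.toEquiv
    rw [card_bot] at h1
    have h2 := Cfsg.Lib.Linear.Two.card_PSL_two (F := F)
    rw [← h1, mul_one] at h2
    have h4 : 4 ≤ Fintype.card F := by
      rcases hq with ⟨-, h⟩ | ⟨n, hn, h⟩
      · omega
      · rw [h]; exact (Nat.pow_le_pow_right two_pos hn)
    have h3 : Nat.gcd 2 (Fintype.card F - 1) ≤ 2 := Nat.le_of_dvd two_pos (Nat.gcd_dvd_left _ _)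
    have h5 : 15 ≤ Fintype.card F ^ 2 - 1 := by
      have : 16 ≤ Fintype.card F ^ 2 := by nlinarith
      omega
    nlinarith
  let g : G ≃* ProjectiveSpecialLinearGroup (Fin 2) F :=
    (f.trans ((MulEquiv.subgroupCongr hN').trans Subgroup.topEquiv).symm).trans e
  obtain ⟨h8d, h16⟩ := card_sylow_two_eq T g h8 rfl
  rcases hq with ⟨h38, -⟩ | ⟨n, hn, hF⟩
  · exfalso
    have hc := Dickson.card_psl_mul (K := F) (by omega)
    obtain ⟨k, hk⟩ : ∃ k, Fintype.card F = 8 * k + Fintype.card F % 8 := ⟨Fintype.card F / 8, by omega⟩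
    have hmul : 16 ∣ Fintype.card F * (Fintype.card F ^ 2 - 1) := by
      rw [← hc]; exact Nat.mul_dvd_mul_left 2 h8d
    have h := (Nat.Coprime.pow_left 4
      (Nat.coprime_two_left.2 (Nat.odd_iff.2 (by omega)))).dvd_of_dvd_mul_left hmul
    rcases h38 with h' | h' <;> rw [h'] at hk
    · rw [show Fintype.card F ^ 2 = 16 * (4 * k * k + 3 * k) + 9 by rw [hk]; ring] at h; omega
    · rw [show Fintype.card F ^ 2 = 16 * (4 * k * k + 5 * k + 1) + 9 by rw [hk]; ring] at h; omega
  · refine ⟨F, i, j, ?_, ⟨g⟩⟩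
    have hev : Nat.gcd 2 (Fintype.card F - 1) = 1 := by
      refine Nat.coprime_two_left.2 ?_
      have : 2 ∣ Fintype.card F := hF ▸ dvd_pow_self 2 (by omega)
      have h4 : 4 ≤ Fintype.card F := hF ▸ (Nat.pow_le_pow_right two_pos hn)
      rw [Nat.odd_iff]; omega
    have hc := Cfsg.Lib.Linear.Two.card_PSL_two (F := F)
    rw [hev, one_mul] at hc
    rw [hc, hF] at h8d h16
    have hodd : Odd ((2 ^ n) ^ 2 - 1) := by
      have : 2 ∣ (2 ^ n) ^ 2 := dvd_pow (dvd_pow_self 2 (by omega)) two_ne_zero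
      have : 1 ≤ (2 ^ n) ^ 2 := Nat.one_le_pow _ _ (by positivity)
      rw [Nat.odd_iff]; omega
    have h3 : 3 ≤ n := by
      by_contra hlt
      obtain rfl : n = 2 := by omega
      norm_num at h8d
    have h3' : n ≤ 3 := by
      by_contra hlt
      exact h16 (dvd_mul_of_dvd_left ((show (16 : ℕ) = 2 ^ 4 by norm_num) ▸
        pow_dvd_pow 2 (by omega : 4 ≤ n)) _)
    rw [hF, show n = 3 by omega]; norm_num

/-- All centralizers of involutions solvable: the conclusion. -/
theorem of_solvable (hG : ¬ IsMulCommutative G) (T : Sylow 2 G) [IsMulCommutative (T : Subgroup G)]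
    (h8 : Nat.card (T : Subgroup G) = 8)
    (hC : ∀ t : G, orderOf t = 2 → Group.IsSolvable ↥(centralizer ({t} : Set G))) :
    EightConcl G :=
  Or.inl (exists_iso_of_solvable hG T h8 hC)

/-- The case of the elementary abelian Sylow subgroup. -/
theorem of_elementary (hG : ¬ IsMulCommutative G) (hW : CentClause G) (T : Sylow 2 G)
    [IsMulCommutative (T : Subgroup G)] (h8 : Nat.card (T : Subgroup G) = 8)
    (hel : IsElementaryAbelian 2 (T : Subgroup G)) : EightConcl G := by
  haveI : Fact (Nat.Prime 2) := ⟨Nat.prime_two⟩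
  by_cases hC : ∀ t : G, orderOf t = 2 → Group.IsSolvable ↥(centralizer ({t} : Set G))
  · exact of_solvable hG T h8 hC
  push Not at hC
  obtain ⟨t, ht, hns⟩ := hC
  have ht1 : t ≠ 1 := fun h => by rw [h, orderOf_one] at ht; omega
  obtain ⟨P, hP⟩ := (IsPGroup.of_card (n := 1) (by rw [Nat.card_zpowers, ht, pow_one]) :
    IsPGroup 2 (zpowers t)).exists_le_sylow
  obtain ⟨g, hg⟩ := MulAction.exists_smul_eq G P T
  set s := g * t * g⁻¹ with hs
  have hsT : s ∈ (T : Subgroup G) := by
    rw [← hg, Sylow.coe_subgroup_smul]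
    exact ⟨t, hP (mem_zpowers t), rfl⟩
  have hs2 : orderOf s = 2 := by
    rw [hs, show g * t * g⁻¹ = MulAut.conj g t from rfl, MulEquiv.orderOf_eq, ht]
  have hs1 : s ≠ 1 := fun h => ht1 (conj_eq_one_iff.1 h)
  have hnss : ¬ Group.IsSolvable ↥(centralizer ({s} : Set G)) := fun h => hns <| by
    have hmap : (centralizer ({t} : Set G)).map (MulAut.conj g).toMonoidHom ≤
        centralizer ({s} : Set G) := by
      rintro _ ⟨c, hc, rfl⟩
      rw [mem_centralizer_singleton_iff]
      show g * c * g⁻¹ * s = s * (g * c * g⁻¹)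
      have hc' : c * t = t * c := mem_centralizer_singleton_iff.1 hc
      rw [hs]
      calc g * c * g⁻¹ * (g * t * g⁻¹) = g * (c * t) * g⁻¹ := by group
        _ = _ := by rw [hc']; group
    haveI := h
    exact Group.isSolvable_of_isSolvable_injective (f := (inclusion hmap).comp
      (equivMapOfInjective _ _ (MulAut.conj g).injective).toMonoidHom)
      ((inclusion_injective hmap).comp (MulEquiv.injective _))
  obtain ⟨k, hk⟩ := E8Cent.seven_dvd_automizer hG h8 hel
  have h21 := E8Cent.card_automizer_dvd h8 hel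
  rw [hk] at h21
  rcases (Nat.dvd_prime Nat.prime_three).1 (Nat.dvd_of_mul_dvd_mul_left (by norm_num : 0 < 7)
      (show 7 * k ∣ 7 * 3 from h21)) with rfl | rfl
  · exact absurd (solvable_of_seven T h8 hel hk hsT hs1) hnss
  · obtain ⟨F, i, j, h3, ⟨e⟩⟩ := hW T h8 hel hk s hs2 hsT hnss
    have hab : ∀ P : Sylow 2 G, ∀ a b : P, a * b = b * a := fun P a b =>
      (AbTwo.abelian_of_one T inferInstance P).is_comm.comm a b
    rcases Walter8.main hab h3 s hs2 e with ⟨m, hm, -, hcard⟩ | ⟨-, hJ⟩
    · exact Or.inr (Or.inr (Or.inr (Or.inr ⟨inferInstance, m, hm, hcard⟩)))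
    · exact Or.inr (Or.inr (Or.inr (Or.inl hJ)))

/-- Simple groups with Sylow two-subgroups of order eight, given the centralizer clause. -/
theorem eight_concl (hG : ¬ IsMulCommutative G) (hW : CentClause G) (T : Sylow 2 G)
    (h8 : Nat.card (T : Subgroup G) = 8) : EightConcl G := by
  classical
  haveI : Fact (Nat.Prime 2) := ⟨Nat.prime_two⟩
  haveI := Fintype.ofFinite (T : Subgroup G)
  obtain ⟨z', hz'⟩ := exists_prime_orderOf_dvd_card' (G := (T : Subgroup G)) 2 (h8 ▸ by norm_num)
  have hz : orderOf (z' : G) = 2 := by rw [Subgroup.orderOf_coe, hz']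
  by_cases hu : ∀ x ∈ (T : Subgroup G), orderOf x = 2 → x = (z' : G)
  · exact (false_of_unique hG T hz z'.2 hu).elim
  push Not at hu
  obtain ⟨x, hx, hx2, hxz⟩ := hu
  by_cases hab : IsMulCommutative (T : Subgroup G)
  swap
  · obtain ⟨e⟩ := Cfsg.Agent.S1011.dihedral_of_card_eight h8 hab (z := z') (w := ⟨x, hx⟩) hz'
      ((Subgroup.orderOf_mk x hx).trans hx2) (fun h => hxz (congrArg Subtype.val h).symm)
    exact of_dihedral hG T h8 e
  haveI := hab
  by_cases hel : ∀ y : (T : Subgroup G), y * y = 1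
  · refine of_elementary hG hW T h8 ⟨hab, fun y hy => ?_⟩
    rw [pow_two]
    exact congrArg Subtype.val (hel ⟨y, hy⟩)
  push Not at hel
  obtain ⟨w, hw⟩ := hel
  exfalso
  have hmm : ∀ a b : (T : Subgroup G), a * b * (a * b) = a * a * (b * b) := fun a b => by
    rw [mul_assoc, ← mul_assoc b, ← IsMulCommutative.is_comm.comm a b, mul_assoc a b, ← mul_assoc a a]
  have hsq1 : ∀ {H : Type u} [Group H] {a : H}, orderOf a = 2 → a * a = 1 := fun {H} _ {a} h => by
    rw [← pow_two, ← h]; exact pow_orderOf_eq_one a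
  let sq : (T : Subgroup G) →* (T : Subgroup G) :=
    { toFun := fun y => y * y
      map_one' := one_mul 1
      map_mul' := hmm }
  -- the kernel of squaring has order at least four
  have hker : 4 ≤ Nat.card sq.ker := by
    have hm : ({1, z', ⟨x, hx⟩, z' * ⟨x, hx⟩} : Finset (T : Subgroup G)) ⊆
        Finset.univ.filter (· ∈ sq.ker) := by
      have e1 : z' * z' = 1 := hsq1 hz'
      have e2 : (⟨x, hx⟩ : (T : Subgroup G)) * ⟨x, hx⟩ = 1 := Subtype.ext (hsq1 hx2)
      intro y hy
      simp only [Finset.mem_insert, Finset.mem_singleton] at hy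
      simp only [Finset.mem_filter, Finset.mem_univ, true_and, MonoidHom.mem_ker]
      show y * y = 1
      rcases hy with rfl | rfl | rfl | rfl
      · exact one_mul 1
      · exact e1
      · exact e2
      · rw [hmm, e1, e2, one_mul]
    have h := Finset.card_le_card hm
    rw [← Fintype.card_subtype, ← Nat.card_eq_fintype_card] at h
    refine le_trans (le_of_eq ?_) h
    have hz1 : z' ≠ 1 := fun e => by rw [e, orderOf_one] at hz'; omega
    have hx1 : (⟨x, hx⟩ : (T : Subgroup G)) ≠ 1 := fun e => by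
      rw [show x = 1 from congrArg Subtype.val e, orderOf_one] at hx2; omega
    have hzx : z' ≠ ⟨x, hx⟩ := fun e => hxz (congrArg Subtype.val e).symm
    have hzx1 : z' * ⟨x, hx⟩ ≠ 1 := fun e => hzx <| by
      have h2 : z' * z' = 1 := hsq1 hz'
      exact mul_left_cancel (h2.trans e.symm)
    simp [hz1.symm, hx1.symm, hzx1.symm, hzx, hx1, hz1]
  have hrange : Nat.card sq.range ≤ 2 := by
    have h := sq.ker.card_mul_index
    rw [Subgroup.index_ker, h8] at h
    nlinarith
  have hsq : ∀ y : (T : Subgroup G), y * y = 1 ∨ y * y = w * w := by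
    intro y
    by_contra hc
    push Not at hc
    haveI := Fintype.ofFinite sq.range
    have hle : ({1, w * w, y * y} : Finset (T : Subgroup G)).card ≤ 2 := by
      refine le_trans ?_ hrange
      rw [Nat.card_eq_fintype_card]
      refine (Finset.card_le_card (t := Finset.univ.map ⟨Subtype.val, Subtype.val_injective⟩) ?_).trans
        (le_of_eq (Finset.card_map _))
      intro v hv
      simp only [Finset.mem_insert, Finset.mem_singleton] at hv
      simp only [Finset.mem_map, Finset.mem_univ, true_and, Function.Embedding.coeFn_mk]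
      refine ⟨⟨v, ?_⟩, rfl⟩
      rcases hv with rfl | rfl | rfl
      · exact one_mem _
      · exact ⟨w, rfl⟩
      · exact ⟨y, rfl⟩
    simp [hc.1.symm, hw.symm, hc.2.symm] at hle
  refine false_of_sq hG T (z := ((w * w : (T : Subgroup G)) : G)) (fun y hy => ?_) w.2 rfl
    (fun e => hw (Subtype.ext e))
  exact (hsq ⟨y, hy⟩).imp (congrArg Subtype.val) (congrArg Subtype.val)

end Cfsg.Lib.Walter3
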