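import Cfsg.Agent.Lib.Walter3.Def
import Cfsg.Agent.Lib.Walter3.CaseSplit
import Cfsg.Agent.Lib.WalterBig.Irreducible
import Cfsg.Agent.Lib.WalterBig.Components
import Cfsg.Agent.Lib.WalterBig.Setting
import Cfsg.Agent.Lib.Coprime.Generation
import Cfsg.Agent.Lib.Linear.SLBasic
import Cfsg.Agent.Lib.Linear.PSLSmall
import Cfsg.Agent.Lib.Dickson.KleinClasses
import Cfsg.Agent.S0252
import Cfsg.Agent.S0253

/-!
# Core-free groups with transitive elementary abelian Sylow two-subgroups of order eight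

They have a simple socle containing the Sylow subgroup, and a subgroup of a simple group of this
kind containing `C(t) = ⟨t⟩ × PSL₂(q)` and fusing the involutions of `S` is the whole group.
-/

set_option autoImplicit false
set_option linter.unusedSectionVars false
set_option linter.style.haveILetI false

namespace Cfsg.Lib.Walter3

open Subgroup Cfsg

universe u v

/-- The induction hypothesis on the centralizers of involutions. -/
def CentBelow (n : ℕ) : Prop :=
  ∀ (X : Type u) [Group X] [Finite X] [IsSimpleGroup X], Nat.card X < n → ¬ IsMulCommutative X → CentClause X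

local notation "PSL2[" F "]" => Matrix.ProjectiveSpecialLinearGroup (Fin 2) F

section Product

variable {C : Type u} [Group C] [Finite C] {F : Type v} [Field F] [Fintype F]

theorem sq_one_mem {R : Subgroup C} [R.Normal] (hR : Odd R.index) {x : C} (hx : x * x = 1) : x ∈ R := by
  have h1 : orderOf (QuotientGroup.mk' R x) ∣ Nat.gcd 2 R.index :=
    Nat.dvd_gcd (orderOf_dvd_of_pow_eq_one (by rw [pow_two, ← map_mul, hx, map_one]))
      (by rw [Subgroup.index_eq_card]; exact orderOf_dvd_natCard _)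
  rw [Nat.Coprime.gcd_eq_one (Nat.coprime_two_left.2 hR), Nat.dvd_one, orderOf_eq_one_iff,
    QuotientGroup.mk'_apply, QuotientGroup.eq_one_iff] at h1
  exact h1

theorem psl_simple (h4 : 4 ≤ Fintype.card F) : IsSimpleGroup PSL2[F] :=
  Linear.PSL_simple 2 le_rfl fun _ => by rw [Nat.card_eq_fintype_card]; exact h4

theorem two_dvd_psl (h4 : 4 ≤ Fintype.card F) : 2 ∣ Nat.card PSL2[F] := by
  have hcard := Cfsg.Lib.Linear.Two.card_PSL_two (F := F)
  rcases Nat.even_or_odd' (Fintype.card F) with ⟨m, hm | hm⟩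
  · have hg : Nat.gcd 2 (Fintype.card F - 1) = 1 :=
      Nat.coprime_two_left.2 (Nat.odd_iff.2 (by omega))
    rw [hg, one_mul, hm] at hcard
    exact ⟨m * ((2 * m) ^ 2 - 1), by rw [hcard, mul_assoc]⟩
  · have hg : Nat.gcd 2 (Fintype.card F - 1) = 2 := Nat.gcd_eq_left (by omega)
    rw [hg, hm, show (2 * m + 1) ^ 2 - 1 = 2 * (2 * (m * (m + 1))) by ring_nf; omega] at hcard
    exact ⟨(2 * m + 1) * (m * (m + 1)), by nlinarith⟩

theorem not_solvable (e : C ≃* Multiplicative (ZMod 2) × PSL2[F]) (h4 : 4 ≤ Fintype.card F) :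
    ¬ Group.IsSolvable C := fun h => by
  haveI := h
  haveI := psl_simple (F := F) h4
  haveI : Group.IsSolvable PSL2[F] := Group.isSolvable_of_surjective
    (f := (MonoidHom.snd _ _).comp e.toMonoidHom) (Prod.snd_surjective.comp e.surjective)
  have hc := (IsSimpleGroup.comm_iff_isSolvable (G := PSL2[F])).mpr inferInstance
  letI : CommGroup PSL2[F] := { (inferInstance : Group PSL2[F]) with mul_comm := hc }
  have hp : (Nat.card PSL2[F]).Prime := IsSimpleGroup.prime_card
  have h2 := (Nat.prime_dvd_prime_iff_eq Nat.prime_two hp).1 (two_dvd_psl h4)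
  have hcard := Cfsg.Lib.Linear.Two.card_PSL_two (F := F)
  rw [← h2] at hcard
  have h1 : 4 * 4 ≤ Fintype.card F ^ 2 := by rw [pow_two]; exact Nat.mul_le_mul h4 h4
  have h3 : 4 * 15 ≤ Fintype.card F * (Fintype.card F ^ 2 - 1) := Nat.mul_le_mul h4 (by omega)
  have h5 := Nat.gcd_le_left (Fintype.card F - 1) (by norm_num : 0 < 2)
  omega

theorem zmod_two_sq : ∀ z : Multiplicative (ZMod 2), z * z = 1 := by decide

theorem odd_normal_eq_bot (e : C ≃* Multiplicative (ZMod 2) × PSL2[F]) (h4 : 4 ≤ Fintype.card F)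
    {R : Subgroup C} [R.Normal] (hR : Odd (Nat.card R)) : R = ⊥ := by
  haveI := psl_simple (F := F) h4
  set p := (MonoidHom.snd (Multiplicative (ZMod 2)) PSL2[F]).comp e.toMonoidHom
  have hp : Function.Surjective p := Prod.snd_surjective.comp e.surjective
  rcases IsSimpleGroup.eq_bot_or_eq_top_of_normal (R.map p) (Normal.map inferInstance p hp) with h | h
  · rw [eq_bot_iff]
    intro r hr
    have h1 : (e r).2 = 1 := mem_bot.1 (h ▸ mem_map_of_mem p hr)
    have h2 : r * r = 1 := e.injective (by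
      rw [map_mul, map_one]
      exact Prod.ext (zmod_two_sq _) (by rw [Prod.snd_mul, h1, one_mul]; rfl))
    have h3 : orderOf r ∣ Nat.gcd 2 (Nat.card R) :=
      Nat.dvd_gcd (orderOf_dvd_of_pow_eq_one (by rw [pow_two, h2])) (by
        rw [← Subgroup.orderOf_mk r hr]; exact orderOf_dvd_natCard _)
    rw [Nat.Coprime.gcd_eq_one (Nat.coprime_two_left.2 hR), Nat.dvd_one, orderOf_eq_one_iff] at h3
    exact mem_bot.2 h3
  · exfalso
    have h2 : 2 ∣ Nat.card R := (two_dvd_psl (F := F) h4).trans (by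
      rw [← Subgroup.card_top (G := PSL2[F]), ← h]; exact card_map_dvd R p)
    obtain ⟨k, hk⟩ := hR
    omega

theorem eq_top_of_odd_index (e : C ≃* Multiplicative (ZMod 2) × PSL2[F]) (h4 : 4 ≤ Fintype.card F)
    {R : Subgroup C} [R.Normal] (hR : Odd R.index) : R = ⊤ := by
  haveI := psl_simple (F := F) h4
  haveI : Fact (Nat.Prime 2) := ⟨Nat.prime_two⟩
  have hz := zmod_two_sq
  set i := e.symm.toMonoidHom.comp (MonoidHom.inr (Multiplicative (ZMod 2)) PSL2[F])
  obtain ⟨x, hx⟩ := exists_prime_orderOf_dvd_card' (G := PSL2[F]) 2 (two_dvd_psl h4)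
  have hx2 : x * x = 1 := by
    have h := pow_orderOf_eq_one x
    simp only [hx] at h
    exact (pow_two x).symm.trans h
  rcases IsSimpleGroup.eq_bot_or_eq_top_of_normal (R.comap i) (Normal.comap inferInstance i) with h | h
  · have h1 : x ∈ R.comap i := sq_one_mem hR (by rw [← map_mul, hx2, map_one])
    rw [h, mem_bot] at h1
    rw [h1, orderOf_one] at hx
    omega
  · refine eq_top_iff.2 fun c _ => ?_
    have h1 : e.symm ((e c).1, 1) ∈ R := sq_one_mem hR (by
      rw [← map_mul, ← map_one e.symm]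
      exact congrArg e.symm (Prod.ext (hz _) (one_mul _)))
    have h2 : i (e c).2 ∈ R := mem_comap.1 (h ▸ mem_top _)
    have h3 := mul_mem h1 h2
    rwa [show e.symm ((e c).1, 1) * i (e c).2 = c from e.injective (by
      rw [map_mul, e.apply_symm_apply]
      show ((e c).1, (1 : PSL2[F])) * e (e.symm (1, (e c).2)) = e c
      rw [e.apply_symm_apply]; ext <;> simp)] at h3

/-- In `⟨t⟩ × PSL₂(q)` an elementary subgroup of order eight contains its centralizer, up to squares. -/
theorem sq_of_cent (e : C ≃* Multiplicative (ZMod 2) × PSL2[F]) (hodd : Fintype.card F % 2 = 1)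
    {S : Subgroup C} (h8 : Nat.card S = 8) (hsq : ∀ v ∈ S, v * v = 1) {c : C}
    (hc : c ∈ centralizer (S : Set C)) : c * c = 1 := by
  classical
  set p := (MonoidHom.snd (Multiplicative (ZMod 2)) PSL2[F]).comp e.toMonoidHom with hp
  haveI := Fintype.ofFinite S
  have hz := zmod_two_sq
  obtain ⟨a, ha⟩ : ∃ a : S, p a ≠ 1 := by
    by_contra h
    push Not at h
    have hi : Function.Injective fun s : S => (e (s : C)).1 := fun s s' hs =>
      Subtype.ext (e.injective (Prod.ext hs ((h s).trans (h s').symm)))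
    have := Nat.card_le_card_of_injective _ hi
    rw [h8, Nat.card_congr Multiplicative.toAdd, Nat.card_zmod] at this
    omega
  obtain ⟨b, hb, hab⟩ : ∃ b : S, p b ≠ 1 ∧ p b ≠ p a := by
    by_contra h
    push Not at h
    have hi : Function.Injective fun s : S =>
        ((e (s : C)).1, decide (p (s : C) = 1)) := fun s s' hs => by
      obtain ⟨h1, h2⟩ := Prod.mk.inj hs
      refine Subtype.ext (e.injective (Prod.ext h1 ?_))
      show p (s : C) = p (s' : C)
      by_cases h3 : p (s : C) = 1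
      · rw [h3, decide_eq_decide] at h2
        rw [h3, h2.1 rfl]
      · have h4 : p (s' : C) ≠ 1 := fun h5 => h3 ((decide_eq_decide.1 h2).2 h5)
        rw [h s h3, h s' h4]
    have := Nat.card_le_card_of_injective _ hi
    rw [h8, Nat.card_prod, Nat.card_congr Multiplicative.toAdd, Nat.card_zmod, Nat.card_eq_fintype_card,
      Fintype.card_bool] at this
    omega
  have hsq' : ∀ s : S, p s * p s = 1 := fun s => by rw [← map_mul, hsq s s.2, map_one]
  have hcomm : p a * p b = p b * p a := by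
    rw [← map_mul, ← map_mul]
    refine congrArg p ?_
    have h1 := inv_eq_of_mul_eq_one_left (hsq _ (mul_mem a.2 b.2))
    rw [mul_inv_rev, inv_eq_of_mul_eq_one_left (hsq _ a.2), inv_eq_of_mul_eq_one_left (hsq _ b.2)] at h1
    exact h1.symm
  obtain ⟨V, hV, hmem⟩ : ∃ V : Subgroup PSL2[F], IsKleinFour V ∧ ∀ z, z ∈ V →
      z = 1 ∨ z = p a ∨ z = p b ∨ z = p a * p b := by
    have hba : p b * (p a * p b) = p a := by
      rw [hcomm, ← mul_assoc, hsq', one_mul]
    have hab' : p a * (p a * p b) = p b := by rw [← mul_assoc, hsq', one_mul]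
    have habb : p a * p b * p b = p a := by rw [mul_assoc, hsq', mul_one]
    have haba : p a * p b * p a = p b := by rw [hcomm, mul_assoc, hsq', mul_one]
    have habab : p a * p b * (p a * p b) = 1 := by rw [← mul_assoc, haba, hsq']
    let V : Subgroup PSL2[F] :=
      { carrier := {1, p a, p b, p a * p b}
        one_mem' := Or.inl rfl
        mul_mem' := by
          rintro x y (rfl | rfl | rfl | rfl) (rfl | rfl | rfl | rfl) <;>
            simp [hsq', ← hcomm, hba, hab', habb, haba, habab]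
        inv_mem' := by
          rintro x (rfl | rfl | rfl | rfl)
          · simp
          · simp [inv_eq_of_mul_eq_one_left (hsq' a)]
          · simp [inv_eq_of_mul_eq_one_left (hsq' b)]
          · simp [inv_eq_of_mul_eq_one_left habab] }
    refine ⟨V, ?_, fun z hz => hz⟩
    have hne : p a * p b ≠ 1 := fun h => hab (by
      rw [← hab', h, mul_one])
    have h4 : Nat.card V = 4 := by
      show Nat.card ({1, p a, p b, p a * p b} : Set PSL2[F]) = 4
      rw [Nat.card_coe_set_eq, Set.ncard_insert_of_notMem (by simp [Ne.symm ha, Ne.symm hb, Ne.symm hne]),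
        Set.ncard_insert_of_notMem (by simp [Ne.symm hab, hb]),
        Set.ncard_pair (fun h => ha (by rw [← habb, ← h, hsq']))]
    refine ⟨h4, ?_⟩
    have h1 : Monoid.exponent V ∣ 2 := Monoid.exponent_dvd_of_forall_pow_eq_one fun g => Subtype.ext (by
      obtain ⟨g, hg⟩ := g
      show g ^ 2 = 1
      rw [pow_two]
      rcases hg with rfl | rfl | rfl | rfl
      · simp
      · exact hsq' a
      · exact hsq' b
      · exact habab)
    rcases (Nat.dvd_prime Nat.prime_two).1 h1 with h | h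
    · rw [Monoid.exp_eq_one_iff] at h
      have := Finite.card_le_one_iff_subsingleton.2 h
      omega
    · exact h
  haveI := hV
  have hca : p c * p a = p a * p c := by
    rw [← map_mul, ← map_mul, (mem_centralizer_iff.1 hc _ a.2)]
  have hcb : p c * p b = p b * p c := by
    rw [← map_mul, ← map_mul, (mem_centralizer_iff.1 hc _ b.2)]
  have hcV : p c ∈ V := Dickson.KleinClasses.centralizer_klein hodd V (mem_centralizer_iff.2 fun z hz => by
    rcases hmem z hz with rfl | rfl | rfl | rfl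
    · simp
    · exact hca.symm
    · exact hcb.symm
    · rw [← mul_assoc (p c), hca, mul_assoc, ← hcb, mul_assoc])
  refine e.injective ?_
  rw [map_mul, map_one]
  refine Prod.ext (hz _) ?_
  show p c * p c = 1
  exact congrArg Subtype.val (IsKleinFour.mul_self (⟨p c, hcV⟩ : V))

/-- Without a subgroup of order sixteen the field of a nonsolvable `2 × PSL₂(q)` may be taken odd. -/
theorem exists_odd_model {F : Type} [Field F] [Fintype F] (e : C ≃* Multiplicative (ZMod 2) × PSL2[F])
    (h3 : 3 ≤ Fintype.card F)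
    (hns : ¬ Group.IsSolvable C) (h16 : ¬ 16 ∣ Nat.card C) :
    ∃ (K : Type) (_ : Field K) (_ : Fintype K), (Fintype.card K % 8 = 3 ∨ Fintype.card K % 8 = 5) ∧
      5 ≤ Fintype.card K ∧ Nonempty (C ≃* Multiplicative (ZMod 2) × Matrix.ProjectiveSpecialLinearGroup (Fin 2) K) ∧
      (Fintype.card K = Fintype.card F ∨ Fintype.card K = 5) := by
  classical
  haveI : Fact (Nat.Prime 5) := ⟨by norm_num⟩
  haveI : Fact (Nat.Prime 2) := ⟨Nat.prime_two⟩
  have hcard := Cfsg.Lib.Linear.Two.card_PSL_two (F := F)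
  have hC : Nat.card C = 2 * Nat.card PSL2[F] := by
    rw [Nat.card_congr e.toEquiv, Nat.card_prod, Nat.card_congr Multiplicative.toAdd, Nat.card_zmod]
  rw [hC, show (16 : ℕ) = 2 * 8 from rfl, Nat.mul_dvd_mul_iff_left two_pos] at h16
  have h3' : Fintype.card F ≠ 3 := fun hq => hns <| by
    have h12 : Nat.card PSL2[F] = 12 := by
      rw [hq, show Nat.gcd 2 (3 - 1) = 2 by decide] at hcard
      omega
    haveI : Group.IsSolvable PSL2[F] := Recog.Icosa.solvable_of_lt_sixty _ PSL2[F] rfl (by omega)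
    exact Group.isSolvable_of_isSolvable_injective (f := e.toMonoidHom) e.injective
  obtain ⟨p, hp⟩ := CharP.exists F
  haveI := hp
  obtain ⟨a, hp', hF⟩ := FiniteField.card F p
  rcases Nat.Prime.eq_two_or_odd hp' with rfl | hodd
  · have h4 : Fintype.card F = 4 := by
      have hg : Nat.gcd 2 (Fintype.card F - 1) = 1 := Nat.coprime_two_left.2 (Nat.odd_iff.2 (by
        have : 2 ∣ Fintype.card F := hF ▸ dvd_pow_self 2 a.ne_zero
        omega))
      rw [hg, one_mul] at hcard
      by_contra h4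
      refine h16 (hcard ▸ Dvd.dvd.mul_right ?_ _)
      rw [hF] at h3 h4 ⊢
      refine pow_dvd_pow 2 (m := 3) ?_
      by_contra hlt
      have : (a : ℕ) = 1 ∨ (a : ℕ) = 2 := by have := a.pos; omega
      rcases this with h | h <;> simp [h] at h3 h4
    obtain ⟨φ⟩ := Cfsg.Agent.S0252.result (F := F) h4
    obtain ⟨ψ⟩ := Cfsg.Agent.S0253.result (F := ZMod 5) (ZMod.card 5)
    exact ⟨ZMod 5, inferInstance, inferInstance, Or.inr (by rw [ZMod.card]), (ZMod.card 5).ge,
      ⟨e.trans ((MulEquiv.refl _).prodCongr (φ.trans ψ.symm))⟩, Or.inr (ZMod.card 5)⟩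
  · have ho : Fintype.card F % 2 = 1 := by rw [hF, Nat.pow_mod, hodd, one_pow, Nat.one_mod]
    refine ⟨F, inferInstance, inferInstance, ?_, by omega, ⟨e⟩, Or.inl rfl⟩
    have hg : Nat.gcd 2 (Fintype.card F - 1) = 2 := Nat.gcd_eq_left (by omega)
    rw [hg] at hcard
    by_contra h38
    obtain ⟨k, hk⟩ : ∃ k, Fintype.card F = 8 * k + 1 ∨ Fintype.card F = 8 * k + 7 :=
      ⟨Fintype.card F / 8, by omega⟩
    refine h16 ?_
    rcases hk with hk | hk <;> rw [hk] at hcard
    · rw [show (8 * k + 1) ^ 2 - 1 = 16 * (4 * k ^ 2 + k) by ring_nf; omega] at hcard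
      exact ⟨(8 * k + 1) * (4 * k ^ 2 + k), by nlinarith⟩
    · rw [show (8 * k + 7) ^ 2 - 1 = 16 * (4 * k ^ 2 + 7 * k + 3) by ring_nf; omega] at hcard
      exact ⟨(8 * k + 7) * (4 * k ^ 2 + 7 * k + 3), by nlinarith⟩

end Product

section Socle

variable {X : Type u} [Group X] [Finite X]

/-- The centralizer of an element of a subgroup, in the subgroup. -/
def centSubEquiv (N : Subgroup X) {t : X} (ht : t ∈ N) :
    centralizer ({(⟨t, ht⟩ : N)} : Set N) ≃* ↥(N ⊓ Cg t) where
  toFun c := ⟨(c : N), (c : N).2, mem_Cg.2 (congrArg Subtype.val (mem_centralizer_singleton_iff.1 c.2))⟩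
  invFun c := ⟨⟨c, c.2.1⟩, mem_centralizer_singleton_iff.2 (Subtype.ext (mem_Cg.1 c.2.2))⟩
  left_inv _ := rfl
  right_inv _ := rfl
  map_mul' _ _ := rfl

theorem comm_of_sq {S : Subgroup X} (hsq : ∀ v ∈ S, v * v = 1) : IsMulCommutative S :=
  ⟨⟨fun a b => Subtype.ext (by
    have ha : (a : X)⁻¹ = a := inv_eq_of_mul_eq_one_left (hsq a a.2)
    have hb : (b : X)⁻¹ = b := inv_eq_of_mul_eq_one_left (hsq b b.2)
    have hab := inv_eq_of_mul_eq_one_left (hsq _ (mul_mem a.2 b.2))
    rw [mul_inv_rev, ha, hb] at hab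
    exact hab.symm)⟩⟩

/-- The socle of a core-free group with transitive elementary abelian Sylow subgroup of order eight. -/
theorem exists_socle (S : Sylow 2 X) (h8 : Nat.card (S : Subgroup X) = 8)
    (hsq : ∀ v ∈ (S : Subgroup X), v * v = 1) (htr : TransAt S ⊤) (hO : oddCore X = ⊥)
    (hns : ¬ Group.IsSolvable X) :
    ∃ N : Subgroup X, N.Normal ∧ IsSimpleGroup N ∧ ¬ IsMulCommutative N ∧ (S : Subgroup X) ≤ N ∧
      centralizer (N : Set X) = ⊥ := by
  classical
  haveI : Fact (Nat.Prime 2) := ⟨Nat.prime_two⟩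
  have hS := comm_of_sq hsq
  obtain ⟨K, hK⟩ : ∃ K : Subgroup X, IsComponent K := by
    by_contra h
    push Not at h
    exact hns (WalterBig.isSolvable_of_no_component hO S hS h)
  haveI hKs := WalterBig.component_simple hO S hS hK
  have hKna := WalterBig.component_not_comm hO S hS hK
  have hfour : ∀ L : Subgroup X, IsComponent L → 4 ≤ Nat.card ↥((S : Subgroup X) ⊓ L) := by
    intro L hL
    haveI := WalterBig.component_simple hO S hS hL
    obtain ⟨T, hT⟩ := WalterBig.component_sylow S hS hL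
    have h4 := WalterBig.four_le_card (WalterBig.component_not_comm hO S hS hL) T (comm_of_sq fun v hv => by
      rw [hT, mem_subgroupOf] at hv
      exact Subtype.ext (hsq _ hv))
    rw [hT] at h4
    rwa [← inf_subgroupOf_right, Nat.card_congr (subgroupOfEquivOfLe inf_le_right).toEquiv] at h4
  have huniq : ∀ L : Subgroup X, IsComponent L → L = K := by
    intro L hL
    by_contra hne
    have hc := WalterBig.component_disjoint hO S hS hK hL (Ne.symm hne)
    have hbot : ((S : Subgroup X) ⊓ K) ⊓ ((S : Subgroup X) ⊓ L) = ⊥ := by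
      rw [eq_bot_iff, ← WalterBig.inf_centralizer_component hO S hS hK]
      exact fun x hx => ⟨hx.1.2, hc hx.2.2⟩
    have hdis : Disjoint ((S : Subgroup X) ⊓ K) ((S : Subgroup X) ⊓ L) := disjoint_iff.2 hbot
    have hle := Nat.card_le_card_of_injective
      (fun p : ↥((S : Subgroup X) ⊓ K) × ↥((S : Subgroup X) ⊓ L) =>
        (⟨(p.1 : X) * (p.2 : X), mul_mem p.1.2.1 p.2.2.1⟩ : (S : Subgroup X)))
      fun p q e => mul_injective_of_disjoint hdis (congrArg Subtype.val e)
    rw [Nat.card_prod, h8] at hle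
    nlinarith [hfour K hK, hfour L hL]
  haveI hKn : K.Normal := normalizer_eq_top_iff.1 (eq_top_iff.2 fun g _ =>
    mem_normalizer_of_cj_eq (huniq _ (Core.IsComponent.map_conj hK g)))
  have hSK : (S : Subgroup X) ≤ K := by
    obtain ⟨⟨w, hw⟩, hw1⟩ := ne_bot_iff_exists_ne_one.1 (WalterBig.inf_component_ne_bot S hS hK)
    intro b hb
    rcases eq_or_ne b 1 with rfl | hb1
    · exact one_mem _
    obtain ⟨n, -, -, e⟩ := htr w b ⟨hw.1, fun h => hw1 (Subtype.ext h)⟩ ⟨hb, hb1⟩
    rw [← e]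
    exact hKn.conj_mem w hw.2 n
  refine ⟨K, hKn, hKs, hKna, hSK, ?_⟩
  rw [eq_bot_iff, ← hO]
  refine ZStar.le_oddCore normal_centralizer (Nat.not_even_iff_odd.1 fun he => ?_)
  obtain ⟨c, hc⟩ := exists_prime_orderOf_dvd_card' 2 (even_iff_two_dvd.1 he)
  have hcK : (c : X) ∈ K :=
    sq_one_mem (R := K) (Nat.odd_iff.2 (by
      have := (S.not_dvd_index)
      have h2 : K.index ∣ (S : Subgroup X).index := index_dvd_of_le hSK
      by_contra hne
      exact this ((Nat.dvd_of_mod_eq_zero (by omega)).trans h2)))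
      (by rw [← Subgroup.coe_mul, ← pow_two, ← hc, pow_orderOf_eq_one, Subgroup.coe_one])
  have h1 : (c : X) ∈ K ⊓ centralizer (K : Set X) := ⟨hcK, c.2⟩
  rw [WalterBig.inf_centralizer_component hO S hS hK, mem_bot] at h1
  rw [← Subgroup.orderOf_coe, h1, orderOf_one] at hc
  omega

theorem automizer_eq_twentyone (hna : ¬ IsMulCommutative X) [IsSimpleGroup X] (S : Sylow 2 X)
    (h8 : Nat.card (S : Subgroup X) = 8) (hsq : ∀ v ∈ (S : Subgroup X), v * v = 1) {t : X}
    (htS : t ∈ (S : Subgroup X)) (ht : t ≠ 1) (hns : ¬ Group.IsSolvable ↥(Cg t)) :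
    Nat.card (E8Cent.automizer S) = 21 := by
  haveI := comm_of_sq hsq
  have hel : IsElementaryAbelian 2 (S : Subgroup X) := ⟨inferInstance, fun a ha => by rw [pow_two]; exact hsq a ha⟩
  obtain ⟨k, hk⟩ := E8Cent.seven_dvd_automizer hna h8 hel
  have h21 := E8Cent.card_automizer_dvd h8 hel
  rw [hk] at h21
  rcases (Nat.dvd_prime Nat.prime_three).1 (Nat.dvd_of_mul_dvd_mul_left (by norm_num : 0 < 7)
      (show 7 * k ∣ 7 * 3 from h21)) with rfl | rfl
  · exact absurd (solvable_of_seven S h8 hel hk htS ht) hns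
  · exact hk

theorem transAt_top (hna : ¬ IsMulCommutative X) [IsSimpleGroup X] (S : Sylow 2 X)
    (h8 : Nat.card (S : Subgroup X) = 8) (hsq : ∀ v ∈ (S : Subgroup X), v * v = 1) : TransAt S ⊤ := by
  obtain ⟨x, hx, htr⟩ := WalterBig.exists_transitive hna S (comm_of_sq hsq) hsq (Or.inr h8)
  intro a b ha hb
  obtain ⟨i, hi⟩ := htr a ha.1 ha.2 b hb.1 hb.2
  exact ⟨x ^ i, mem_top _, pow_mem hx i, hi⟩

/-- An odd subgroup normalized by `S` and meeting every `C(a)` trivially is trivial. -/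
theorem eq_bot_of_pieces (S : Sylow 2 X) (h8 : Nat.card (S : Subgroup X) = 8)
    (hsq : ∀ v ∈ (S : Subgroup X), v * v = 1) {Q : Subgroup X}
    (hn : (S : Subgroup X) ≤ normalizer (Q : Set X)) (hQ : Odd (Nat.card Q))
    (h : ∀ a, Pt S a → Q ⊓ Cg a = ⊥) : Q = ⊥ := by
  haveI := comm_of_sq hsq
  have hcyc : ¬ IsCyclic (S : Subgroup X) := fun hc => by
    obtain ⟨g, hg⟩ := hc.exists_generator
    have h1 := orderOf_eq_card_of_forall_mem_zpowers hg
    have h2 : orderOf g ∣ 2 := orderOf_dvd_of_pow_eq_one (by rw [pow_two]; exact Subtype.ext (hsq g g.2))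
    rw [h1, h8] at h2
    norm_num at h2
  have hle := Cfsg.Lib.Coprime.le_iSup_centralizer_of_not_isCyclic (A := (S : Subgroup X)) hcyc hn
    (by rw [h8]; exact Nat.Coprime.pow_left 3 (Nat.coprime_two_left.2 hQ))
  rw [eq_bot_iff]
  exact hle.trans (iSup_le fun a => (h a a.2).le)

/-- A subgroup containing `C(t) = ⟨t⟩ × PSL₂(q)` and fusing the involutions of `S` is everything. -/
theorem eq_top_of_cent_le [IsSimpleGroup X] (_hna : ¬ IsMulCommutative X) (S : Sylow 2 X)
    (h8 : Nat.card (S : Subgroup X) = 8) (hsq : ∀ v ∈ (S : Subgroup X), v * v = 1) {t : X} (ht : Pt S t)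
    {F : Type v} [Field F] [Fintype F] (h4 : 4 ≤ Fintype.card F)
    (e : Cg t ≃* Multiplicative (ZMod 2) × PSL2[F]) (H : Subgroup X) (hC : Cg t ≤ H) (htr : TransAt S H) :
    H = ⊤ := by
  classical
  haveI : Fact (Nat.Prime 2) := ⟨Nat.prime_two⟩
  have hS := comm_of_sq hsq
  have hSH : (S : Subgroup X) ≤ H := fun s hs => hC (mem_Cg.2 (congrArg Subtype.val
    (hS.is_comm.comm (⟨s, hs⟩ : (S : Subgroup X)) ⟨t, ht.1⟩)))
  -- the odd core of `H`
  have hOt : cor H ⊓ Cg t = ⊥ := by
    haveI : ((cor H ⊓ Cg t).subgroupOf (Cg t)).Normal :=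
      (normal_subgroupOf_iff_le_normalizer inf_le_right).2 ((le_inf (hC.trans (le_normalizer_cor H))
        le_normalizer).trans inf_normalizer_le_normalizer_inf)
    have h1 := odd_normal_eq_bot e h4 (R := (cor H ⊓ Cg t).subgroupOf (Cg t)) (by
      rw [Nat.card_congr (subgroupOfEquivOfLe inf_le_right).toEquiv]
      exact (odd_cor H).of_dvd_nat (card_dvd_of_le inf_le_left))
    rw [subgroupOf_eq_bot, disjoint_iff, inf_assoc, inf_idem] at h1
    exact h1
  have hO : oddCore H = ⊥ := by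
    have h1 : cor H = ⊥ := eq_bot_of_pieces S h8 hsq (hSH.trans (le_normalizer_cor H)) (odd_cor H)
      fun a ha => by
        obtain ⟨n, hnH, -, hn⟩ := htr t a ht ha
        rw [← hn, ← cj_Cg, ← cj_eq_self (le_normalizer_cor H hnH), ← cj_inf, hOt]
        exact Subgroup.map_bot _
    rwa [cor, map_eq_bot_iff_of_injective _ H.subtype_injective] at h1
  -- the socle of `H`
  let T : Sylow 2 H := S.subtype hSH
  have hT8 : Nat.card (T : Subgroup H) = 8 :=
    (Nat.card_congr (subgroupOfEquivOfLe hSH).toEquiv).trans h8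
  have hTsq : ∀ v ∈ (T : Subgroup H), v * v = 1 := fun v hv => Subtype.ext (hsq _ hv)
  have hTtr : TransAt T ⊤ := by
    intro a b ha hb
    obtain ⟨n, hnH, hnS, e'⟩ := htr a b ⟨ha.1, fun h => ha.2 (Subtype.ext h)⟩
      ⟨hb.1, fun h => hb.2 (Subtype.ext h)⟩
    refine ⟨⟨n, hnH⟩, mem_top _, ?_, Subtype.ext e'⟩
    rw [mem_normalizer_iff]
    exact fun x => mem_normalizer_iff.1 hnS (x : X)
  haveI := psl_simple (F := F) h4
  have hns : ¬ Group.IsSolvable H := fun h => by
    haveI := h
    exact not_solvable e h4 (Group.isSolvable_of_isSolvable_injective (inclusion_injective hC))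
  obtain ⟨K, hKn, hKs, hKna, hSK, -⟩ := exists_socle T hT8 hTsq hTtr hO hns
  haveI := hKn
  haveI := hKs
  have hKodd : Odd K.index := by
    refine Nat.not_even_iff_odd.1 fun he => T.not_dvd_index ?_
    exact (even_iff_two_dvd.1 he).trans (index_dvd_of_le hSK)
  set t' : H := ⟨t, hSH ht.1⟩ with ht'
  have ht'K : t' ∈ K := hSK ht.1
  have hCK : Cg t ≤ K.map H.subtype := by
    haveI : (K.comap (inclusion hC)).Normal := Normal.comap inferInstance _
    have htop := eq_top_of_odd_index e h4 (R := K.comap (inclusion hC)) (hKodd.of_dvd_nat (by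
      rw [index_comap]; exact relIndex_dvd_index_of_normal _ _))
    intro c hc
    exact ⟨⟨c, hC hc⟩, mem_comap.1 (htop ▸ mem_top (⟨c, hc⟩ : Cg t)), rfl⟩
  set K₀ := K.map H.subtype with hK₀
  let κ : K ≃* K₀ := equivMapOfInjective K _ H.subtype_injective
  haveI : IsSimpleGroup K₀ := MulEquiv.isSimpleGroup κ.symm
  have ht₀ : t ∈ K₀ := ⟨t', ht'K, rfl⟩
  have eK : centralizer ({(⟨t, ht₀⟩ : K₀)} : Set K₀) ≃* Multiplicative (ZMod 2) × PSL2[F] :=
    ((centSubEquiv K₀ ht₀).trans (MulEquiv.subgroupCongr (inf_eq_right.2 hCK))).trans e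
  have hab : ∀ {Y : Subgroup X} (P : Sylow 2 Y), ∀ a b : P, a * b = b * a := fun {Y} P a b => by
    obtain ⟨P', hP'⟩ := (P.isPGroup'.map Y.subtype).exists_le_sylow
    have := AbTwo.abelian_of_one S hS P'
    refine Subtype.ext (Subtype.ext ?_)
    exact (congrArg Subtype.val (this.is_comm.comm (⟨((a : Y) : X), hP' ⟨a.1, a.2, rfl⟩⟩ : (P' : Subgroup X))
      ⟨((b : Y) : X), hP' ⟨b.1, b.2, rfl⟩⟩) :)
  have ht2 : orderOf t = 2 := orderOf_eq_prime (by rw [pow_two]; exact hsq t ht.1) ht.2
  have h3 : 3 ≤ Fintype.card F := by omega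
  have hX := Walter8.main (fun P a b => (AbTwo.abelian_of_one S hS P).is_comm.comm a b) h3 t ht2 e
  have hK := Walter8.main (fun P => hab P) h3 (⟨t, ht₀⟩ : K₀)
    (by rw [← Subgroup.orderOf_coe]; exact ht2) eK
  have hcard : Nat.card K₀ = Nat.card X := by
    have hq : ∀ m, Fintype.card F = 3 ^ (2 * m + 1) → ¬ (Fintype.card F = 4 ∨ Fintype.card F = 5) := by
      intro m hm
      have h31 : 3 ∣ Fintype.card F := hm ▸ dvd_pow_self 3 (by omega)
      omega
    rcases hX with ⟨m, -, hm, hcX⟩ | ⟨hqX, hJX⟩ <;> rcases hK with ⟨m', -, hm', hcK⟩ | ⟨hqK, hJK⟩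
    · have : m = m' := by
        have := Nat.pow_right_injective (le_refl 2 |>.trans (by norm_num : 2 ≤ 3)) (hm.symm.trans hm')
        omega
      rw [hcX, hcK, this]
    · exact absurd hqK (hq m hm)
    · exact absurd hqX (hq m' hm')
    · rw [hJK.2, hJX.2]
  exact eq_top_iff.2 (((card_eq_iff_eq_top K₀).1 hcard).ge.trans (map_subtype_le _))

/-- An odd element centralizing `C_N(t) = ⟨t⟩ × PSL₂(q)` in a group with socle `N` is trivial. -/
theorem eq_one_of_centralizes {N : Subgroup X} [N.Normal] [IsSimpleGroup N] (hna : ¬ IsMulCommutative N)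
    (hC : centralizer (N : Set X) = ⊥) (S : Sylow 2 X) (h8 : Nat.card (S : Subgroup X) = 8)
    (hsq : ∀ v ∈ (S : Subgroup X), v * v = 1) (hSN : (S : Subgroup X) ≤ N) {t : X} (ht : Pt S t)
    {F : Type v} [Field F] [Fintype F] (hF : Fintype.card F % 2 = 1) (h4 : 4 ≤ Fintype.card F)
    (e : ↥(N ⊓ Cg t) ≃* Multiplicative (ZMod 2) × PSL2[F]) {x : X} (hodd : Odd (orderOf x))
    (hx : x ∈ centralizer ((N ⊓ Cg t : Subgroup X) : Set X)) : x = 1 := by
  haveI : Fact (Nat.Prime 2) := ⟨Nat.prime_two⟩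
  have hS := comm_of_sq hsq
  have hSt : ∀ s ∈ (S : Subgroup X), s ∈ N ⊓ Cg t := fun s hs => ⟨hSN hs, mem_Cg.2 (congrArg Subtype.val
    (hS.is_comm.comm (⟨s, hs⟩ : (S : Subgroup X)) ⟨t, ht.1⟩))⟩
  let T : Sylow 2 N := S.subtype hSN
  have hT8 : Nat.card (T : Subgroup N) = 8 :=
    (Nat.card_congr (subgroupOfEquivOfLe hSN).toEquiv).trans h8
  have hTsq : ∀ v ∈ (T : Subgroup N), v * v = 1 := fun v hv => Subtype.ext (hsq _ hv)
  have htT : Pt T ⟨t, hSN ht.1⟩ := ⟨ht.1, fun h => ht.2 (congrArg Subtype.val h)⟩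
  set D : Subgroup N := (centralizer ({x} : Set X)).comap N.subtype with hD
  have hxs : ∀ s ∈ (S : Subgroup X), x * s = s * x := fun s hs => (mem_centralizer_iff.1 hx s (hSt s hs)).symm
  -- `x` centralizes the elements of `N` normalizing `S`
  have hnorm : ∀ n : N, n ∈ normalizer ((T : Subgroup N) : Set N) → n ∈ D := by
    intro n hn
    have hnS : ∀ s ∈ (S : Subgroup X), (n : X) * s * (n : X)⁻¹ ∈ (S : Subgroup X) := fun s hs =>
      (mem_normalizer_iff.1 hn ⟨s, hSN hs⟩).1 hs
    have hnS' : ∀ s ∈ (S : Subgroup X), (n : X)⁻¹ * s * (n : X) ∈ (S : Subgroup X) := fun s hs => by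
      have := (mem_normalizer_iff.1 (inv_mem hn) ⟨s, hSN hs⟩).1 hs
      have h' : (n : X)⁻¹ * s * ((n : X)⁻¹)⁻¹ ∈ (S : Subgroup X) := this
      rwa [inv_inv] at h'
    -- the commutator centralizes `S`
    set c := (n : X) * x * (n : X)⁻¹ * x⁻¹ with hc
    have hcN : c ∈ N := by
      rw [hc, show (n : X) * x * (n : X)⁻¹ * x⁻¹ = n * (x * (n : X)⁻¹ * x⁻¹) by group]
      exact mul_mem n.2 (‹N.Normal›.conj_mem _ (inv_mem n.2) x)
    have hcs : ∀ s ∈ (S : Subgroup X), c * s = s * c := by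
      intro s hs
      have h1 : x⁻¹ * s = s * x⁻¹ := by
        calc x⁻¹ * s = x⁻¹ * (s * x) * x⁻¹ := by group
          _ = x⁻¹ * (x * s) * x⁻¹ := by rw [hxs s hs]
          _ = s * x⁻¹ := by group
      have h2 : (n : X) * x * (n : X)⁻¹ * s = s * ((n : X) * x * (n : X)⁻¹) := by
        calc (n : X) * x * (n : X)⁻¹ * s = n * (x * ((n : X)⁻¹ * s * n)) * (n : X)⁻¹ := by group
          _ = n * (((n : X)⁻¹ * s * n) * x) * (n : X)⁻¹ := by rw [hxs _ (hnS' s hs)]
          _ = _ := by group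
      calc c * s = (n : X) * x * (n : X)⁻¹ * (x⁻¹ * s) := by rw [hc]; group
        _ = (n : X) * x * (n : X)⁻¹ * s * x⁻¹ := by rw [h1]; group
        _ = s * c := by rw [h2, hc]; group
    have hcC : c ∈ N ⊓ Cg t := ⟨hcN, mem_Cg.2 (hcs t ht.1)⟩
    have hcx : c * x = x * c := mem_centralizer_iff.1 hx c hcC
    have hc2 : c * c = 1 := by
      have hcS : c ∈ centralizer ((S : Subgroup X) : Set X) :=
        mem_centralizer_iff.2 fun s hs => (hcs s hs).symm
      -- an element of `C_N(S)` lies in the image of the self-centralizing Sylow subgroup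
      have := sq_of_cent e hF (S := (S : Subgroup X).subgroupOf (N ⊓ Cg t))
        ((Nat.card_congr (subgroupOfEquivOfLe (fun s hs => hSt s hs)).toEquiv).trans h8)
        (fun v hv => Subtype.ext (hsq _ hv)) (c := ⟨c, hcC⟩)
        (mem_centralizer_iff.2 fun v hv => Subtype.ext (mem_centralizer_iff.1 hcS _ hv))
      exact congrArg Subtype.val this
    have hnx : orderOf (c * x) = orderOf x := by
      rw [show c * x = MulAut.conj (n : X) x by rw [hc, MulAut.conj_apply]; group]
      exact MulEquiv.orderOf_eq _ _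
    have hpow : ((c * x) ^ orderOf x) = 1 := by rw [← hnx]; exact pow_orderOf_eq_one _
    rw [(show Commute c x from hcx).mul_pow, pow_orderOf_eq_one, mul_one] at hpow
    obtain ⟨k, hk⟩ := hodd
    rw [hk, pow_succ, pow_mul, pow_two, hc2, one_pow, one_mul] at hpow
    refine mem_centralizer_singleton_iff.2 ?_
    show (n : X) * x = x * n
    rw [hc, mul_inv_eq_one, mul_inv_eq_iff_eq_mul] at hpow
    exact hpow
  have hDC : Cg (⟨t, hSN ht.1⟩ : N) ≤ D := fun c hc => mem_centralizer_singleton_iff.2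
    (mem_centralizer_iff.1 hx (c : X) ⟨c.2, mem_Cg.2 (congrArg Subtype.val (mem_Cg.1 hc))⟩)
  have htr : TransAt T D := fun a b ha hb => by
    obtain ⟨n, -, hn, e'⟩ := transAt_top hna T hT8 hTsq a b ha hb
    exact ⟨n, hnorm n hn, hn, e'⟩
  have htop := eq_top_of_cent_le hna T hT8 hTsq htT h4 ((centSubEquiv N (hSN ht.1)).trans e) D hDC htr
  rw [← mem_bot, ← hC, mem_centralizer_iff]
  intro y hy
  exact mem_centralizer_singleton_iff.1 (show (⟨y, hy⟩ : N) ∈ D from htop ▸ mem_top _)

end Socle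

end Cfsg.Lib.Walter3
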