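import Cfsg.Agent.Lib.Walter3.Plane

/-!
# Coprime action of the Sylow subgroup on odd subgroups
-/

set_option autoImplicit false
set_option linter.unusedSectionVars false
set_option linter.style.haveILetI false

namespace Cfsg.Lib.Walter3

open Subgroup Cfsg
open scoped commutatorElement

universe u

variable {G : Type u} [Group G] [Finite G]

theorem card_sup_dvd {N A : Subgroup G} (hAN : A ≤ normalizer (N : Set G)) :
    Nat.card ↥(N ⊔ A) ∣ Nat.card N * Nat.card A := by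
  set H := normalizer (N : Set G)
  have h := Cfsg.Lib.Core.card_sup_dvd_mul (A.subgroupOf H) (N.subgroupOf H)
  rw [← subgroupOf_sup hAN Subgroup.le_normalizer,
    Nat.card_congr (subgroupOfEquivOfLe (sup_le hAN Subgroup.le_normalizer)).toEquiv,
    Nat.card_congr (subgroupOfEquivOfLe hAN).toEquiv,
    Nat.card_congr (subgroupOfEquivOfLe (Subgroup.le_normalizer : N ≤ H)).toEquiv] at h
  rwa [sup_comm, mul_comm]

theorem odd_sup {N A : Subgroup G} (hAN : A ≤ normalizer (N : Set G)) (hN : Odd (Nat.card N))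
    (hA : Odd (Nat.card A)) : Odd (Nat.card ↥(N ⊔ A)) :=
  (hN.mul hA).of_dvd_nat (card_sup_dvd hAN)

theorem odd_of_le {H K : Subgroup G} (hle : H ≤ K) (hK : Odd (Nat.card K)) : Odd (Nat.card H) :=
  hK.of_dvd_nat (card_dvd_of_le hle)

theorem odd_orderOf {K : Subgroup G} (hK : Odd (Nat.card K)) {y : G} (hy : y ∈ K) : Odd (orderOf y) :=
  hK.of_dvd_nat (Subgroup.orderOf_mk y hy ▸ orderOf_dvd_natCard (⟨y, hy⟩ : K))

theorem eq_one_of_sq_odd {y : G} (ho : Odd (orderOf y)) (h2 : y * y = 1) : y = 1 := by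
  have hd : orderOf y ∣ 2 := orderOf_dvd_of_pow_eq_one (by rw [pow_two, h2])
  rcases (Nat.dvd_prime Nat.prime_two).1 hd with h | h
  · exact orderOf_eq_one_iff.1 h
  · rw [h] at ho; exact absurd ho (by decide)

theorem odd_of_pGroup {p : ℕ} (hp : p.Prime) (hp2 : p ≠ 2) {Q : Subgroup G} (hQ : IsPGroup p Q) :
    Odd (Nat.card Q) := by
  haveI := Fact.mk hp
  obtain ⟨i, hi⟩ := IsPGroup.iff_card.1 hQ
  rw [hi]
  exact (hp.odd_of_ne_two hp2).pow

theorem pGroup_cj {p : ℕ} {Q : Subgroup G} (hQ : IsPGroup p Q) (g : G) : IsPGroup p (cj g Q) :=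
  hQ.map _

variable {S : Sylow 2 G}

/-- An `S`-invariant `p`-subgroup of `K`. -/
structure Inv (p : ℕ) (S : Sylow 2 G) (K Q : Subgroup G) : Prop where
  le : Q ≤ K
  pgrp : IsPGroup p Q
  norm : (S : Subgroup G) ≤ normalizer (Q : Set G)

/-- A maximal `S`-invariant `p`-subgroup of `K`. -/
structure MaxIn (p : ℕ) (S : Sylow 2 G) (K Q : Subgroup G) : Prop extends Inv p S K Q where
  max : ∀ R, Inv p S K R → Q ≤ R → R = Q

theorem Inv.mono {p : ℕ} {K L Q : Subgroup G} (h : Inv p S K Q) (hKL : K ≤ L) : Inv p S L Q :=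
  ⟨h.le.trans hKL, h.pgrp, h.norm⟩

theorem exists_maxIn_ge {p : ℕ} {K U : Subgroup G} (hU : Inv p S K U) :
    ∃ Q, MaxIn p S K Q ∧ U ≤ Q := by
  obtain ⟨Q, hUQ, hQ, hmax⟩ := (Set.toFinite {Q : Subgroup G | Inv p S K Q}).exists_le_maximal
    (a := U) hU
  exact ⟨Q, ⟨hQ, fun R hR hle => le_antisymm (hmax hR hle) hle⟩, hUQ⟩

theorem exists_maxIn (p : ℕ) (S : Sylow 2 G) (K : Subgroup G) : ∃ Q, MaxIn p S K Q := by
  obtain ⟨Q, hQ, -⟩ := exists_maxIn_ge (p := p) (S := S) (K := K) (U := ⊥)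
    ⟨bot_le, IsPGroup.of_bot, fun x _ => by
      rw [normalizer_eq_top_iff.2 inferInstance]; exact mem_top x⟩
  exact ⟨Q, hQ⟩

/-- Centralizing modulo an invariant subgroup extends to joins. -/
theorem commutator_sup_le {Q A B O : Subgroup G} (hA : ⁅Q, A⁆ ≤ O) (hB : ⁅Q, B⁆ ≤ O)
    (hAO : A ≤ normalizer (O : Set G)) (hBO : B ≤ normalizer (O : Set G)) : ⁅Q, A ⊔ B⁆ ≤ O := by
  rw [commutator_le]
  intro q hq x hx
  let T : Subgroup G :=
    { carrier := {x | x ∈ normalizer (O : Set G) ∧ ⁅q, x⁆ ∈ O}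
      one_mem' := ⟨one_mem _, by simp⟩
      mul_mem' := by
        rintro x y ⟨hx, hx'⟩ ⟨hy, hy'⟩
        refine ⟨mul_mem hx hy, ?_⟩
        have : ⁅q, x * y⁆ = ⁅q, x⁆ * (x * ⁅q, y⁆ * x⁻¹) := by
          simp only [commutatorElement_def]; group
        rw [this]
        exact mul_mem hx' ((mem_normalizer_iff.1 hx _).1 hy')
      inv_mem' := by
        rintro x ⟨hx, hx'⟩
        refine ⟨inv_mem hx, ?_⟩
        have : ⁅q, x⁻¹⁆ = x⁻¹ * ⁅q, x⁆⁻¹ * (x⁻¹)⁻¹ := by
          simp only [commutatorElement_def]; group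
        rw [this]
        exact (mem_normalizer_iff.1 (inv_mem hx) _).1 (inv_mem hx') }
  have hle : A ⊔ B ≤ T := sup_le
    (fun a ha => ⟨hAO ha, hA (commutator_mem_commutator hq ha)⟩)
    (fun b hb => ⟨hBO hb, hB (commutator_mem_commutator hq hb)⟩)
  exact (hle hx).2

theorem exists_conj_inverted {K : Subgroup G} (hK : Odd (Nat.card K)) {w u : G} (hu : u ∈ K)
    (hw : w * w = 1) (h : u * w * (u * w) = 1) : ∃ o ∈ K, o * w * o⁻¹ = u * w := by
  obtain ⟨m, hm⟩ := odd_orderOf hK hu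
  refine ⟨u ^ (m + 1), pow_mem hu _, ?_⟩
  have hwi : w⁻¹ = w := inv_eq_of_mul_eq_one_right hw
  have hinv : w * u * w⁻¹ = u⁻¹ := by
    rw [hwi]
    refine eq_inv_of_mul_eq_one_right ?_
    rw [← h]; group
  have h2 : w * (u ^ (m + 1))⁻¹ = u ^ (m + 1) * w := by
    have h3 : w * (u ^ (m + 1)) * w⁻¹ = (u ^ (m + 1))⁻¹ := by
      rw [← conj_pow, hinv, inv_pow]
    calc w * (u ^ (m + 1))⁻¹ = w * (w * u ^ (m + 1) * w⁻¹) := by rw [h3]
      _ = u ^ (m + 1) * w := by
        rw [hwi, ← mul_assoc, ← mul_assoc, hw, one_mul]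
  have hone : u ^ (m + 1) * u ^ m = 1 := by
    rw [← pow_add, show m + 1 + m = 2 * m + 1 by ring, ← hm, pow_orderOf_eq_one]
  calc u ^ (m + 1) * w * (u ^ (m + 1))⁻¹ = u ^ (m + 1) * (u ^ (m + 1) * w) := by
        rw [mul_assoc, h2]
    _ = u ^ (m + 1) * (u ^ m * u) * w := by rw [pow_succ]; group
    _ = u * w := by rw [← mul_assoc, hone, one_mul]

namespace Hyp

variable (h : Hyp S)
include h

theorem coprime_odd {K : Subgroup G} (hK : Odd (Nat.card K)) :
    (Nat.card (S : Subgroup G)).Coprime (Nat.card K) := by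
  rw [h.card, show (8 : ℕ) = 2 ^ 3 by norm_num]
  exact (Nat.coprime_two_left.2 hK).pow_left 3

theorem solvable_S : Group.IsSolvable (S : Subgroup G) :=
  Group.isSolvable_of_comm fun a b => Subtype.ext (h.comm a.2 b.2)

theorem maxIn_card {p : ℕ} [Fact p.Prime] {K Q R : Subgroup G} (hK : Odd (Nat.card K))
    (hSK : (S : Subgroup G) ≤ normalizer (K : Set G)) (hQ : MaxIn p S K Q) (hR : R ≤ K)
    (hRp : IsPGroup p R) : Nat.card R ≤ Nat.card Q := by
  obtain ⟨P, hQP, hP⟩ := Coprime.exists_invariant_sylow_ge hSK (h.coprime_odd hK) (Or.inl h.solvable_S)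
    hQ.le hQ.pgrp hQ.norm
  have e := hQ.max _ ⟨map_subtype_le _, P.2.map _, hP⟩ hQP
  rw [← e, Core.card_map_subtype, ← Nat.card_congr (subgroupOfEquivOfLe hR).toEquiv]
  obtain ⟨P', hP'⟩ := (hRp.of_equiv (subgroupOfEquivOfLe hR).symm).exists_le_sylow
  calc Nat.card (R.subgroupOf K) ≤ Nat.card (P' : Subgroup K) := card_le_of_le hP'
    _ = Nat.card (P : Subgroup K) := by rw [P'.card_eq_multiplicity, P.card_eq_multiplicity]

/-- The maximal invariant `p`-subgroups of an odd group are conjugate under fixed points. -/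
theorem conj_maxIn {p : ℕ} [Fact p.Prime] {K Q R : Subgroup G} (hK : Odd (Nat.card K))
    (hSK : (S : Subgroup G) ≤ normalizer (K : Set G)) (hQ : MaxIn p S K Q) (hR : MaxIn p S K R) :
    ∃ c ∈ K, c ∈ centralizer ((S : Subgroup G) : Set G) ∧ cj c Q = R := by
  obtain ⟨P, hQP, hP⟩ := Coprime.exists_invariant_sylow_ge hSK (h.coprime_odd hK) (Or.inl h.solvable_S)
    hQ.le hQ.pgrp hQ.norm
  obtain ⟨P', hRP, hP'⟩ := Coprime.exists_invariant_sylow_ge hSK (h.coprime_odd hK) (Or.inl h.solvable_S)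
    hR.le hR.pgrp hR.norm
  obtain ⟨c, hc, e⟩ := Coprime.exists_centralizer_conj_sylow hSK (h.coprime_odd hK)
    (Or.inl h.solvable_S) P P' hP hP'
  rw [hR.max _ ⟨map_subtype_le _, P'.2.map _, hP'⟩ hRP,
    hQ.max _ ⟨map_subtype_le _, P.2.map _, hP⟩ hQP] at e
  exact ⟨c, hc.1, hc.2, e.symm⟩

theorem exists_conj_le_maxIn {p : ℕ} [Fact p.Prime] {K U Q : Subgroup G} (hK : Odd (Nat.card K))
    (hSK : (S : Subgroup G) ≤ normalizer (K : Set G)) (hU : Inv p S K U) (hQ : MaxIn p S K Q) :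
    ∃ c ∈ K, c ∈ centralizer ((S : Subgroup G) : Set G) ∧ cj c U ≤ Q := by
  obtain ⟨R, hR, hUR⟩ := exists_maxIn_ge hU
  obtain ⟨c, hc, hcS, e⟩ := h.conj_maxIn hK hSK hR hQ
  exact ⟨c, hc, hcS, e ▸ cj_mono hUR⟩

omit h in
theorem centralizer_le_normalizer_S {c : G} (hc : c ∈ centralizer ((S : Subgroup G) : Set G)) :
    c ∈ normalizer ((S : Subgroup G) : Set G) :=
  centralizer_le_normalizer _ hc

omit h in
theorem norm_cj {Q : Subgroup G} {n : G} (hn : n ∈ normalizer ((S : Subgroup G) : Set G))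
    (hQ : (S : Subgroup G) ≤ normalizer (Q : Set G)) :
    (S : Subgroup G) ≤ normalizer (cj n Q : Set G) := by
  intro s hs
  refine mem_normalizer_of_cj_eq ?_
  have hs' : n⁻¹ * s * n ∈ (S : Subgroup G) := by
    have := (mem_normalizer_iff.1 (inv_mem hn) s).1 hs
    rwa [inv_inv] at this
  have e := cj_eq_self (hQ hs')
  rw [cj_cj]
  conv_rhs => rw [← e, cj_cj]
  congr 1
  group

/-- An element normalizing `S` and an odd invariant group normalizes, after a correction by a fixed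
point, any maximal invariant subgroup. -/
theorem frattini {p : ℕ} [Fact p.Prime] {K Q : Subgroup G} (hK : Odd (Nat.card K))
    (hSK : (S : Subgroup G) ≤ normalizer (K : Set G)) (hQ : MaxIn p S K Q) {n : G}
    (hn : n ∈ normalizer ((S : Subgroup G) : Set G)) (hnK : n ∈ normalizer (K : Set G)) :
    ∃ c ∈ K, c ∈ centralizer ((S : Subgroup G) : Set G) ∧ c * n ∈ normalizer (Q : Set G) := by
  have hR : MaxIn p S K (cj n Q) := by
    refine ⟨⟨(cj_mono hQ.le).trans (cj_eq_self hnK).le, pGroup_cj hQ.pgrp n,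
      norm_cj hn hQ.norm⟩, fun R hR hle => ?_⟩
    have h1 : Inv p S K (cj n⁻¹ R) := ⟨(cj_mono hR.le).trans (cj_eq_self (inv_mem hnK)).le,
      pGroup_cj hR.pgrp _, norm_cj (inv_mem hn) hR.norm⟩
    have h2 := hQ.max _ h1 (by rw [← cj_inv_cj n Q]; exact cj_mono hle)
    rw [← h2, cj_cj, mul_inv_cancel, cj_one]
  obtain ⟨c, hc, hcS, e⟩ := h.conj_maxIn hK hSK hR hQ
  exact ⟨c, hc, hcS, mem_normalizer_of_cj_eq (by rw [← cj_cj, e])⟩

theorem commutator_comm {Q : Subgroup G} (hQ : (S : Subgroup G) ≤ normalizer (Q : Set G))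
    (hodd : Odd (Nat.card Q)) :
    ⁅⁅Q, (S : Subgroup G)⁆, (S : Subgroup G)⁆ = ⁅Q, (S : Subgroup G)⁆ :=
  Coprime.commutator_commutator_eq hQ (h.coprime_odd hodd) (Or.inl h.solvable_S)

omit h in
theorem commutator_norm {Q : Subgroup G} :
    (S : Subgroup G) ≤ normalizer ((⁅Q, (S : Subgroup G)⁆ : Subgroup G) : Set G) :=
  normalizer_commutator_ge_right Q _

omit h in
theorem le_normalizer_inf {Q R : Subgroup G} (hQ : (S : Subgroup G) ≤ normalizer (Q : Set G))
    (hR : (S : Subgroup G) ≤ normalizer (R : Set G)) :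
    (S : Subgroup G) ≤ normalizer ((Q ⊓ R : Subgroup G) : Set G) :=
  (le_inf hQ hR).trans inf_normalizer_le_normalizer_inf

theorem norm_centralizer {H : Subgroup G} (hH : H ≤ (S : Subgroup G)) :
    (S : Subgroup G) ≤ normalizer (centralizer (H : Set G) : Set G) :=
  le_trans (fun _ hs => mem_centralizer_iff.2 fun y hy => h.comm (hH hy) hs) le_normalizer

/-- Centralizers of subgroups of `S` in maximal invariant subgroups are maximal. -/
theorem maxIn_inf {p : ℕ} [Fact p.Prime] {K Q H : Subgroup G} (hK : Odd (Nat.card K))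
    (hSK : (S : Subgroup G) ≤ normalizer (K : Set G)) (hQ : MaxIn p S K Q)
    (hH : H ≤ (S : Subgroup G)) :
    MaxIn p S (K ⊓ centralizer (H : Set G)) (Q ⊓ centralizer (H : Set G)) := by
  refine ⟨⟨inf_le_inf_right _ hQ.le, hQ.pgrp.to_le inf_le_left,
    le_normalizer_inf hQ.norm (h.norm_centralizer hH)⟩, fun R hR hle => ?_⟩
  obtain ⟨c, -, hcS, hc⟩ := h.exists_conj_le_maxIn hK hSK (hR.mono inf_le_left) hQ
  refine (eq_of_le_of_card_ge hle ?_).symm
  rw [← card_cj c R]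
  refine card_le_of_le (le_inf hc ?_)
  have hcH : cj c (centralizer (H : Set G)) = centralizer (H : Set G) := by
    refine cj_eq_self (le_normalizer (mem_centralizer_iff.2 fun y hy => ?_))
    exact mem_centralizer_iff.1 hcS y (hH hy)
  exact hcH ▸ cj_mono (hR.le.trans inf_le_right)

/-- Fusion of points inside a subgroup containing `S`. -/
theorem conj_in {Y : Subgroup G} (hSY : (S : Subgroup G) ≤ Y) {a g : G} (ha : a ∈ (S : Subgroup G))
    (hg : g ∈ Y) (hga : g * a * g⁻¹ ∈ (S : Subgroup G)) :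
    ∃ n ∈ Y, n ∈ normalizer ((S : Subgroup G) : Set G) ∧ n * a * n⁻¹ = g * a * g⁻¹ := by
  haveI : Fact (Nat.Prime 2) := ⟨Nat.prime_two⟩
  haveI : IsMulCommutative ((S.subtype hSY : Sylow 2 Y) : Subgroup Y) :=
    ⟨⟨fun x y => Subtype.ext (Subtype.ext (h.comm (mem_subgroupOf.1 x.2) (mem_subgroupOf.1 y.2)))⟩⟩
  obtain ⟨n, hn, e⟩ := Fusion.exists_normalizer_conj_of_abelian (S.subtype hSY)
    (x := (⟨a, hSY ha⟩ : Y)) (g := ⟨g, hg⟩) (mem_subgroupOf.2 ha) (mem_subgroupOf.2 hga)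
  refine ⟨n, n.2, Fusion.le_normalizer_of_conj_mem fun s hs => ?_, congrArg Subtype.val e⟩
  exact mem_subgroupOf.1 ((mem_normalizer_iff.1 hn ⟨s, hSY hs⟩).1 (mem_subgroupOf.2 hs))

/-- Burnside: a subgroup in which `S` is self-centralizing-normalized has a normal two-complement. -/
theorem two_nilp {Y : Subgroup G} (hSY : (S : Subgroup G) ≤ Y)
    (hn : ∀ n ∈ Y, n ∈ normalizer ((S : Subgroup G) : Set G) →
      n ∈ centralizer ((S : Subgroup G) : Set G)) {y : G} (hy : y ∈ Y) :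
    ∃ o ∈ cor Y, ∃ s ∈ (S : Subgroup G), y = o * s := by
  haveI : Fact (Nat.Prime 2) := ⟨Nat.prime_two⟩
  have hle : normalizer (((S.subtype hSY : Sylow 2 Y) : Subgroup Y) : Set Y) ≤
      centralizer (((S.subtype hSY : Sylow 2 Y) : Subgroup Y) : Set Y) := by
    intro n hn'
    have hnS : (n : G) ∈ normalizer ((S : Subgroup G) : Set G) :=
      Fusion.le_normalizer_of_conj_mem fun s hs =>
        mem_subgroupOf.1 ((mem_normalizer_iff.1 hn' ⟨s, hSY hs⟩).1 (mem_subgroupOf.2 hs))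
    exact mem_centralizer_iff.2 fun s hs => Subtype.ext
      (mem_centralizer_iff.1 (hn n n.2 hnS) s (mem_subgroupOf.1 hs))
  have hcompl := MonoidHom.ker_transferSylow_isComplement' (S.subtype hSY) hle
  set K := (MonoidHom.transferSylow (S.subtype hSY) hle).ker with hK
  have hodd : K ≤ Cfsg.oddCore ↥Y := by
    refine Core.le_pPrimeCore' inferInstance ?_
    have hi : K.index = Nat.card ((S.subtype hSY : Sylow 2 Y) : Subgroup Y) := by
      rw [hcompl.symm.index_eq_card]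
    have h2 : ¬ 2 ∣ Nat.card K := fun hd => (S.subtype hSY).not_dvd_index (by
      rw [hcompl.index_eq_card]; exact hd)
    exact ((Nat.Prime.coprime_iff_not_dvd Nat.prime_two).2 h2).symm
  obtain ⟨⟨k, s⟩, e⟩ := (hcompl.existsUnique ⟨y, hy⟩).exists
  exact ⟨_, ⟨k, hodd k.2, rfl⟩, _, mem_subgroupOf.1 s.2, (congrArg Subtype.val e).symm⟩

/-- In such a group every odd subgroup lies in the odd core. -/
theorem le_cor_of_two_nilp {Y : Subgroup G} (hSY : (S : Subgroup G) ≤ Y)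
    (hn : ∀ n ∈ Y, n ∈ normalizer ((S : Subgroup G) : Set G) →
      n ∈ centralizer ((S : Subgroup G) : Set G)) {K : Subgroup G} (hK : K ≤ Y)
    (hodd : Odd (Nat.card K)) : K ≤ cor Y := by
  intro y hy
  obtain ⟨o, ho, s, hs, e⟩ := h.two_nilp hSY hn (hK hy)
  -- the odd power of `y` lies in the core, so does `y`
  have key : ∀ m : ℕ, ∃ o' ∈ cor Y, y ^ m = o' * s ^ m := by
    intro m
    induction m with
    | zero => exact ⟨1, one_mem _, by simp⟩
    | succ m ih =>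
      obtain ⟨o', ho', e'⟩ := ih
      refine ⟨o' * (s ^ m * o * (s ^ m)⁻¹), mul_mem ho'
        ((mem_normalizer_iff.1 (le_normalizer_cor Y (hSY (pow_mem hs m))) o).1 ho), ?_⟩
      rw [pow_succ, e', e, pow_succ]; group
  obtain ⟨o', ho', e'⟩ := key (orderOf y)
  obtain ⟨m, hm⟩ := odd_orderOf hodd hy
  rw [pow_orderOf_eq_one, hm, pow_succ, pow_mul, pow_two, h.sq s hs, one_pow, one_mul] at e'
  have hs1 : s ∈ cor Y := by rw [← inv_eq_of_mul_eq_one_right e'.symm] at *; exact inv_mem ho'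
  rw [e]
  exact mul_mem ho hs1

theorem fix_centralizer_line {H : Subgroup G} (hH : IsLine (S : Subgroup G) H) :
    ∀ n ∈ centralizer (H : Set G), n ∈ normalizer ((S : Subgroup G) : Set G) →
      n ∈ centralizer ((S : Subgroup G) : Set G) := by
  intro n hn hnS
  obtain ⟨a, ha, a1, -⟩ := h.line_exists_pts hH (one_mem H)
  obtain ⟨b, hb, b1, hba⟩ := h.line_exists_pts hH ha
  have e : ∀ x ∈ H, n * x * n⁻¹ = x := fun x hx => by
    rw [← mem_centralizer_iff.1 hn x hx]; group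
  exact h.fix_two hnS ⟨hH.le ha, a1⟩ ⟨hH.le hb, b1⟩ (Ne.symm hba) (e a ha) (e b hb)

theorem sylow_le_centralizer_line {H : Subgroup G} (hH : H ≤ (S : Subgroup G)) :
    (S : Subgroup G) ≤ centralizer (H : Set G) :=
  fun _ hs => mem_centralizer_iff.2 fun y hy => h.comm (hH hy) hs

end Hyp

end Cfsg.Lib.Walter3
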