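import Cfsg.Agent.Lib.Walter3.FieldIndex
import Cfsg.Agent.Lib.GW.Main
import Cfsg.Agent.Lib.GW.PGL
import Cfsg.Agent.Lib.GW.Perfect
import Cfsg.Agent.Lib.Chev.AutOut
import Cfsg.Agent.Lib.Dickson.KleinClasses
import Cfsg.Agent.Lib.Recog.Icosahedral
import Cfsg.Agent.Lib.Fusion.Abelian
import Cfsg.Agent.Lib.AbTwo.Basic
import Mathlib.GroupTheory.SpecificGroups.Alternating

/-!
# The centralizer of an involution with odd core one: `C(t) = (⟨t⟩ × PSL₂(q)).F`

If the Sylow two-subgroups are elementary abelian of order eight and contain a central involution `t`,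
the odd core is trivial and the group is not solvable, then `L ≅ PSL₂(q)` is normal, `⟨t⟩ L` is normal
with cyclic odd quotient, which is covered by `C(S)`.
-/

set_option autoImplicit false
set_option linter.style.haveILetI false
set_option linter.unusedSectionVars false

namespace Cfsg.Lib.Walter3

open Subgroup Cfsg
open scoped commutatorElement

universe u

local notation "PSL2[" F "]" => Matrix.ProjectiveSpecialLinearGroup (Fin 2) F

/-- A nonsolvable group with trivial odd core and a four-group as Sylow two-subgroup. -/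
theorem klein_shape {X : Type u} [Group X] [Finite X] (P : Sylow 2 X)
    (h4 : Nat.card (P : Subgroup X) = 4) (hsq : ∀ x ∈ (P : Subgroup X), x * x = 1)
    (hO : oddCore X = ⊥) (hns : ¬ Group.IsSolvable X) :
    ∃ (E : Subgroup X) (_ : E.Normal) (F : Type) (_ : Field F) (_ : Fintype F),
      (Fintype.card F % 8 = 3 ∨ Fintype.card F % 8 = 5) ∧ 5 ≤ Fintype.card F ∧
      Nonempty (E ≃* PSL2[F]) ∧ centralizer (E : Set X) = ⊥ ∧ Odd E.index ∧ IsCyclic (X ⧸ E) ∧
      ¬ Group.IsSolvable E ∧ ⁅E, E⁆ = E := by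
  haveI : Fact (Nat.Prime 2) := ⟨Nat.prime_two⟩
  have hD : GW.TwoCycDih X := by
    refine GW.TwoCycDih.of_sylow P ?_
    haveI : IsKleinFour (P : Subgroup X) := ⟨h4, by
      have h1 : Monoid.exponent (P : Subgroup X) ∣ 2 :=
        Monoid.exponent_dvd_of_forall_pow_eq_one fun g => Subtype.ext (by
          rw [pow_two]; exact hsq g g.2)
      rcases (Nat.dvd_prime Nat.prime_two).1 h1 with h | h
      · rw [Monoid.exp_eq_one_iff] at h
        have := Finite.card_le_one_iff_subsingleton.2 h
        omega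
      · exact h⟩
    obtain ⟨v, hv⟩ := exists_prime_orderOf_dvd_card' (G := (P : Subgroup X)) 2 (h4 ▸ by norm_num)
    refine ⟨zpowers v, inferInstance, ?_, fun x _ => IsKleinFour.mul_self x⟩
    have := card_mul_index (zpowers v)
    rw [Nat.card_zpowers, hv, h4] at this
    omega
  rcases GW.shape hD (GW.gwSections_of_simpleGW GW.simpleGW hD) hO with
    h | ⟨V, hV, -, -, h12⟩ | ⟨E, hE, hEs, hna, hEgw, hED, hEC, -, hEi⟩
  · haveI : Group.IsNilpotent X := h.isNilpotent
    exact (hns inferInstance).elim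
  · exact absurd (Recog.Icosa.solvable_of_lt_sixty _ X rfl (by omega)) hns
  have h4E : 4 ∣ Nat.card E := by
    obtain ⟨Q⟩ : Nonempty (Sylow 2 E) := inferInstance
    obtain ⟨n, hn, ⟨e⟩⟩ := hED Q
    have h1 := (Q : Subgroup E).card_subgroup_dvd_card
    rw [Nat.card_congr e.toEquiv, DihedralGroup.nat_card] at h1
    obtain ⟨j, hj⟩ := IsPGroup.iff_card.1 Q.2
    rw [Nat.card_congr e.toEquiv, DihedralGroup.nat_card] at hj
    refine dvd_trans ?_ h1
    rcases Nat.lt_or_ge j 2 with h | h
    · interval_cases j <;> omega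
    · rw [hj]; exact pow_dvd_pow 2 h
  have h8 : ¬ 8 ∣ Nat.card X := fun h => by
    rw [← (P : Subgroup X).card_mul_index, h4] at h
    exact P.not_dvd_index (Nat.dvd_of_mul_dvd_mul_left (by norm_num : 0 < 4) (show 4 * 2 ∣ 4 * _ from h))
  have hodd : Odd E.index := by
    rw [← Nat.not_even_iff_odd]
    rintro ⟨m, hm⟩
    refine h8 ?_
    rw [← E.card_mul_index, hm, ← two_mul]
    exact Nat.mul_dvd_mul h4E (dvd_mul_right 2 m) 
  rcases hEgw with ⟨F, i, j, hFodd, h3, ⟨e⟩⟩ | ⟨⟨e⟩⟩
  swap
  · exfalso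
    refine h8 (dvd_trans ?_ E.card_subgroup_dvd_card)
    rw [Nat.card_congr e.toEquiv, nat_card_alternatingGroup, Nat.card_eq_fintype_card, Fintype.card_fin]
    decide
  have hq := Nat.odd_iff.1 hFodd
  have h38 : Fintype.card F % 8 = 3 ∨ Fintype.card F % 8 = 5 := by
    have hc := Dickson.card_psl_mul (K := F) hq
    by_contra hcon
    push Not at hcon
    refine h8 (dvd_trans ?_ E.card_subgroup_dvd_card)
    rw [Nat.card_congr e.toEquiv]
    refine Nat.dvd_of_mul_dvd_mul_left (by norm_num : 0 < 2) ?_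
    rw [hc]
    refine dvd_mul_of_dvd_right ?_ _
    have h1 : Fintype.card F = 8 * (Fintype.card F / 8) + Fintype.card F % 8 := (Nat.div_add_mod _ 8).symm
    set k := Fintype.card F / 8
    rcases (show Fintype.card F % 8 = 1 ∨ Fintype.card F % 8 = 7 by omega) with hr | hr <;>
      rw [hr] at h1 <;> rw [h1]
    · exact ⟨4 * k * k + k, by rw [Nat.sub_eq_iff_eq_add (Nat.one_le_pow _ _ (by omega))]; ring⟩
    · exact ⟨4 * k * k + 7 * k + 3, by rw [Nat.sub_eq_iff_eq_add (Nat.one_le_pow _ _ (by omega))]; ring⟩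
  refine ⟨E, hE, F, i, j, h38, by omega, ⟨e⟩, hEC, hodd, ?_, GW.not_isSolvable_of_simple hna, ?_⟩
  swap
  · haveI := hEs
    rw [← map_subtype_commutator]
    rcases IsSimpleGroup.eq_bot_or_eq_top_of_normal (commutator E) inferInstance with h | h
    · refine absurd ⟨⟨fun a b => ?_⟩⟩ hna
      exact commutatorElement_eq_one_iff_mul_comm.1 (by
        rw [← mem_bot, ← h, commutator_def]
        exact commutator_mem_commutator (mem_top a) (mem_top b))
    · rw [h, ← MonoidHom.range_eq_map, range_subtype]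
  haveI := hE
  haveI := GW.PGL.range_innd_normal (F := F)
  let ψ : X →* MulAut PSL2[F] ⧸ (Linear.AutPSL.innd : GL (Fin 2) F →* MulAut PSL2[F]).range :=
    (QuotientGroup.mk' _).comp (GW.PGL.autHom e)
  have hker : ψ.ker = E := by
    have h1 : ψ.ker = GW.PGL.diag e := by
      ext x
      rw [MonoidHom.mem_ker, MonoidHom.comp_apply, QuotientGroup.mk'_apply, QuotientGroup.eq_one_iff]
      rfl
    have h2 := GW.PGL.relIndex_diag_le e hFodd hEC
    have h3 := relIndex_dvd_index_of_le (GW.PGL.le_diag e)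
    have h5 : E.relIndex (GW.PGL.diag e) = 1 := by
      have h0 : E.relIndex (GW.PGL.diag e) ≠ 0 := by
        intro h0; rw [h0, zero_dvd_iff] at h3; exact index_ne_zero_of_finite h3
      rcases (show E.relIndex (GW.PGL.diag e) = 1 ∨ E.relIndex (GW.PGL.diag e) = 2 by omega) with h | h
      · exact h
      · rw [h] at h3; obtain ⟨m, hm⟩ := hodd; omega
    rw [h1]
    exact le_antisymm (relIndex_eq_one.1 h5) (GW.PGL.le_diag e)
  haveI : IsCyclic (F ≃+* F) := Chev.isCyclic_ringAut_field F
  haveI : IsCyclic (MulAut PSL2[F] ⧸ (Linear.AutPSL.innd : GL (Fin 2) F →* MulAut PSL2[F]).range) :=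
    isCyclic_of_surjective ((QuotientGroup.mk' _).comp Linear.AutPSL.fld) fun b => by
      obtain ⟨β, rfl⟩ := QuotientGroup.mk_surjective b
      obtain ⟨A, σ, rfl⟩ := GW.PGL.exists_decomp_two β
      refine ⟨σ, ?_⟩
      rw [MonoidHom.comp_apply, QuotientGroup.mk'_apply, QuotientGroup.eq]
      rw [← mul_assoc]
      exact (GW.PGL.range_innd_normal (F := F)).conj_mem' _ ⟨A, rfl⟩ _
  exact isCyclic_of_injective
    ((QuotientGroup.kerLift ψ).comp (QuotientGroup.quotientMulEquivOfEq hker).symm.toMonoidHom)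
    ((QuotientGroup.kerLift_injective ψ).comp (MulEquiv.injective _))

/-- The structure of the centralizer of `t`, seen in the centralizer itself. -/
structure FieldModel {C : Type u} [Group C] (S : Subgroup C) (t : C) (L : Subgroup C) : Prop where
  normal : L.Normal
  iso : ∃ (F : Type) (_ : Field F) (_ : Fintype F),
    (Fintype.card F % 8 = 3 ∨ Fintype.card F % 8 = 5) ∧ 5 ≤ Fintype.card F ∧ Nonempty (L ≃* PSL2[F])
  notMem : t ∉ L
  cent : centralizer (L : Set C) = zpowers t
  normalP : (zpowers t ⊔ L).Normal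
  cyclic : IsCyclic (C ⧸ (zpowers t ⊔ L))
  odd : Odd (zpowers t ⊔ L).index
  le : S ≤ zpowers t ⊔ L
  selfCent : (zpowers t ⊔ L) ⊓ centralizer (S : Set C) ≤ S
  cover : (zpowers t ⊔ L) ⊔ centralizer (S : Set C) = ⊤

/-- The odd core of a central quotient of order two of a group with trivial odd core is trivial. -/
theorem oddCore_quotient_eq_bot {C : Type u} [Group C] [Finite C] (Z : Subgroup C) [Z.Normal]
    (hZ : Z ≤ center C) (h2 : Nat.card Z = 2) (hO : oddCore C = ⊥) : oddCore (C ⧸ Z) = ⊥ := by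
  haveI : Fact (Nat.Prime 2) := ⟨Nat.prime_two⟩
  set f := QuotientGroup.mk' Z with hf
  set O := oddCore (C ⧸ Z) with hOdef
  have hOodd : Odd (Nat.card O) := Cfsg.Lib.AbTwo.odd_oddCore
  set N := O.comap f with hN
  have hZN : Z ≤ N := fun z hz => by
    rw [hN, mem_comap, hf, QuotientGroup.mk'_apply, (QuotientGroup.eq_one_iff z).2 hz]
    exact one_mem _
  set Z' := Z.subgroupOf N with hZ'
  have hZ'2 : Nat.card Z' = 2 := (Nat.card_congr (subgroupOfEquivOfLe hZN).toEquiv).trans h2
  have hmap : N.map f = O := map_comap_eq_self_of_surjective (QuotientGroup.mk'_surjective Z) O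
  have hidx : Z'.index = Nat.card O := by
    have h := relIndex_map_map (H := Z) (K := N) f
    rw [show Z.map f = ⊥ from (Subgroup.map_eq_bot_iff _).2 (QuotientGroup.ker_mk' Z).ge, hmap,
      relIndex_bot_left, hf, QuotientGroup.ker_mk', sup_idem, sup_eq_left.2 hZN] at h
    exact h.symm
  let T : Sylow 2 N := (IsPGroup.of_card (n := 1) (by rw [hZ'2, pow_one]) : IsPGroup 2 Z').toSylow
    (by rw [hidx]; obtain ⟨m, hm⟩ := hOodd; omega)
  obtain ⟨P, K, hK, hc⟩ := Cfsg.Lib.Fusion.hasNormalPComplement_of_normalizer_le_centralizer T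
    fun x _ => mem_centralizer_iff.2 fun y hy => Subtype.ext
      ((mem_center_iff.1 (hZ (show (y : C) ∈ Z from hy)) x).symm)
  have hKcop : (Nat.card K).Coprime 2 := by
    rw [← hc.index_eq_card]
    exact (Nat.Prime.coprime_iff_not_dvd Nat.prime_two).2 P.not_dvd_index |>.symm
  haveI : (pPrimeCore 2 N).Characteristic := Cfsg.Lib.Core.pPrimeCore_characteristic
  haveI : N.Normal := Subgroup.Normal.comap inferInstance f
  have hKbot : K = ⊥ := by
    refine le_bot_iff.1 ((Cfsg.Lib.Core.le_pPrimeCore' hK hKcop).trans ?_)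
    rw [← map_le_map_iff_of_injective N.subtype_injective, Subgroup.map_bot, ← hO]
    refine ZStar.le_oddCore inferInstance ?_
    rw [Subgroup.card_map_of_injective N.subtype_injective]
    exact Cfsg.Lib.AbTwo.odd_oddCore
  have hN2 : IsPGroup 2 N := by
    obtain ⟨n, hn⟩ := IsPGroup.iff_card.1 P.2
    refine IsPGroup.of_card (n := n) ?_
    have h := hc.card_mul_card
    rw [hKbot, card_bot, one_mul, hn] at h
    exact h.symm
  obtain ⟨k, hk⟩ := IsPGroup.iff_card.1 (hN2.map f)
  rw [hmap] at hk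
  rw [← card_eq_one (H := O), hk]
  rcases k with _ | k
  · simp
  · rw [hk, pow_succ, Nat.odd_mul] at hOodd
    exact absurd hOodd.2 (by decide)

theorem le_normalizer_of_conj_mem_aux {C : Type u} [Group C] (S : Sylow 2 C) {P : Subgroup C}
    (T : Sylow 2 P) (hSP : (S : Subgroup C) ≤ P)
    (hT : ∀ y : P, y ∈ (T : Subgroup P) ↔ (y : C) ∈ (S : Subgroup C)) {x : P}
    (hx : x ∈ normalizer ((T : Subgroup P) : Set P)) :
    (x : C) ∈ normalizer ((S : Subgroup C) : Set C) := by
  rw [mem_normalizer_iff]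
  intro y
  constructor
  · intro hy
    exact (hT _).1 ((mem_normalizer_iff.1 hx ⟨y, hSP hy⟩).1 ((hT _).2 hy))
  · intro hy
    have hyP : y ∈ P := by
      have := mul_mem (mul_mem (inv_mem x.2) (hSP hy)) x.2
      simpa [mul_assoc] using this
    exact (hT ⟨y, hyP⟩).1 ((mem_normalizer_iff.1 hx _).2 ((hT _).2 hy))

/-- The structure of a group with a central involution in an elementary abelian Sylow subgroup of order eight. -/
theorem exists_fieldModel {C : Type u} [Group C] [Finite C] (S : Sylow 2 C)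
    (h8 : Nat.card (S : Subgroup C) = 8) (hel : IsElementaryAbelian 2 (S : Subgroup C)) {t : C}
    (htS : t ∈ (S : Subgroup C)) (ht : t ≠ 1) (hcent : t ∈ center C) (hO : oddCore C = ⊥)
    (hns : ¬ Group.IsSolvable C) : ∃ L : Subgroup C, FieldModel (S : Subgroup C) t L := by
  classical
  haveI : Fact (Nat.Prime 2) := ⟨Nat.prime_two⟩
  haveI := hel.1
  set Z := zpowers t with hZ
  have hZc : Z ≤ center C := zpowers_le.2 hcent
  haveI : Z.Normal := ⟨fun z hz c => by
    rw [mem_center_iff.1 (hZc hz) c, mul_inv_cancel_right]; exact hz⟩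
  have h2 : Nat.card Z = 2 := by
    rw [Nat.card_zpowers]; exact orderOf_eq_prime (hel.2 t htS) ht
  have hZS : Z ≤ (S : Subgroup C) := zpowers_le.2 htS
  set f := QuotientGroup.mk' Z with hf
  have hfs : Function.Surjective f := QuotientGroup.mk'_surjective Z
  set V := (S : Subgroup C).map f with hV
  let P₀ : Sylow 2 (C ⧸ Z) := S.mapSurjective hfs
  have h4 : Nat.card V = 4 := by
    have h1 : V.index = (S : Subgroup C).index :=
      index_map_eq (S : Subgroup C) hfs (by rw [hf, QuotientGroup.ker_mk']; exact hZS)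
    have h2' := card_mul_index V
    have h3 : Nat.card Z * Z.index = Nat.card C := card_mul_index Z
    have h4' := card_mul_index (S : Subgroup C)
    rw [h1, ← Subgroup.index_eq_card] at h2'
    rw [h2, ← h2'] at h3
    rw [h8, ← h3, ← mul_assoc] at h4'
    have := Nat.eq_of_mul_eq_mul_right (Nat.pos_of_ne_zero index_ne_zero_of_finite) h4'
    omega
  have hVsq : ∀ x ∈ V, x * x = 1 := by
    rintro _ ⟨s, hs, rfl⟩
    rw [← map_mul, ← pow_two, hel.2 s hs, map_one]
  have hns' : ¬ Group.IsSolvable (C ⧸ Z) := fun h => hns <| by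
    haveI := h
    exact Group.isSolvable_of_ker_le_range Z.subtype f (by simp [hf])
  obtain ⟨E, hE, F, i, j, h38, h5, ⟨e⟩, hEC, hEodd, hEcyc, hEns, hEperf⟩ :=
    klein_shape P₀ h4 hVsq (oddCore_quotient_eq_bot Z hZc h2 hO) hns'
  haveI := hE
  set P := E.comap f with hP
  haveI hPn : P.Normal := Normal.comap hE f
  have hPmap : P.map f = E := map_comap_eq_self_of_surjective hfs E
  have hZP : Z ≤ P := fun z hz => by
    rw [hP, mem_comap, hf, QuotientGroup.mk'_apply, (QuotientGroup.eq_one_iff z).2 hz]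
    exact one_mem _
  have hPidx : P.index = E.index := index_comap_of_surjective E hfs
  have hSP : (S : Subgroup C) ≤ P := by
    intro s hs
    have h : (QuotientGroup.mk' P s) ^ 2 = 1 := by rw [← map_pow, hel.2 s hs, map_one]
    have h1 : orderOf (QuotientGroup.mk' P s) ∣ Nat.gcd 2 P.index :=
      Nat.dvd_gcd (orderOf_dvd_of_pow_eq_one h) (by rw [Subgroup.index_eq_card]; exact orderOf_dvd_natCard _)
    rw [Nat.Coprime.gcd_eq_one (Nat.coprime_two_left.2 (hPidx ▸ hEodd)), Nat.dvd_one,
      orderOf_eq_one_iff, QuotientGroup.mk'_apply, QuotientGroup.eq_one_iff] at h1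
    exact h1
  set L := ⁅P, P⁆ with hL
  haveI hLn : L.Normal := commutator_normal P P
  have hLP : L ≤ P := commutator_le_self P
  have htL : t ∉ L := fun h => ht <| by
    have := (inf_le_inf_right (center C) (inf_le_inf_left (S : Subgroup C)
      (commutator_mono (le_top : P ≤ ⊤) (le_top : P ≤ ⊤)))) ⟨⟨htS, h⟩, hcent⟩
    rw [← _root_.commutator_def, Cfsg.Lib.Fusion.inf_commutator_inf_center_eq_bot_sylow S] at this
    exact mem_bot.1 this
  have hLmap : L.map f = E := by rw [hL, map_commutator, hPmap, hEperf]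
  have hLZ : ∀ z ∈ Z, z ∈ L → z = 1 := fun z hz hzL => by
    obtain ⟨k, rfl⟩ := mem_zpowers_iff.1 hz
    rcases Int.even_or_odd k with ⟨m, rfl⟩ | ⟨m, rfl⟩
    · rw [← two_mul, zpow_mul, zpow_two, ← pow_two, hel.2 t htS, one_zpow]
    · refine absurd ?_ htL
      rwa [zpow_add, zpow_mul, zpow_two, ← pow_two, hel.2 t htS, one_zpow, one_mul, zpow_one] at hzL
  have hPeq : Z ⊔ L = P := by
    refine le_antisymm (sup_le hZP hLP) fun p hp => ?_
    obtain ⟨l, hl, hlp⟩ := (hLmap.ge (hp : f p ∈ E))
    have : p * l⁻¹ ∈ Z := by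
      rw [← QuotientGroup.eq_one_iff]
      show f (p * l⁻¹) = 1
      rw [map_mul, map_inv, hlp, mul_inv_cancel]
    simpa using mul_mem (mem_sup_left this : p * l⁻¹ ∈ Z ⊔ L) (mem_sup_right hl)
  let g : L →* E := (f.comp L.subtype).codRestrict E fun l => hLmap ▸ mem_map_of_mem f l.2
  have hg : Function.Bijective g := by
    refine ⟨(injective_iff_map_eq_one g).2 fun l hl => Subtype.ext (hLZ _ ?_ l.2), fun y => ?_⟩
    · exact (QuotientGroup.eq_one_iff _).1 (congrArg Subtype.val hl)
    · obtain ⟨l, hl, hly⟩ := hLmap.ge y.2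
      exact ⟨⟨l, hl⟩, Subtype.ext hly⟩
  have hLC : centralizer (L : Set C) = Z := by
    refine le_antisymm (fun c hc => ?_) (hZc.trans (center_le_centralizer _))
    rw [← QuotientGroup.eq_one_iff]
    have : f c ∈ centralizer (E : Set (C ⧸ Z)) := by
      rw [← hLmap, mem_centralizer_iff]
      rintro _ ⟨l, hl, rfl⟩
      rw [← map_mul, ← map_mul, mem_centralizer_iff.1 hc l hl]
    rw [hEC, mem_bot] at this
    exact this
  -- the four-group is self-centralising
  have hself : P ⊓ centralizer ((S : Subgroup C) : Set C) ≤ S := by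
    rintro p ⟨hpP, hpC⟩
    have hVE : V ≤ E := hPmap ▸ map_mono hSP
    set W := (V.subgroupOf E).map e.toMonoidHom with hW
    haveI : IsKleinFour W := by
      have hW4 : Nat.card W = 4 := by
        rw [hW, Subgroup.card_map_of_injective (f := e.toMonoidHom) e.injective]
        exact (Nat.card_congr (subgroupOfEquivOfLe hVE).toEquiv).trans h4
      refine ⟨hW4, ?_⟩
      have h1 : Monoid.exponent W ∣ 2 := Monoid.exponent_dvd_of_forall_pow_eq_one <| by
        rintro ⟨_, v, hv, rfl⟩
        refine Subtype.ext ?_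
        show (e v) ^ 2 = 1
        rw [← map_pow, pow_two, show v * v = 1 from Subtype.ext (hVsq v hv), map_one]
      rcases (Nat.dvd_prime Nat.prime_two).1 h1 with h | h
      · rw [Monoid.exp_eq_one_iff] at h
        have := Finite.card_le_one_iff_subsingleton.2 h
        omega
      · exact h
    have hmem : e ⟨f p, hpP⟩ ∈ W := by
      refine Dickson.KleinClasses.centralizer_klein (by omega) W (mem_centralizer_iff.2 ?_)
      rintro _ ⟨v, hv, rfl⟩
      obtain ⟨s, hs, hsv⟩ := hv
      show e v * e ⟨f p, hpP⟩ = e ⟨f p, hpP⟩ * e v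
      rw [← map_mul, ← map_mul]
      refine congrArg e (Subtype.ext ?_)
      show (v : C ⧸ Z) * f p = f p * v
      rw [show (v : C ⧸ Z) = f s from hsv.symm, ← map_mul, ← map_mul, mem_centralizer_iff.1 hpC s hs]
    obtain ⟨v, hv, hve⟩ := hmem
    rw [e.injective hve] at hv
    obtain ⟨s, hs, hsp⟩ := hv
    have hz : s⁻¹ * p ∈ Z := QuotientGroup.eq.1 hsp
    simpa using mul_mem hs (hZS hz)
  -- covering
  have hcover : P ⊔ centralizer ((S : Subgroup C) : Set C) = ⊤ := by
    set N := normalizer ((S : Subgroup C) : Set C) with hN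
    refine eq_top_iff.2 ((Sylow.normalizer_sup_eq_top' S hSP).ge.trans (sup_le (fun n hn => ?_) le_sup_left))
    let a : N →* E8Cent.automizer S := (S : Subgroup C).normalizerMonoidHom.rangeRestrict
    have hA : Nat.card (E8Cent.automizer S) ∣ 3 := by
      have h21 := E8Cent.card_automizer_dvd (S := S) h8 hel
      refine ((Nat.Prime.coprime_iff_not_dvd (by norm_num : Nat.Prime 7)).2 fun h7 => ?_).symm.dvd_of_dvd_mul_left
        (show Nat.card (E8Cent.automizer S) ∣ 7 * 3 from h21)
      obtain ⟨s, hs1, hst⟩ : ∃ s : (S : Subgroup C), s ≠ 1 ∧ s ≠ ⟨t, htS⟩ := by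
        by_contra hc
        push Not at hc
        haveI := Fintype.ofFinite (S : Subgroup C)
        have : Nat.card (S : Subgroup C) ≤ 2 := by
          rw [Nat.card_eq_fintype_card (α := ↥(S : Subgroup C))]
          refine (Finset.card_le_card (t := ({1, ⟨t, htS⟩} : Finset _)) fun s _ => ?_).trans Finset.card_le_two
          by_cases h1 : s = 1
          · simp [h1]
          · simp [hc s h1]
        omega
      obtain ⟨⟨b, hb⟩, hb'⟩ := E8Cent.transitive_of_seven h8 hel h7 hs1 (t := ⟨t, htS⟩)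
        (fun h => ht (congrArg Subtype.val h))
      obtain ⟨m, -, hm⟩ := (E8Cent.mem_automizer_iff S).1 hb
      refine hst (Subtype.ext ?_)
      rw [show s = b ⟨t, htS⟩ from hb'.symm, hm]
      show m * t * m⁻¹ = t
      rw [mem_center_iff.1 hcent m, mul_inv_cancel_right]
    set B := (P.subgroupOf N).map a with hB
    have hBne : B ≠ ⊥ := fun hbot => hEns <| by
      let T : Sylow 2 P := S.subtype hSP
      haveI : Group.IsSolvable P := by
        refine GW.isSolvable_of_complement
          (Cfsg.Lib.Fusion.hasNormalPComplement_of_normalizer_le_centralizer T fun x hx => ?_)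
        have hxN : (x : C) ∈ N := le_normalizer_of_conj_mem_aux S T hSP (fun _ => Iff.rfl) hx
        have h1 : a ⟨x, hxN⟩ = 1 := by
          rw [← mem_bot, ← hbot]
          exact ⟨⟨x, hxN⟩, x.2, rfl⟩
        rw [mem_centralizer_iff]
        intro y hy
        refine Subtype.ext ?_
        have h2 := congrArg (fun b : E8Cent.automizer S =>
          (((b : MulAut (S : Subgroup C)) ⟨(y : C), hy⟩ : (S : Subgroup C)) : C)) h1
        exact (mul_inv_eq_iff_eq_mul.1 (show (x : C) * y * (x : C)⁻¹ = y from h2)).symm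
      exact Group.isSolvable_of_surjective (f := ((f.comp P.subtype).codRestrict E fun p => p.2))
        fun y => by
          obtain ⟨c, hc⟩ := hfs y
          exact ⟨⟨c, by rw [hP, mem_comap, hc]; exact y.2⟩, Subtype.ext hc⟩
    have hBtop : B = ⊤ := by
      rcases (Nat.dvd_prime Nat.prime_three).1 hA with h | h
      · exact absurd (eq_bot_of_card_eq B (Nat.dvd_one.1 (h ▸ card_subgroup_dvd_card B))) hBne
      · haveI : Fact (Nat.card (E8Cent.automizer S)).Prime := ⟨by rw [h]; norm_num⟩
        exact B.eq_bot_or_eq_top_of_prime_card.resolve_left hBne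
    obtain ⟨m, hm, hmn⟩ : a ⟨n, hn⟩ ∈ B := hBtop ▸ mem_top _
    have hker : m⁻¹ * (⟨n, hn⟩ : N) ∈ (S : Subgroup C).normalizerMonoidHom.ker := by
      rw [MonoidHom.mem_ker, map_mul, map_inv, inv_mul_eq_one]
      exact congrArg Subtype.val hmn
    rw [normalizerMonoidHom_ker, mem_subgroupOf] at hker
    have := mul_mem (mem_sup_left (T := centralizer ((S : Subgroup C) : Set C)) (hm : (m : C) ∈ P))
      (mem_sup_right (S := P) hker)
    simpa using this
  have hQn : (Z ⊔ L).Normal := hPeq.symm ▸ hPn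
  have hcyc : ∀ (Q : Subgroup C) [Q.Normal], Q = P → IsCyclic (C ⧸ Q) := by
    intro Q _ hQ
    subst hQ
    exact isCyclic_of_injective (QuotientGroup.map P E f le_rfl) (by
      rw [injective_iff_map_eq_one]
      intro x
      obtain ⟨c, rfl⟩ := QuotientGroup.mk_surjective x
      intro h
      rw [QuotientGroup.map_mk, QuotientGroup.eq_one_iff] at h
      exact (QuotientGroup.eq_one_iff c).2 h)
  refine ⟨L, hLn, ⟨F, i, j, h38, h5, ⟨(MulEquiv.ofBijective g hg).trans e⟩⟩, htL, hLC, hQn,
    hcyc _ hPeq, ?_, ?_, ?_, ?_⟩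
  all_goals rw [hPeq]
  · exact hPidx ▸ hEodd
  · exact hSP
  · exact hself
  · exact hcover

end Cfsg.Lib.Walter3
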