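import Cfsg.Agent.Lib.GW.PGL
import Cfsg.Agent.Lib.Linear.AutPSL.Out

/-!
# Odd overgroups of `PSL₂(p^f)` inside its automorphism group have index dividing `f`
-/

set_option autoImplicit false
set_option linter.unusedSectionVars false
set_option linter.style.haveILetI false

namespace Cfsg.Lib.Walter3

open Subgroup Matrix Cfsg.Lib.GW Cfsg.Lib.Linear.AutPSL Cfsg.Lib.Linear.Descent

universe u

variable {X : Type u} [Group X] [Finite X] {F : Type} [Field F] [Fintype F] {E : Subgroup X} [E.Normal]

local notation "PSL2" => Matrix.ProjectiveSpecialLinearGroup (Fin 2) F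

/-- A faithful odd extension of `PSL₂(p^f)` has index dividing `f`. -/
theorem index_dvd_degree (e : E ≃* PSL2) (hodd : Odd (Fintype.card F))
    (hC : centralizer (E : Set X) = ⊥) (hidx : Odd E.index) {p f : ℕ} (hp : p.Prime) (hf : 1 ≤ f)
    (hF : Fintype.card F = p ^ f) : E.index ∣ f := by
  haveI : Fact p.Prime := ⟨hp⟩
  obtain ⟨G⟩ := exists_galEquiv hf hF
  choose A σ hσ using fun x : X => PGL.exists_decomp_two (PGL.autHom e x)
  have huniq : ∀ x (B : GL (Fin 2) F) (τ : F ≃+* F),
      PGL.autHom e x = innd B * fld τ → σ x = τ := fun x B τ h =>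
    fld_eq_of_eq (n := 2) le_rfl ((hσ x).symm.trans h)
  let ψ : X →* (F ≃+* F) := MonoidHom.mk' σ fun x y => huniq _ (A x * sm (σ x) (A y)) _ (by
    rw [map_mul (PGL.autHom e), hσ x, hσ y, map_mul, map_mul, ← mul_assoc, mul_assoc (innd (A x)),
      fld_mul_innd']
    simp only [mul_assoc])
  have hker : ψ.ker = PGL.diag e := by
    ext x
    rw [MonoidHom.mem_ker]
    constructor
    · intro h
      refine ⟨A x, ?_⟩
      rw [hσ x, show σ x = 1 from h, map_one, mul_one]
    · rintro ⟨B, hB⟩
      exact huniq x B 1 (by rw [map_one, mul_one, hB])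
  have h2 := PGL.relIndex_diag_le e hodd hC
  have hmul := relIndex_mul_index (PGL.le_diag e)
  have h1 : E.relIndex (PGL.diag e) = 1 := by
    have hd : Odd (E.relIndex (PGL.diag e)) := hidx.of_dvd_nat (hmul ▸ dvd_mul_right _ _)
    obtain ⟨k, hk⟩ := hd
    omega
  rw [h1, one_mul] at hmul
  rw [← hmul, ← hker, index_ker]
  refine (card_subgroup_dvd_card _).trans ?_
  rw [Nat.card_congr G.toEquiv, Nat.card_congr Multiplicative.toAdd, Nat.card_zmod]

end Cfsg.Lib.Walter3
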