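import Cfsg.Agent.Lib.Walter3.Socle
import Cfsg.Agent.Lib.Walter3.OutBound
import Cfsg.Agent.Lib.Walter3.Coprime
import Cfsg.Agent.Lib.Walter3.FieldModel

/-!
# The socle of a core-free section and the centralizer of its involution

By induction the socle `N` has `C_N(t) = ⟨t⟩ × PSL₂(q)`, so `C(t)` has trivial odd core and
`|X : N|` divides the degree of the field.
-/

set_option autoImplicit false
set_option linter.unusedSectionVars false
set_option linter.style.haveILetI false

namespace Cfsg.Lib.Walter3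

open Subgroup Cfsg
open scoped commutatorElement

universe u

local notation "PSL2[" F "]" => Matrix.ProjectiveSpecialLinearGroup (Fin 2) F

variable {X : Type u} [Group X] [Finite X]

/-- An involution centralizer maps onto the centralizer of the image modulo an odd kernel. -/
theorem map_cent_eq {Z : Type u} [Group Z] (f : X →* Z) (hf : Function.Surjective f)
    (hker : Odd (Nat.card f.ker)) {t : X} (ht : t * t = 1) : (Cg t).map f = Cg (f t) := by
  refine le_antisymm ?_ ?_
  · rintro z ⟨x, hx, e⟩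
    rw [← e, mem_Cg, ← map_mul, ← map_mul, mem_Cg.1 hx]
  · intro z hz
    obtain ⟨y, rfl⟩ := hf z
    have hu : y * t * y⁻¹ * t⁻¹ ∈ f.ker := by
      rw [MonoidHom.mem_ker, map_mul, map_mul, map_mul, map_inv, map_inv, mem_Cg.1 hz]
      group
    have hinv : (y * t * y⁻¹ * t⁻¹) * t * ((y * t * y⁻¹ * t⁻¹) * t) = 1 := by
      calc (y * t * y⁻¹ * t⁻¹) * t * ((y * t * y⁻¹ * t⁻¹) * t) = y * (t * t) * y⁻¹ := by group
        _ = 1 := by rw [ht]; group
    obtain ⟨o, ho, e⟩ := exists_conj_inverted hker hu ht hinv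
    have e' : o * t * o⁻¹ = y * t * y⁻¹ := e.trans (by group)
    refine Subgroup.mem_map.2 ⟨o⁻¹ * y, mem_Cg.2 ?_, ?_⟩
    · calc o⁻¹ * y * t = o⁻¹ * (y * t * y⁻¹) * y := by group
        _ = o⁻¹ * (o * t * o⁻¹) * y := by rw [e']
        _ = t * (o⁻¹ * y) := by group
    · rw [map_mul, map_inv, MonoidHom.mem_ker.1 ho, inv_one, one_mul]

/-- The field bound for the model of a centralizer. -/
theorem FieldModel.index_dvd {S : Subgroup X} {t : X} {L : Subgroup X} (hL : FieldModel S t L)
    (ht : t * t = 1) {F : Type} [Field F] [Fintype F] (hodd : Odd (Fintype.card F)) (e : L ≃* PSL2[F])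
    {p f : ℕ} (hp : p.Prime) (hf : 1 ≤ f) (hF : Fintype.card F = p ^ f) :
    (zpowers t ⊔ L).index ∣ f := by
  haveI := hL.normal
  haveI hZn : (zpowers t).Normal := hL.cent ▸ normal_centralizer
  set π := QuotientGroup.mk' (zpowers t) with hπ
  have hπs : Function.Surjective π := QuotientGroup.mk'_surjective _
  have hLZ : ∀ l ∈ L, π l = 1 → l = 1 := by
    intro l hl h
    obtain ⟨k, rfl⟩ := mem_zpowers_iff.1 ((QuotientGroup.eq_one_iff l).1 h)
    rcases Int.even_or_odd k with ⟨m, rfl⟩ | ⟨m, rfl⟩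
    · rw [← two_mul, zpow_mul, zpow_two, ht, one_zpow]
    · rw [zpow_add, zpow_mul, zpow_two, ht, one_zpow, one_mul, zpow_one] at hl
      exact absurd hl hL.notMem
  set E := L.map π with hE
  haveI : E.Normal := Normal.map inferInstance π hπs
  let g : L ≃* E := MulEquiv.ofBijective (π.subgroupMap L)
    ⟨(injective_iff_map_eq_one _).2 fun l hl => Subtype.ext (hLZ l l.2 (congrArg Subtype.val hl)),
      MonoidHom.subgroupMap_surjective _ _⟩
  have hC : centralizer (E : Set (X ⧸ zpowers t)) = ⊥ := by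
    rw [eq_bot_iff]
    intro z hz
    obtain ⟨c, rfl⟩ := hπs z
    refine mem_bot.2 ((QuotientGroup.eq_one_iff c).2 ?_)
    rw [← hL.cent, mem_centralizer_iff]
    intro l hl
    have h1 : π ⁅c, l⁆ = 1 := by
      rw [map_commutatorElement, commutatorElement_eq_one_iff_mul_comm]
      exact (mem_centralizer_iff.1 hz _ ⟨l, hl, rfl⟩).symm
    have h2 : ⁅c, l⁆ ∈ L := by
      rw [commutatorElement_def]
      exact mul_mem (‹L.Normal›.conj_mem l hl c) (inv_mem hl)
    exact (commutatorElement_eq_one_iff_mul_comm.1 (hLZ _ h2 h1)).symm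
  have hidx : E.index = (zpowers t ⊔ L).index := by
    rw [hE, index_map, hπ, QuotientGroup.ker_mk', sup_comm, MonoidHom.range_eq_top.2 hπs, index_top, mul_one]
  rw [← hidx]
  exact index_dvd_degree (g.symm.trans e) hodd hC (hidx ▸ hL.odd) hp hf hF

/-- The socle `N` of `X` with the model of `C_N(t)`. -/
structure SocleModel (S : Sylow 2 X) (t : X) (N : Subgroup X) (F : Type) [Field F] [Fintype F] : Prop where
  normal : N.Normal
  simple : IsSimpleGroup N
  nonab : ¬ IsMulCommutative N
  le : (S : Subgroup X) ≤ N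
  cent : centralizer (N : Set X) = ⊥
  mod_eight : Fintype.card F % 8 = 3 ∨ Fintype.card F % 8 = 5
  five_le : 5 ≤ Fintype.card F
  iso : Nonempty (↥(N ⊓ Cg t) ≃* Multiplicative (ZMod 2) × PSL2[F])

theorem odd_index_of_le {S : Sylow 2 X} {N : Subgroup X} (h : (S : Subgroup X) ≤ N) : Odd N.index := by
  haveI : Fact (Nat.Prime 2) := ⟨Nat.prime_two⟩
  exact Nat.not_even_iff_odd.1 fun he => S.not_dvd_index ((even_iff_two_dvd.1 he).trans (index_dvd_of_le h))

theorem isSolvable_of_odd_index {C : Type u} [Group C] [Finite C] {R : Subgroup C} [R.Normal] (hR : Odd R.index)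
    (h : Group.IsSolvable R) : Group.IsSolvable C := by
  haveI := h
  haveI : Group.IsSolvable (C ⧸ R) := WalterBig.isSolvable_of_odd_card (by rwa [← Subgroup.index_eq_card])
  exact Group.isSolvable_of_ker_le_range R.subtype (QuotientGroup.mk' R) (by simp)

theorem odd_relIndex_cent (N : Subgroup X) [N.Normal] (hN : Odd N.index) (t : X) :
    Odd (N.subgroupOf (Cg t)).index :=
  hN.of_dvd_nat (relIndex_dvd_index_of_normal N _)

/-- A core-free group with nonsolvable involution centralizer, transitive on `S#`, has a socle with known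
centralizer, by induction. -/
theorem exists_socleModel (S : Sylow 2 X) (h8 : Nat.card (S : Subgroup X) = 8)
    (hsq : ∀ v ∈ (S : Subgroup X), v * v = 1) (htr : TransAt S ⊤) (hO : oddCore X = ⊥) {t : X} (ht : Pt S t)
    (hns : ¬ Group.IsSolvable ↥(Cg t)) {n : ℕ} (ih : CentBelow.{u} n) (hn : Nat.card X < n) :
    ∃ (N : Subgroup X) (F : Type) (_ : Field F) (_ : Fintype F), SocleModel S t N F := by
  haveI : Fact (Nat.Prime 2) := ⟨Nat.prime_two⟩
  obtain ⟨N, hNn, hNs, hNna, hSN, hNC⟩ := exists_socle S h8 hsq htr hO fun h => hns (by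
    haveI := h; exact inferInstance)
  haveI := hNn
  haveI := hNs
  have hS := comm_of_sq hsq
  have hStC : (S : Subgroup X) ≤ Cg t := fun s hs =>
    mem_Cg.2 (congrArg Subtype.val (hS.is_comm.comm (⟨s, hs⟩ : (S : Subgroup X)) ⟨t, ht.1⟩))
  let T : Sylow 2 N := S.subtype hSN
  have hT8 : Nat.card (T : Subgroup N) = 8 :=
    (Nat.card_congr (subgroupOfEquivOfLe hSN).toEquiv).trans h8
  have hTsq : ∀ v ∈ (T : Subgroup N), v * v = 1 := fun v hv => Subtype.ext (hsq _ hv)
  have hns' : ¬ Group.IsSolvable ↥(N ⊓ Cg t) := fun h => hns <| by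
    haveI := h
    refine isSolvable_of_odd_index (odd_relIndex_cent N (odd_index_of_le hSN) t) ?_
    exact Group.isSolvable_of_isSolvable_injective
      (f := ({ toFun := fun c => ⟨((c : Cg t) : X), c.2, (c : Cg t).2⟩
               map_one' := rfl
               map_mul' := fun _ _ => rfl } : N.subgroupOf (Cg t) →* ↥(N ⊓ Cg t)))
      fun a b e => Subtype.ext (Subtype.ext (congrArg Subtype.val e :))
  have ht' : Pt T ⟨t, hSN ht.1⟩ := ⟨ht.1, fun e => ht.2 (congrArg Subtype.val e)⟩
  have hnsN : ¬ Group.IsSolvable ↥(Cg (⟨t, hSN ht.1⟩ : N)) := fun h => hns' <| by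
    haveI := h
    exact Group.isSolvable_of_isSolvable_injective (f := (centSubEquiv N (hSN ht.1)).symm.toMonoidHom)
      (centSubEquiv N (hSN ht.1)).symm.injective
  have h21 := automizer_eq_twentyone hNna T hT8 hTsq ht'.1 ht'.2 hnsN
  obtain ⟨F, i, j, h3, ⟨e⟩⟩ := ih N ((Nat.card_le_card_of_injective _ N.subtype_injective).trans_lt hn) hNna T hT8
    ⟨comm_of_sq hTsq, fun a ha => by rw [pow_two]; exact hTsq a ha⟩ h21 _
    (orderOf_eq_prime (by rw [pow_two]; exact hTsq _ ht'.1) ht'.2) ht'.1 hnsN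
  set e' := (centSubEquiv N (hSN ht.1)).symm.trans e with he'
  obtain ⟨K, iK, jK, h38, h5, ⟨eK⟩, -⟩ := exists_odd_model e' h3 hns' (fun h16 => by
    have hcard : Nat.card (S : Subgroup X) = 2 ^ (Nat.card X).factorization 2 := S.card_eq_multiplicity
    have h := (Nat.prime_two.pow_dvd_iff_le_factorization Nat.card_pos.ne').1
      ((show 2 ^ 4 ∣ 16 from dvd_rfl).trans (h16.trans (card_subgroup_dvd_card (N ⊓ Cg t))))
    rw [h8] at hcard
    have : (Nat.card X).factorization 2 = 3 := (Nat.pow_right_injective le_rfl (by simpa using hcard)).symm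
    omega)
  exact ⟨N, K, iK, jK, hNn, hNs, hNna, hSN, hNC, h38, h5, ⟨eK⟩⟩

namespace SocleModel

variable {S : Sylow 2 X} {t : X} {N : Subgroup X} {F : Type} [Field F] [Fintype F]

theorem oddCore_cent (h : SocleModel S t N F) (h8 : Nat.card (S : Subgroup X) = 8)
    (hsq : ∀ v ∈ (S : Subgroup X), v * v = 1) (ht : Pt S t) : oddCore ↥(Cg t) = ⊥ := by
  haveI := h.normal
  haveI := h.simple
  obtain ⟨e⟩ := h.iso
  have h4 : 4 ≤ Fintype.card F := by have := h.five_le; omega
  have hF : Fintype.card F % 2 = 1 := by rcases h.mod_eight with e8 | e8 <;> omega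
  set R := cor (Cg t) with hR
  have hnorm : N ⊓ Cg t ≤ normalizer ((R ⊓ N : Subgroup X) : Set X) :=
    (le_inf (inf_le_right.trans (le_normalizer_cor _))
      (inf_le_left.trans le_normalizer)).trans inf_normalizer_le_normalizer_inf
  have hRN : R ⊓ N = ⊥ := by
    have hle : R ⊓ N ≤ N ⊓ Cg t := fun x hx => ⟨hx.2, cor_le _ hx.1⟩
    haveI : ((R ⊓ N).subgroupOf (N ⊓ Cg t)).Normal := (normal_subgroupOf_iff_le_normalizer hle).2 hnorm
    have h1 := odd_normal_eq_bot e h4 (R := (R ⊓ N).subgroupOf (N ⊓ Cg t)) (by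
      rw [Nat.card_congr (subgroupOfEquivOfLe hle).toEquiv]
      exact (odd_cor (Cg t)).of_dvd_nat (card_dvd_of_le inf_le_left))
    rw [subgroupOf_eq_bot, disjoint_iff, inf_eq_left.2 hle] at h1
    exact h1
  have hRbot : R = ⊥ := by
    rw [eq_bot_iff]
    intro x hx
    refine mem_bot.2 (eq_one_of_centralizes h.nonab h.cent S h8 hsq h.le ht hF h4 e (odd_orderOf (odd_cor _) hx)
      (mem_centralizer_iff.2 fun c hc => ?_))
    have h1 : ⁅x, c⁆ ∈ R ⊓ N := by
      rw [commutatorElement_def]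
      constructor
      · rw [show x * c * x⁻¹ * c⁻¹ = x * (c * x⁻¹ * c⁻¹) by group]
        exact mul_mem hx ((mem_normalizer_iff.1 (le_normalizer_cor _ hc.2) _).1 (inv_mem hx))
      · exact mul_mem (h.normal.conj_mem c hc.1 x) (N.inv_mem hc.1)
    rw [hRN, mem_bot, commutatorElement_eq_one_iff_mul_comm] at h1
    exact h1.symm
  rwa [hR, cor, map_eq_bot_iff_of_injective _ (Subgroup.subtype_injective _)] at hRbot

theorem card_psl_eq {q r : ℕ} (hq : Odd q) (hr : Odd r) (h : q * (q ^ 2 - 1) = r * (r ^ 2 - 1)) : q = r := by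
  have hmono : ∀ {a b : ℕ}, 1 ≤ a → a < b → a * (a ^ 2 - 1) < b * (b ^ 2 - 1) := by
    intro a b ha hab
    refine Nat.mul_lt_mul_of_lt_of_le hab (Nat.sub_le_sub_right (Nat.pow_le_pow_left hab.le 2) 1) ?_
    have : 2 * 2 ≤ b ^ 2 := by rw [pow_two]; exact Nat.mul_le_mul (by omega) (by omega)
    omega
  rcases Nat.lt_trichotomy q r with hlt | heq | hgt
  · exact absurd h (hmono (Odd.pos hq) hlt).ne
  · exact heq
  · exact absurd h.symm (hmono (Odd.pos hr) hgt).ne

/-- `|X : N|` divides the degree of the field, provided `X = N C(t)`. -/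
theorem index_dvd (h : SocleModel S t N F) (h8 : Nat.card (S : Subgroup X) = 8)
    (hsq : ∀ v ∈ (S : Subgroup X), v * v = 1) (ht : Pt S t) (hfac : N ⊔ Cg t = ⊤)
    {p f : ℕ} (hp : p.Prime) (hf : 1 ≤ f) (hF : Fintype.card F = p ^ f) : N.index ∣ f := by
  classical
  haveI : Fact (Nat.Prime 2) := ⟨Nat.prime_two⟩
  haveI := h.normal
  obtain ⟨e⟩ := h.iso
  have h4 : 4 ≤ Fintype.card F := by have := h.five_le; omega
  have hS := comm_of_sq hsq
  have hSC : (S : Subgroup X) ≤ Cg t := fun s hs =>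
    mem_Cg.2 (congrArg Subtype.val (hS.is_comm.comm (⟨s, hs⟩ : (S : Subgroup X)) ⟨t, ht.1⟩))
  let T : Sylow 2 (Cg t) := S.subtype hSC
  set t' : Cg t := ⟨t, hSC ht.1⟩ with ht'
  have hT8 : Nat.card (T : Subgroup (Cg t)) = 8 :=
    (Nat.card_congr (subgroupOfEquivOfLe hSC).toEquiv).trans h8
  have hTsq : ∀ v ∈ (T : Subgroup (Cg t)), v * v = 1 := fun v hv => Subtype.ext (hsq _ hv)
  have hns : ¬ Group.IsSolvable ↥(Cg t) := fun hs => by
    haveI := hs
    exact not_solvable e h4 (Group.isSolvable_of_isSolvable_injective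
      (inclusion_injective (inf_le_right : N ⊓ Cg t ≤ Cg t)))
  obtain ⟨L, hL⟩ := exists_fieldModel T hT8
    ⟨comm_of_sq hTsq, fun a ha => by rw [pow_two]; exact hTsq a ha⟩ (t := t') ht.1
    (fun e1 => ht.2 (congrArg Subtype.val e1))
    (mem_center_iff.2 fun c => Subtype.ext (mem_Cg.1 c.2)) (h.oddCore_cent h8 hsq ht) hns
  obtain ⟨K, i, j, h38, h5, ⟨eL⟩⟩ := hL.iso
  haveI := hL.normal
  haveI := hL.normalP
  set D := N.subgroupOf (Cg t) with hD
  set P := zpowers t' ⊔ L with hP
  -- both normal subgroups have odd index, so they coincide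
  have eD : D ≃* Multiplicative (ZMod 2) × PSL2[F] :=
    ({ toFun := fun c => ⟨((c : Cg t) : X), c.2, (c : Cg t).2⟩
       invFun := fun c => ⟨⟨c, c.2.2⟩, c.2.1⟩
       left_inv := fun _ => rfl
       right_inv := fun _ => rfl
       map_mul' := fun _ _ => rfl } : D ≃* ↥(N ⊓ Cg t)).trans e
  have hDodd : Odd D.index := odd_relIndex_cent N (odd_index_of_le h.le) t
  have hDP : D ≤ P := by
    have h1 := eq_top_of_odd_index eD h4 (R := P.subgroupOf D)
      (hL.odd.of_dvd_nat (relIndex_dvd_index_of_normal P D))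
    rwa [subgroupOf_eq_top] at h1
  have hPD : P ≤ D := by
    refine sup_le (zpowers_le.2 (h.le ht.1)) ?_
    have hK4 : 4 ≤ Fintype.card K := by omega
    haveI := psl_simple (F := K) hK4
    haveI : IsSimpleGroup L := MulEquiv.isSimpleGroup eL
    rcases IsSimpleGroup.eq_bot_or_eq_top_of_normal (D.subgroupOf L) inferInstance with hb | hb
    · exfalso
      obtain ⟨x, hx⟩ := exists_prime_orderOf_dvd_card' (G := L) 2 (by
        rw [Nat.card_congr eL.toEquiv]; exact two_dvd_psl hK4)
      have hxD : (x : Cg t) ∈ D := sq_one_mem hDodd (by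
        rw [← Subgroup.coe_mul, ← pow_two, ← hx, pow_orderOf_eq_one, Subgroup.coe_one])
      have : x ∈ D.subgroupOf L := hxD
      rw [hb, mem_bot] at this
      rw [this, orderOf_one] at hx
      omega
    · rwa [subgroupOf_eq_top] at hb
  have hPeq : P = D := le_antisymm hPD hDP
  have hcard : 2 * Nat.card PSL2[K] = 2 * Nat.card PSL2[F] := by
    have hPc : Nat.card P = 2 * Nat.card L := by
      haveI hZn : (zpowers t').Normal := hL.cent ▸ normal_centralizer
      have ht2 : orderOf t' = 2 := orderOf_eq_prime (by rw [pow_two]; exact hTsq t' ht.1)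
        (fun e1 => ht.2 (congrArg Subtype.val e1))
      have hd : zpowers t' ⊓ L = ⊥ := by
        rw [eq_bot_iff]
        rintro z ⟨hz, hzL⟩
        obtain ⟨k, rfl⟩ := mem_zpowers_iff.1 hz
        rw [← zpow_mod_orderOf, ht2] at hzL ⊢
        rcases Int.emod_two_eq_zero_or_one k with hk | hk
        · rw [show k % ((2 : ℕ) : ℤ) = 0 from hk, zpow_zero]; exact one_mem _
        · rw [show k % ((2 : ℕ) : ℤ) = 1 from hk, zpow_one] at hzL
          exact absurd hzL hL.notMem
      have := Subgroup.card_mul_index ((zpowers t').subgroupOf P)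
      rw [Nat.card_congr (subgroupOfEquivOfLe (le_sup_left : zpowers t' ≤ P)).toEquiv, Nat.card_zpowers, ht2,
        ← relIndex, hP, sup_comm, relIndex_sup_right, ← inf_relIndex_right, hd, relIndex_bot_left,
        sup_comm L] at this
      exact this.symm
    rw [← Nat.card_congr eL.toEquiv, ← hPc, hPeq, Nat.card_congr eD.toEquiv, Nat.card_prod,
      Nat.card_congr Multiplicative.toAdd, Nat.card_zmod]
  have hoK : Odd (Fintype.card K) := Nat.odd_iff.2 (by omega)
  have hoF : Odd (Fintype.card F) := Nat.odd_iff.2 (by rcases h.mod_eight with e8 | e8 <;> omega)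
  have hq : Fintype.card K = Fintype.card F := by
    refine card_psl_eq hoK hoF ?_
    rw [← Cfsg.Lib.Linear.Two.card_PSL_two (F := K), ← Cfsg.Lib.Linear.Two.card_PSL_two (F := F),
      Nat.gcd_eq_left (by obtain ⟨m, hm⟩ := hoK; omega), Nat.gcd_eq_left (by obtain ⟨m, hm⟩ := hoF; omega)]
    exact hcard
  have hdvd := hL.index_dvd (Subtype.ext (hsq t ht.1)) hoK eL hp hf (hq.trans hF)
  rw [← hP, hPeq] at hdvd
  have hN : N.index = D.index := by
    rw [← relIndex_top_right, ← hfac, sup_comm, relIndex_sup_right]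
    rfl
  rwa [hN]

end SocleModel

end Cfsg.Lib.Walter3
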