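import Cfsg.Agent.Lib.Walter3.CoreClause
import Cfsg.Agent.Lib.Walter3.Field.Main
import Cfsg.Agent.Lib.Walter3.Field.ThreeLocal

/-!
# The clause on centralizers in all simple groups
-/

set_option autoImplicit false
set_option linter.unusedSectionVars false

namespace Cfsg.Lib.Walter3

universe u

/-- The field part is trivial in a minimal counterexample. -/
theorem fieldClause (X : Type u) [Group X] [Finite X] [IsSimpleGroup X]
    (hna : ¬ IsMulCommutative X) (ih : CentBelow.{u} (Nat.card X)) : FieldClause X :=
  Field.fieldClause_of_local X hna (fun _ _ _ c hg hf => c.three_not_dvd_f hg hf)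
    (fun _ _ _ c hg hf => c.exists_borel hg hf) fun Y _ _ _ hlt hY => ih Y hlt hY

/-- The centralizers of involutions in a simple group with a Sylow two-subgroup of order eight. -/
theorem centClause (X : Type u) [Group X] [Finite X] [IsSimpleGroup X]
    (hna : ¬ IsMulCommutative X) : CentClause X :=
  centClause_of_field (fun Y _ _ _ hY ih => fieldClause Y hY ih) X hna

end Cfsg.Lib.Walter3
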