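import Cfsg.Agent.Lib.Walter3.FieldModel

/-!
# The field part of `C(t)` inside a simple group with automizer of order 21

`F₀ = O(C(S))` is cyclic, `C(t) = (⟨t⟩ × L) F₀` with trivial intersection, and `|F₀|` divides the
number of involutions.  When `F₀ = 1` the centralizer is `2 × PSL₂(q)`.
-/

set_option autoImplicit false
set_option linter.style.haveILetI false
set_option linter.unusedSectionVars false

namespace Cfsg.Lib.Walter3

open Subgroup Cfsg
open scoped commutatorElement

universe u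

variable {G : Type u} [Group G] [Finite G]

/-- `O(C(S))`, as a subgroup of `G`. -/
def fieldPart (S : Sylow 2 G) : Subgroup G :=
  (oddCore ↥(centralizer ((S : Subgroup G) : Set G))).map (centralizer ((S : Subgroup G) : Set G)).subtype

theorem fieldPart_le (S : Sylow 2 G) : fieldPart S ≤ centralizer ((S : Subgroup G) : Set G) :=
  map_subtype_le _

theorem odd_card_fieldPart (S : Sylow 2 G) : Odd (Nat.card (fieldPart S)) := by
  rw [fieldPart, Subgroup.card_map_of_injective (subtype_injective _)]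
  exact Cfsg.Lib.AbTwo.odd_oddCore

theorem eq_one_of_mem_of_mem_fieldPart (S : Sylow 2 G) {x : G} (hS : x ∈ (S : Subgroup G))
    (hF : x ∈ fieldPart S) : x = 1 := by
  obtain ⟨n, hn⟩ := IsPGroup.iff_card.1 S.2
  have h1 : orderOf x ∣ 2 ^ n := hn ▸ Subgroup.orderOf_dvd_natCard _ hS
  have h2 : orderOf x ∣ Nat.card (fieldPart S) := Subgroup.orderOf_dvd_natCard _ hF
  have hco : (2 ^ n).Coprime (Nat.card (fieldPart S)) :=
    Nat.Coprime.pow_left n (Nat.coprime_two_left.2 (odd_card_fieldPart S))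
  exact orderOf_eq_one_iff.1 (Nat.dvd_one.1 (hco.gcd_eq_one ▸ Nat.dvd_gcd h1 h2))

variable (S : Sylow 2 G) [IsMulCommutative (S : Subgroup G)]

/-- `C(S) = S × O(C(S))`. -/
theorem exists_mul_fieldPart {c : G} (hc : c ∈ centralizer ((S : Subgroup G) : Set G)) :
    ∃ s ∈ (S : Subgroup G), ∃ x ∈ fieldPart S, c = s * x := by
  haveI : Fact (Nat.Prime 2) := ⟨Nat.prime_two⟩
  set M := centralizer ((S : Subgroup G) : Set G) with hM
  have hSM : (S : Subgroup G) ≤ M := le_centralizer_iff_isMulCommutative.2 inferInstance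
  let T : Sylow 2 M := S.subtype hSM
  have hTc : ∀ y : M, y ∈ (T : Subgroup M) → y ∈ center M := fun y hy =>
    mem_center_iff.2 fun z => Subtype.ext (mem_centralizer_iff.1 z.2 _ hy).symm
  obtain ⟨P, K, hK, hKP⟩ := Cfsg.Lib.Fusion.hasNormalPComplement_of_normalizer_le_centralizer T
    fun y _ => mem_centralizer_iff.2 fun z hz => (mem_center_iff.1 (hTc z hz) y).symm
  have hKle : K ≤ oddCore ↥M := by
    refine ZStar.le_oddCore hK ?_
    rw [← Nat.not_even_iff_odd, even_iff_two_dvd, ← hKP.index_eq_card]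
    exact P.not_dvd_index
  obtain ⟨g, hg⟩ := MulAction.exists_smul_eq M T P
  have hPS : ∀ y ∈ (P : Subgroup M), (y : G) ∈ (S : Subgroup G) := by
    intro y hy
    rw [← hg, Sylow.coe_subgroup_smul] at hy
    obtain ⟨z, hz, rfl⟩ := hy
    have : g * z * g⁻¹ = z := by rw [mem_center_iff.1 (hTc z hz) g, mul_inv_cancel_right]
    show ((g * z * g⁻¹ : M) : G) ∈ _
    rw [this]
    exact hz
  have htop : (⟨c, hc⟩ : M) ∈ (Set.univ : Set M) := trivial
  obtain ⟨⟨k, p⟩, hkp⟩ := hKP.2 ⟨c, hc⟩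
  refine ⟨(p : M), hPS _ p.2, (k : M), mem_map_of_mem _ (hKle k.2), ?_⟩
  rw [show c = ((k : M) : G) * ((p : M) : G) from congrArg Subtype.val hkp.symm]
  exact (mem_centralizer_iff.1 (k : M).2 _ (hPS _ p.2)).symm

theorem mem_fieldPart_iff {x : G} :
    x ∈ fieldPart S ↔ x ∈ centralizer ((S : Subgroup G) : Set G) ∧ Odd (orderOf x) := by
  constructor
  · intro hx
    refine ⟨fieldPart_le S hx, Odd.of_dvd_nat (odd_card_fieldPart S) ?_⟩
    exact Subgroup.orderOf_dvd_natCard _ hx
  · rintro ⟨hx, hodd⟩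
    obtain ⟨s, hs, y, hy, hxy⟩ := exists_mul_fieldPart S hx
    have hsy : Commute s y := mem_centralizer_iff.1 (fieldPart_le S hy) s hs
    obtain ⟨n, hn⟩ := IsPGroup.iff_card.1 S.2
    have h1 : x ^ (2 ^ n) ∈ fieldPart S := by
      rw [hxy, hsy.mul_pow]
      have : s ^ (2 ^ n) = 1 := orderOf_dvd_iff_pow_eq_one.1 (hn ▸ Subgroup.orderOf_dvd_natCard _ hs)
      rw [this, one_mul]
      exact pow_mem hy _
    obtain ⟨m, hm⟩ := exists_pow_eq_self_of_coprime (n := 2 ^ n) (x := x)
      (Nat.Coprime.pow_left n (Nat.coprime_two_left.2 hodd))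
    rw [← hm]
    exact pow_mem h1 m

theorem normalizer_le_normalizer_fieldPart :
    normalizer ((S : Subgroup G) : Set G) ≤ normalizer (fieldPart S : Set G) := by
  intro n hn
  refine Cfsg.Lib.Fusion.le_normalizer_of_conj_mem fun x hx => ?_
  obtain ⟨hxc, hodd⟩ := (mem_fieldPart_iff S).1 hx
  refine (mem_fieldPart_iff S).2 ⟨mem_centralizer_iff.2 fun s hs => ?_, ?_⟩
  · have h := mem_centralizer_iff.1 hxc (n⁻¹ * s * n) ((mem_normalizer_iff.1 hn _).2 (by
      simpa [mul_assoc] using (show s ∈ (S : Subgroup G) from hs)))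
    calc s * (n * x * n⁻¹) = n * (n⁻¹ * s * n * x) * n⁻¹ := by group
      _ = n * (x * (n⁻¹ * s * n)) * n⁻¹ := by rw [h]
      _ = n * x * n⁻¹ * s := by group
  · rwa [show n * x * n⁻¹ = MulAut.conj n x from rfl, MulEquiv.orderOf_eq]

variable [IsSimpleGroup G] (hna : ¬ IsMulCommutative G) (h8 : Nat.card (S : Subgroup G) = 8)
  (hel : IsElementaryAbelian 2 (S : Subgroup G)) (h21 : Nat.card (E8Cent.automizer S) = 21)
  {t : G} (htS : t ∈ (S : Subgroup G)) (ht : t ≠ 1)

/-- What the analysis of the field part uses about `C(t)`. -/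
structure FieldSetup (S : Sylow 2 G) (t : G) (L : Subgroup ↥(centralizer ({t} : Set G))) : Prop where
  model : ∃ (T : Sylow 2 ↥(centralizer ({t} : Set G))) (tC : ↥(centralizer ({t} : Set G))),
    (tC : G) = t ∧ (∀ c, c ∈ (T : Subgroup ↥(centralizer ({t} : Set G))) ↔ (c : G) ∈ (S : Subgroup G)) ∧
      FieldModel (T : Subgroup ↥(centralizer ({t} : Set G))) tC L ∧
      (zpowers tC ⊔ L) ⊓ (fieldPart S).subgroupOf (centralizer ({t} : Set G)) = ⊥ ∧
      (zpowers tC ⊔ L) ⊔ (fieldPart S).subgroupOf (centralizer ({t} : Set G)) = ⊤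
  le : fieldPart S ≤ centralizer ({t} : Set G)
  cyclic : IsCyclic (fieldPart S)
  normalizer_centralizes : normalizer ((S : Subgroup G) : Set G) ≤ centralizer (fieldPart S : Set G)
  dvd : Nat.card (fieldPart S) ∣ (centralizer ({t} : Set G)).index

include hna h8 hel h21 htS ht in
theorem exists_fieldSetup (hO : oddCore ↥(centralizer ({t} : Set G)) = ⊥)
    (hns : ¬ Group.IsSolvable ↥(centralizer ({t} : Set G))) :
    ∃ L : Subgroup ↥(centralizer ({t} : Set G)), FieldSetup S t L := by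
  haveI : Fact (Nat.Prime 2) := ⟨Nat.prime_two⟩
  set C := centralizer ({t} : Set G) with hC
  have hCS : centralizer ((S : Subgroup G) : Set G) ≤ C := fun c hc =>
    mem_centralizer_singleton_iff.2 (mem_centralizer_iff.1 hc t htS).symm
  have hSC : (S : Subgroup G) ≤ C := (le_centralizer_iff_isMulCommutative.2 inferInstance).trans hCS
  let T : Sylow 2 C := S.subtype hSC
  have hT : ∀ c : C, c ∈ (T : Subgroup C) ↔ (c : G) ∈ (S : Subgroup G) := fun c => Iff.rfl
  set tC : C := ⟨t, mem_centralizer_singleton_iff.2 rfl⟩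
  have htC : tC ∈ center C := mem_center_iff.2 fun c =>
    Subtype.ext (mem_centralizer_singleton_iff.1 c.2)
  have hT8 : Nat.card (T : Subgroup C) = 8 :=
    (Nat.card_congr (subgroupOfEquivOfLe hSC).toEquiv).trans h8
  have hTel : IsElementaryAbelian 2 (T : Subgroup C) :=
    ⟨⟨⟨fun a b => Subtype.ext (Subtype.ext (show ((a : C) : G) * (b : C) = (b : C) * (a : C) from
      congrArg Subtype.val (IsMulCommutative.is_comm.comm
        (⟨_, (hT _).1 a.2⟩ : (S : Subgroup G)) ⟨_, (hT _).1 b.2⟩)))⟩⟩,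
      fun a ha => Subtype.ext (hel.2 _ ((hT _).1 ha))⟩
  obtain ⟨L, hL⟩ := exists_fieldModel T hT8 hTel (t := tC) htS
    (fun h => ht (congrArg Subtype.val h)) htC hO hns
  set P := zpowers tC ⊔ L with hP
  haveI := hL.normalP
  haveI hcyc : IsCyclic (C ⧸ P) := hL.cyclic
  have hFC : fieldPart S ≤ C := (fieldPart_le S).trans hCS
  have hcS : ∀ c : C, (c : G) ∈ centralizer ((S : Subgroup G) : Set G) →
      c ∈ centralizer ((T : Subgroup C) : Set C) := fun c hc =>
    mem_centralizer_iff.2 fun s hs => Subtype.ext (mem_centralizer_iff.1 hc _ hs)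
  have hinf : P ⊓ (fieldPart S).subgroupOf C = ⊥ := by
    refine (eq_bot_iff_forall _).2 fun c hc => Subtype.ext ?_
    exact eq_one_of_mem_of_mem_fieldPart S
      ((hT c).1 (hL.selfCent ⟨hc.1, hcS c (fieldPart_le S hc.2)⟩)) hc.2
  have hsup : P ⊔ (fieldPart S).subgroupOf C = ⊤ := by
    refine eq_top_iff.2 (hL.cover.ge.trans (sup_le le_sup_left fun c hc => ?_))
    have hc' : (c : G) ∈ centralizer ((S : Subgroup G) : Set G) :=
      mem_centralizer_iff.2 fun s hs => congrArg Subtype.val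
        (mem_centralizer_iff.1 hc ⟨s, hSC hs⟩ ((hT _).2 hs))
    obtain ⟨s, hs, x, hx, hcx⟩ := exists_mul_fieldPart S hc'
    have h := mul_mem (mem_sup_left (T := (fieldPart S).subgroupOf C)
      (hL.le ((hT ⟨s, hSC hs⟩).2 hs))) (mem_sup_right (S := P) (show (⟨x, hFC hx⟩ : C) ∈
        (fieldPart S).subgroupOf C from hx))
    rwa [show c = ⟨s, hSC hs⟩ * ⟨x, hFC hx⟩ from Subtype.ext hcx]
  haveI hFcyc : IsCyclic (fieldPart S) :=
    isCyclic_of_injective ((QuotientGroup.mk' P).comp (inclusion hFC)) (by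
      rw [injective_iff_map_eq_one]
      intro x hx
      have : inclusion hFC x ∈ P ⊓ (fieldPart S).subgroupOf C :=
        ⟨(QuotientGroup.eq_one_iff _).1 hx, x.2⟩
      rw [hinf, mem_bot] at this
      exact Subtype.ext (by simpa using congrArg Subtype.val this))
  letI : CommGroup (C ⧸ P) := IsCyclic.commGroup
  have hC' : centralizer ((S : Subgroup G) : Set G) ≤ centralizer (fieldPart S : Set G) := by
    intro c hc
    obtain ⟨s, hs, x, hx, rfl⟩ := exists_mul_fieldPart S hc
    refine mul_mem (mem_centralizer_iff.2 fun y hy => ?_) (mem_centralizer_iff.2 fun y hy => ?_)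
    · exact (mem_centralizer_iff.1 (fieldPart_le S hy) s hs).symm
    · letI : CommGroup (fieldPart S) := IsCyclic.commGroup
      exact congrArg Subtype.val (mul_comm (⟨y, hy⟩ : fieldPart S) ⟨x, hx⟩)
  have hCt : C ⊓ normalizer ((S : Subgroup G) : Set G) ≤ centralizer (fieldPart S : Set G) := by
    rintro n ⟨hnC, hnN⟩
    refine mem_centralizer_iff.2 fun x hx => ?_
    set d : C := ⁅(⟨n, hnC⟩ : C), (⟨x, hFC hx⟩ : C)⁆ with hd
    have h1 : d ∈ P := by
      rw [← QuotientGroup.eq_one_iff]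
      show (QuotientGroup.mk' P) d = 1
      rw [hd, map_commutatorElement, commutatorElement_eq_one_iff_mul_comm]
      exact mul_comm _ _
    have h2 : (d : G) ∈ fieldPart S := by
      show n * x * n⁻¹ * x⁻¹ ∈ fieldPart S
      exact mul_mem ((mem_normalizer_iff.1 (normalizer_le_normalizer_fieldPart S hnN) x).1 hx)
        (inv_mem hx)
    have h3 : d = 1 := mem_bot.1 (hinf ▸ (⟨h1, h2⟩ : d ∈ P ⊓ (fieldPart S).subgroupOf C))
    exact congrArg Subtype.val (commutatorElement_eq_one_iff_mul_comm.1 h3).symm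
  refine ⟨L, ⟨T, tC, rfl, hT, hL, hinf, hsup⟩, hFC, hFcyc,
    normalizer_centralizes S h8 hel h21 htS ht _ (normalizer_le_normalizer_fieldPart S) hC' hCt, ?_⟩
  refine card_dvd_index hna S h8 hel h21 htS ht (QuotientGroup.mk' P) (fieldPart S) hFC
    (fun x hx h1 => ?_) (normalizer_le_normalizer_fieldPart S) hC' hCt
  exact mem_bot.1 (hinf ▸ (⟨(QuotientGroup.eq_one_iff _).1 h1, hx⟩ : x ∈ P ⊓ (fieldPart S).subgroupOf C))

omit [IsSimpleGroup G] [IsMulCommutative (S : Subgroup G)] in
/-- Without field part the centralizer is `2 × PSL₂(q)`. -/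
theorem cent_iso_of_fieldPart_eq_bot {L : Subgroup ↥(centralizer ({t} : Set G))}
    (h : FieldSetup S t L) (ht2 : orderOf t = 2) (hF : fieldPart S = ⊥) :
    ∃ (F : Type) (_ : Field F) (_ : Fintype F),
      (Fintype.card F % 8 = 3 ∨ Fintype.card F % 8 = 5) ∧ 5 ≤ Fintype.card F ∧
      Nonempty (centralizer ({t} : Set G) ≃*
        Multiplicative (ZMod 2) × Matrix.ProjectiveSpecialLinearGroup (Fin 2) F) := by
  obtain ⟨T, tC, htC, -, hL, -, hsup⟩ := h.model
  obtain ⟨F, i, j, h38, h5, ⟨e⟩⟩ := hL.iso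
  refine ⟨F, i, j, h38, h5, ?_⟩
  rw [hF, Subgroup.bot_subgroupOf, sup_bot_eq] at hsup
  haveI := hL.normal
  have htc : orderOf tC = 2 := by rw [← Subgroup.orderOf_coe, htC, ht2]
  have hcomm : ∀ (a : zpowers tC) (b : L), Commute ((zpowers tC).subtype a) (L.subtype b) := fun a b =>
    (mem_centralizer_iff.1 (hL.cent.ge a.2) _ b.2).symm
  let m : zpowers tC × L →* centralizer ({t} : Set G) :=
    MonoidHom.noncommCoprod (zpowers tC).subtype L.subtype hcomm
  have hm : Function.Bijective m := by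
    constructor
    · show Function.Injective (MonoidHom.noncommCoprod _ _ hcomm)
      rw [MonoidHom.noncommCoprod_injective]
      refine ⟨subtype_injective _, subtype_injective _, ?_⟩
      rw [range_subtype, range_subtype, disjoint_iff_inf_le]
      rintro c ⟨hc, hcL⟩
      obtain ⟨k, rfl⟩ := mem_zpowers_iff.1 hc
      rw [mem_bot, ← zpow_mod_orderOf, htc]
      rcases Int.emod_two_eq_zero_or_one k with hk | hk
      · rw [show k % ((2 : ℕ) : ℤ) = 0 from hk, zpow_zero]
      · rw [← zpow_mod_orderOf, htc, show k % ((2 : ℕ) : ℤ) = 1 from hk, zpow_one] at hcL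
        exact absurd hcL hL.notMem
    · show Function.Surjective (MonoidHom.noncommCoprod _ _ hcomm)
      rw [← MonoidHom.range_eq_top, MonoidHom.noncommCoprod_range, range_subtype, range_subtype]
      exact hsup
  haveI : IsCyclic (Multiplicative (ZMod 2)) := inferInstance
  exact ⟨(MulEquiv.ofBijective m hm).symm.trans (MulEquiv.prodCongr
    (mulEquivOfCyclicCardEq (by rw [Nat.card_zpowers, htc]; simp)) e)⟩

end Cfsg.Lib.Walter3
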