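import Cfsg.Agent.Lib.Walter3.CaseSplit
import Cfsg.Agent.Lib.Walter3.FieldSetup

/-!
# Assembly: trivial cores and trivial field parts give the theorem on Sylow subgroups of order eight
-/

set_option autoImplicit false

namespace Cfsg.Lib.Walter3

open Subgroup Cfsg

universe u

variable {G : Type u} [Group G] [Finite G] [IsSimpleGroup G]

/-- No involution of a critical Sylow subgroup has a centralizer with a nontrivial odd core. -/
def CoreClause (G : Type u) [Group G] : Prop :=
  ∀ S : Sylow 2 G, Nat.card (S : Subgroup G) = 8 → IsElementaryAbelian 2 (S : Subgroup G) →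
    Nat.card (E8Cent.automizer S) = 21 → ∀ t : G, orderOf t = 2 → t ∈ (S : Subgroup G) →
      ¬ Group.IsSolvable ↥(centralizer ({t} : Set G)) → oddCore ↥(centralizer ({t} : Set G)) = ⊥

/-- The field part is trivial. -/
def FieldClause (G : Type u) [Group G] : Prop :=
  ∀ S : Sylow 2 G, Nat.card (S : Subgroup G) = 8 → IsElementaryAbelian 2 (S : Subgroup G) →
    Nat.card (E8Cent.automizer S) = 21 → ∀ t : G, orderOf t = 2 → t ∈ (S : Subgroup G) →
      ∀ L : Subgroup ↥(centralizer ({t} : Set G)), FieldSetup S t L → fieldPart S = ⊥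

theorem centClause_of (hna : ¬ IsMulCommutative G) (hc : CoreClause G) (hf : FieldClause G) :
    CentClause G := by
  intro S h8 hel h21 t ht2 htS hns
  have := hel.1
  obtain ⟨L, hL⟩ := exists_fieldSetup S hna h8 hel h21 htS
    (fun h => by rw [h, orderOf_one] at ht2; omega) (hc S h8 hel h21 t ht2 htS hns) hns
  obtain ⟨F, i, j, -, h5, he⟩ := cent_iso_of_fieldPart_eq_bot S hL ht2
    (hf S h8 hel h21 t ht2 htS L hL)
  exact ⟨F, i, j, by omega, he⟩

theorem eight_concl_of (hna : ¬ IsMulCommutative G) (hc : CoreClause G) (hf : FieldClause G)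
    (T : Sylow 2 G) (h8 : Nat.card (T : Subgroup G) = 8) : EightConcl G :=
  eight_concl hna (centClause_of hna hc hf) T h8

end Cfsg.Lib.Walter3
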