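import Cfsg.Agent.Lib.Walter3.Assembly
import Cfsg.Agent.Lib.SimpleAbTwo.Cases
import Cfsg.Agent.Lib.AllAb.Main
import Cfsg.Agent.Lib.WalterBig.Main

/-!
# The theorems on abelian Sylow two-subgroups, given the clause on centralizers
-/

set_option autoImplicit false

namespace Cfsg.Lib.Walter3

open Subgroup Cfsg Matrix

universe u

variable {G : Type u} [Group G] [Finite G] [IsSimpleGroup G]

/-- Abelian Sylow two-subgroups. -/
theorem abTwo_concl (hG : ¬ IsMulCommutative G) (S : Sylow 2 G) (hS : IsMulCommutative (S : Subgroup G))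
    (hW : CentClause G) :
    (∃ a : ℕ, 2 ≤ a ∧ ∃ (F : Type) (_ : Field F) (_ : Fintype F), Fintype.card F = 2 ^ a ∧
      Nonempty (G ≃* ProjectiveSpecialLinearGroup (Fin 2) F)) ∨
    (∃ (F : Type) (_ : Field F) (_ : Fintype F), (Fintype.card F % 8 = 3 ∨ Fintype.card F % 8 = 5) ∧
      Nonempty (G ≃* ProjectiveSpecialLinearGroup (Fin 2) F)) ∨
    Cfsg.IsRee G ∨ Cfsg.IsJ1 G := by
  rcases SimpleAbTwo.cases hG S hS hW with ⟨F, i, j, hF, he⟩ | ⟨t, F, i, j, -, -, -, -, hord⟩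
  · rcases hF with ⟨a, ha, hF⟩ | ⟨hF, -⟩
    · exact Or.inl ⟨a, ha, F, i, j, hF, he⟩
    · exact Or.inr (Or.inl ⟨F, i, j, hF, he⟩)
  · rcases hord with ⟨m, hm, -, hcard⟩ | ⟨-, hJ⟩
    · exact Or.inr (Or.inr (Or.inl ⟨inferInstance, m, hm, hcard⟩))
    · exact Or.inr (Or.inr (Or.inr hJ))

/-- All Sylow subgroups abelian. -/
theorem allAb_concl (hG : ¬ IsMulCommutative G)
    (hA : ∀ (p : ℕ), p.Prime → ∀ (P : Sylow p G), IsMulCommutative ↥P) (hW : CentClause G) :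
    AllAb.AllAbConcl G :=
  AllAb.allAb_concl_of hG hA (fun S hS h =>
    WalterBig.big hG S hS (h.elim Or.inr fun ⟨x, hx, hx1⟩ => Or.inl fun hall => hx1 (hall x hx))) hW

end Cfsg.Lib.Walter3
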