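import Cfsg.Agent.Lib.Walter3.Coprime
import Cfsg.Agent.Lib.Group.MinimalNormalFactor
import Cfsg.Agent.Lib.Sig.PConstrained

/-!
# Proper subgroups with transitive automizer

The induction hypothesis: the odd cores of involution centralizers disappear modulo the odd core.
-/

set_option autoImplicit false
set_option linter.unusedSectionVars false
set_option linter.style.haveILetI false

namespace Cfsg.Lib.Walter3

open Subgroup Cfsg
open scoped commutatorElement

universe u

variable {X : Type u} [Group X] [Finite X]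

theorem isSolvable_of_sylow_le_two {M : Subgroup X} (h : ¬ 4 ∣ Nat.card M) : Group.IsSolvable M := by
  haveI : Fact (Nat.Prime 2) := ⟨Nat.prime_two⟩
  by_cases h2 : 2 ∣ Nat.card M
  swap
  · exact AbTwo.isSolvable_of_odd (Nat.odd_iff.2 (Nat.two_dvd_ne_zero.1 h2))
  obtain ⟨P⟩ : Nonempty (Sylow 2 M) := inferInstance
  obtain ⟨j, hj⟩ := IsPGroup.iff_card.1 P.isPGroup'
  have hd := card_subgroup_dvd_card (P : Subgroup M)
  rw [hj] at hd
  have hj2 : j ≤ 1 := by
    by_contra hlt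
    exact h ((show 4 ∣ 2 ^ j from pow_dvd_pow 2 (show 2 ≤ j by omega)).trans hd)
  have hj1 : j = 1 := by
    by_contra hne
    obtain rfl : j = 0 := by omega
    refine P.not_dvd_index ?_
    rwa [← P.1.card_mul_index, hj, pow_zero, one_mul] at h2
  subst hj1
  have hle : normalizer ((P : Subgroup M) : Set M) ≤ centralizer ((P : Subgroup M) : Set M) := by
    intro n hn
    refine mem_centralizer_iff.2 fun x hx => ?_
    by_cases hx1 : x = 1
    · rw [hx1, one_mul, mul_one]
    have hset : ((P : Subgroup M) : Set M) = {1, x} := by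
      refine (Set.eq_of_subset_of_ncard_le ?_ ?_).symm
      · rintro y (rfl | rfl)
        exacts [one_mem _, hx]
      · rw [Set.ncard_pair (Ne.symm hx1), ← Nat.card_coe_set_eq]
        exact hj.le
    have hy : n * x * n⁻¹ ∈ ((P : Subgroup M) : Set M) := (mem_normalizer_iff.1 hn x).1 hx
    rw [hset] at hy
    rcases hy with e | e
    · exact absurd (conj_eq_one_iff.1 e) hx1
    · calc x * n = n * x * n⁻¹ * n := by rw [Set.mem_singleton_iff.1 e]
        _ = n * x := by group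
  have hcompl := MonoidHom.ker_transferSylow_isComplement' P hle
  set K := (MonoidHom.transferSylow P hle).ker
  have hK : Odd (Nat.card K) := by
    refine Nat.odd_iff.2 (Nat.two_dvd_ne_zero.1 fun hd => P.not_dvd_index ?_)
    rw [hcompl.index_eq_card]; exact hd
  haveI : Group.IsSolvable K := AbTwo.isSolvable_of_odd hK
  haveI : Group.IsSolvable (P : Subgroup M) := by
    haveI : Fact (Nat.card (P : Subgroup M)).Prime := ⟨by rw [hj]; norm_num⟩
    haveI := isCyclic_of_prime_card (α := (P : Subgroup M)) rfl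
    exact Group.isSolvable_of_comm fun a b => (IsCyclic.commGroup (α := (P : Subgroup M))).mul_comm a b
  haveI : Group.IsSolvable (M ⧸ K) := by
    refine Group.isSolvable_of_surjective
      (f := (QuotientGroup.mk' K).comp (P : Subgroup M).subtype) fun y => ?_
    obtain ⟨g, rfl⟩ := QuotientGroup.mk'_surjective K y
    obtain ⟨⟨n, s⟩, rfl⟩ := hcompl.2 g
    exact ⟨s, by simp [(QuotientGroup.eq_one_iff (n : M)).mpr n.2]⟩
  exact Group.isSolvable_of_ker_le_range K.subtype (QuotientGroup.mk' K) (by simp)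

/-- A nonsolvable minimal normal subgroup is simple when `16` does not divide the order. -/
theorem isSimpleGroup_of_minimal (h16 : ¬ 16 ∣ Nat.card X) {N : Subgroup X} [hN : N.Normal]
    (hne : N ≠ ⊥) (hmin : ∀ M : Subgroup X, M.Normal → M ≤ N → M ≠ ⊥ → M = N)
    (hns : ¬ Group.IsSolvable N) : IsSimpleGroup N := by
  obtain ⟨M, hM⟩ := Group.MinFactor.exists_factor hne
  haveI : Nontrivial N := (nontrivial_iff_ne_bot N).2 hne
  haveI hMnor : (M.subgroupOf N).Normal :=
    ⟨fun a ha g => mem_subgroupOf.2 (hM.norm g g.2 a (mem_subgroupOf.1 ha))⟩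
  have hMns : ¬ Group.IsSolvable M := by
    intro e
    haveI := e
    have hMs : Group.IsSolvable ↥(M.subgroupOf N) :=
      Group.isSolvable_of_isSolvable_injective (f := (subgroupOfEquivOfLe hM.le).toMonoidHom)
        (MulEquiv.injective _)
    obtain ⟨hrn, hrs⟩ := AbTwo.solvRad_mem (G := ↥N)
    haveI := hrn
    haveI : (AbTwo.solvRad ↥N).Characteristic := characteristic_iff_map_le.2 fun φ => by
      haveI : ((AbTwo.solvRad ↥N).map φ.toMonoidHom).Normal := hrn.map _ φ.surjective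
      haveI := hrs
      exact AbTwo.le_solvRad (Group.isSolvable_of_surjective
        (MonoidHom.subgroupMap_surjective φ.toMonoidHom (AbTwo.solvRad ↥N)))
    have hR := Core.normal_map_char_of_normal (N := N) (AbTwo.solvRad ↥N)
    by_cases hb : (AbTwo.solvRad ↥N).map N.subtype = ⊥
    · rw [map_eq_bot_iff_of_injective _ (subtype_injective N)] at hb
      refine hM.ne (eq_bot_iff.2 fun x hx => ?_)
      have h1 : (⟨x, hM.le hx⟩ : ↥N) ∈ AbTwo.solvRad ↥N :=
        AbTwo.le_solvRad hMs (mem_subgroupOf.2 hx)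
      rw [hb, mem_bot] at h1
      exact mem_bot.2 (congrArg Subtype.val h1)
    · refine hns ?_
      have he := hmin _ hR (map_subtype_le _) hb
      haveI := hrs
      have := Group.isSolvable_of_surjective
        (MonoidHom.subgroupMap_surjective N.subtype (AbTwo.solvRad ↥N))
      rwa [he] at this
  have hfour : 4 ∣ Nat.card M := by
    by_contra h4; exact hMns (isSolvable_of_sylow_le_two h4)
  have hconj : ∀ g : X, M.map (MulAut.conj g).toMonoidHom = M := by
    intro g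
    by_contra hne'
    set M' := M.map (MulAut.conj g).toMonoidHom
    have hdis : ∀ x ∈ M', x ∈ M → x = 1 := by
      intro x hx' hx
      by_contra hx1
      have hb : M' ⊓ M ≠ ⊥ := fun e => hx1 (mem_bot.1 (e ▸ ⟨hx', hx⟩ : x ∈ (⊥ : Subgroup X)))
      have hn : ∀ n ∈ N, ∀ r ∈ M' ⊓ M, n * r * n⁻¹ ∈ M' ⊓ M := fun n hn r hr =>
        ⟨(hM.conj g).norm n hn r hr.1, hM.norm n hn r hr.2⟩
      exact hne' (((hM.conj g).min _ inf_le_left hn hb).symm.trans (hM.min _ inf_le_right hn hb))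
    have hinj : Function.Injective (fun z : M' × M => (z.1 : X) * z.2) := by
      rintro ⟨⟨x, hx⟩, ⟨y, hy⟩⟩ ⟨⟨x', hx'⟩, ⟨y', hy'⟩⟩ e
      have e' : x * y = x' * y' := e
      have h1 : x'⁻¹ * x = y' * y⁻¹ := by
        calc x'⁻¹ * x = x'⁻¹ * (x * y) * y⁻¹ := by group
          _ = y' * y⁻¹ := by rw [e']; group
      have h2 := hdis _ (mul_mem (inv_mem hx') hx) (h1 ▸ mul_mem hy' (inv_mem hy))
      obtain rfl : x = x' := (inv_mul_eq_one.1 h2).symm
      obtain rfl : y = y' := mul_left_cancel e'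
      rfl
    have hcard : Nat.card ↥(M' ⊔ M) = Nat.card M' * Nat.card M := by
      let φ : M' × M →* X := MonoidHom.noncommCoprod M'.subtype M.subtype fun x y =>
        (hM.conj g).commute hM hne' x.2 y.2
      have hφ : φ.range = M' ⊔ M := by
        rw [MonoidHom.noncommCoprod_range, range_subtype, range_subtype]
      rw [← hφ, ← Nat.card_prod]
      exact (Nat.card_congr (MonoidHom.ofInjective (f := φ) hinj).toEquiv).symm
    refine h16 ((show 16 ∣ Nat.card ↥(M' ⊔ M) from ?_).trans (card_subgroup_dvd_card _))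
    rw [hcard, Subgroup.card_map_of_injective (MulAut.conj g).injective]
    exact Nat.mul_dvd_mul hfour hfour
  have hMn : M.Normal := ⟨fun a ha g => by
    have h1 : g * a * g⁻¹ ∈ M.map (MulAut.conj g).toMonoidHom := ⟨a, ha, rfl⟩
    rwa [hconj g] at h1⟩
  have hMN : M = N := hmin M hMn hM.le hM.ne
  refine IsSimpleGroup.mk fun R hR => ?_
  by_cases hb : R = ⊥
  · exact Or.inl hb
  refine Or.inr ?_
  have hRM := hM.min (R.map N.subtype) (by rw [hMN]; exact map_subtype_le R) (by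
    rintro n hn _ ⟨r, hr, rfl⟩
    exact ⟨⟨n, hn⟩ * r * ⟨n, hn⟩⁻¹, hR.conj_mem r hr _, rfl⟩)
    (fun e => hb ((map_eq_bot_iff_of_injective _ (subtype_injective N)).1 e))
  rw [hMN] at hRM
  refine eq_top_iff.2 fun x _ => ?_
  have hx : (x : X) ∈ R.map N.subtype := by rw [hRM]; exact x.2
  obtain ⟨r, hr, he⟩ := hx
  exact Subtype.ext he ▸ hr

/-- Odd subgroups normalized by the centralizer of an involution are centralized by the Sylow
subgroup, in a group without odd core whose Sylow normalizer is transitive on it. -/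
theorem commutator_eq_bot_of_trans {n : ℕ} (hbelow : CoreFreeBelow.{u} n) (hn : Nat.card X < n)
    (T : Sylow 2 X) (hT8 : Nat.card (T : Subgroup X) = 8) (hsq : ∀ x ∈ (T : Subgroup X), x * x = 1)
    (hO : Cfsg.oddCore X = ⊥)
    (htr : ∀ a ∈ (T : Subgroup X), ∀ b ∈ (T : Subgroup X), a ≠ 1 → b ≠ 1 → ∃ k : X, k * a * k⁻¹ = b)
    {b : X} (hb : b ∈ (T : Subgroup X)) (hb1 : b ≠ 1) {K : Subgroup X} (hK : K ≤ Cg b)
    (hodd : Odd (Nat.card K)) (hnorm : Cg b ≤ normalizer (K : Set X)) :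
    ⁅K, (T : Subgroup X)⁆ = ⊥ := by
  haveI : Fact (Nat.Prime 2) := ⟨Nat.prime_two⟩
  have hXne : (⊤ : Subgroup X) ≠ ⊥ := fun e =>
    hb1 (mem_bot.1 (e ▸ mem_top b : b ∈ (⊥ : Subgroup X)))
  obtain ⟨N, hNn, -, hNne, hNmin⟩ :=
    Group.MinFactor.exists_minimal_normal (inferInstance : (⊤ : Subgroup X).Normal) hXne
  haveI := hNn
  have h2N : 2 ∣ Nat.card N := by
    by_contra h2
    exact hNne (le_bot_iff.1 (hO ▸ Core.le_pPrimeCore' hNn
      (Nat.coprime_two_right.2 (Nat.odd_iff.2 (Nat.two_dvd_ne_zero.1 h2)))))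
  obtain ⟨z, hz⟩ := exists_prime_orderOf_dvd_card' (G := N) 2 h2N
  obtain ⟨T', hT'⟩ := (IsPGroup.of_card (n := 1) (by
    rw [Nat.card_zpowers, Subgroup.orderOf_coe, hz, pow_one]) :
    IsPGroup 2 (zpowers (z : X))).exists_le_sylow
  obtain ⟨g, hg⟩ := MulAction.exists_smul_eq X T' T
  set z' := g * (z : X) * g⁻¹ with hz'
  have hz'T : z' ∈ (T : Subgroup X) := by
    rw [← hg, Sylow.coe_subgroup_smul]
    exact ⟨z, hT' (mem_zpowers _), rfl⟩
  have hz'N : z' ∈ N := hNn.conj_mem _ z.2 g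
  have hz'1 : z' ≠ 1 := fun e => by
    have : (z : X) = 1 := conj_eq_one_iff.1 e
    rw [← Subgroup.orderOf_coe, this, orderOf_one] at hz
    omega
  have hTN : (T : Subgroup X) ≤ N := fun a ha => by
    by_cases ha1 : a = 1
    · rw [ha1]; exact one_mem N
    · obtain ⟨k, hk⟩ := htr z' hz'T a ha hz'1 ha1
      exact hk ▸ hNn.conj_mem _ hz'N k
  have hTcm : ∀ x ∈ (T : Subgroup X), ∀ y ∈ (T : Subgroup X), x * y = y * x := by
    intro x hx y hy
    calc x * y = (x * y)⁻¹ := (inv_eq_of_mul_eq_one_right (hsq _ (mul_mem hx hy))).symm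
      _ = y * x := by
        rw [mul_inv_rev, inv_eq_of_mul_eq_one_right (hsq x hx), inv_eq_of_mul_eq_one_right (hsq y hy)]
  have hTb : (T : Subgroup X) ≤ Cg b := fun x hx => mem_Cg.2 (hTcm x hx b hb)
  have hle1 : ⁅K, (T : Subgroup X)⁆ ≤ K := Coprime.commutator_le_of_le_normalizer (hTb.trans hnorm)
  have hle2 : ⁅K, (T : Subgroup X)⁆ ≤ N := by
    refine (commutator_mono le_rfl hTN).trans ?_
    exact commutator_le_right K N
  suffices hKN : K ⊓ N = ⊥ by rw [← le_bot_iff, ← hKN]; exact le_inf hle1 hle2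
  by_cases hsol : Group.IsSolvable N
  · -- a two-group
    have hmin : Core.IsMinNormal N := ⟨hNn, hNne, fun R hR hle => (eq_or_ne R ⊥).imp_right (hNmin R hR hle)⟩
    haveI := hsol
    obtain ⟨-, p, hp, -, hpg⟩ := Core.minimal_solvable_elementary hmin inferInstance
    haveI := Fact.mk hp
    obtain rfl : p = 2 := by
      obtain ⟨i, hi⟩ := IsPGroup.iff_card.1 hpg
      rw [hi] at h2N
      exact ((Nat.prime_dvd_prime_iff_eq Nat.prime_two hp).1 (Nat.prime_two.dvd_of_dvd_pow h2N)).symm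
    refine eq_bot_iff.2 fun x hx => mem_bot.2 ?_
    obtain ⟨i, hi⟩ := hpg ⟨x, hx.2⟩
    have hx2 : x ^ (2 ^ i) = 1 := congrArg Subtype.val hi
    have h1 : orderOf x ∣ 2 ^ i := orderOf_dvd_of_pow_eq_one hx2
    obtain ⟨j, -, hj⟩ := (Nat.dvd_prime_pow Nat.prime_two).1 h1
    have h3 := odd_orderOf hodd hx.1
    rw [hj] at h3
    rcases Nat.eq_zero_or_pos j with rfl | hjp
    · exact orderOf_eq_one_iff.1 (by rw [hj, pow_zero])
    · exact absurd h3 (Nat.not_odd_iff_even.2 ((Nat.even_pow' hjp.ne').2 even_two))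
  · have h16 : ¬ 16 ∣ Nat.card X := by
      intro h
      rw [← (T : Subgroup X).card_mul_index, hT8] at h
      exact T.not_dvd_index ((Nat.mul_dvd_mul_iff_left (by norm_num : 0 < 8)).1
        (show 8 * 2 ∣ 8 * (T : Subgroup X).index from h))
    haveI := isSimpleGroup_of_minimal h16 hNne hNmin hsol
    let T₁ : Sylow 2 N := T.subtype hTN
    have hc := hbelow N (lt_of_le_of_lt (card_le_card_group N) hn)
      (fun e => hsol (Group.isSolvable_of_comm fun a b => e.is_comm.comm a b)) T₁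
      (by rw [show (T₁ : Subgroup N) = (T : Subgroup X).subgroupOf N from rfl,
        Nat.card_congr (subgroupOfEquivOfLe hTN).toEquiv, hT8])
      (fun x hx => Subtype.ext (hsq x (mem_subgroupOf.1 hx))) ⟨b, hTN hb⟩ (by
        rw [← Subgroup.orderOf_coe]
        exact orderOf_eq_prime (by rw [pow_two, hsq b hb]) hb1)
    set C₁ := centralizer ({(⟨b, hTN hb⟩ : N)} : Set N) with hC₁
    set K₁ := (K.subgroupOf N).subgroupOf C₁ with hK₁
    have hK₁le : K.subgroupOf N ≤ C₁ := fun x hx => mem_centralizer_singleton_iff.2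
      (Subtype.ext (mem_Cg.1 (hK (mem_subgroupOf.1 hx))))
    haveI : K₁.Normal := ⟨fun a ha c => by
      have h1 : (c : N).1 ∈ Cg b :=
        mem_Cg.2 (congrArg Subtype.val (mem_centralizer_singleton_iff.1 c.2))
      exact mem_subgroupOf.2 (mem_subgroupOf.2
        ((mem_normalizer_iff.1 (hnorm h1) _).1 (mem_subgroupOf.1 (mem_subgroupOf.1 ha))))⟩
    have hbot : K₁ ≤ Cfsg.oddCore ↥C₁ := Core.le_pPrimeCore' inferInstance (by
      rw [Nat.card_congr (subgroupOfEquivOfLe hK₁le).toEquiv, ← inf_subgroupOf_right,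
        Nat.card_congr (subgroupOfEquivOfLe inf_le_right).toEquiv]
      exact Nat.coprime_two_right.2 (hodd.of_dvd_nat (card_dvd_of_le inf_le_left)))
    refine eq_bot_iff.2 fun x hx => mem_bot.2 ?_
    have h1 := hbot (show (⟨⟨x, hx.2⟩, hK₁le (mem_subgroupOf.2 hx.1)⟩ : C₁) ∈ K₁ from
      mem_subgroupOf.2 (mem_subgroupOf.2 hx.1))
    rw [hc, mem_bot] at h1
    exact congrArg (fun y : C₁ => ((y : N) : X)) h1

namespace Hyp

variable {G : Type u} [Group G] [Finite G] {S : Sylow 2 G} (h : Hyp S)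
include h

theorem bracket_le_cor (hbelow : CoreFreeBelow.{u} (Nat.card G)) {Y : Subgroup G}
    (hSY : (S : Subgroup G) ≤ Y) (hY : Y ≠ ⊤) (htr : TransAt S Y) {b : G} (hb : Pt S b) :
    ⁅Og b ⊓ Y, (S : Subgroup G)⁆ ≤ cor Y := by
  haveI : Fact (Nat.Prime 2) := ⟨Nat.prime_two⟩
  set O := Cfsg.oddCore ↥Y with hOdef
  set f := QuotientGroup.mk' O with hf
  have hfs : Function.Surjective f := QuotientGroup.mk'_surjective O
  let T₀ : Sylow 2 Y := S.subtype hSY
  let T : Sylow 2 (Y ⧸ O) := T₀.mapSurjective hfs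
  have hO : Odd (Nat.card O) := AbTwo.odd_oddCore
  have hinj : ∀ s : Y, (s : G) ∈ (S : Subgroup G) → f s = 1 → s = 1 := fun s hs e => by
    refine Subtype.ext (eq_one_of_sq_odd ?_ (h.sq s hs))
    have := odd_orderOf hO ((QuotientGroup.eq_one_iff s).1 e)
    rwa [Subgroup.orderOf_coe]
  have hTdef : (T : Subgroup (Y ⧸ O)) = ((S : Subgroup G).subgroupOf Y).map f := rfl
  have hT8 : Nat.card (T : Subgroup (Y ⧸ O)) = 8 := by
    rw [hTdef, ← h.card, ← Nat.card_congr (subgroupOfEquivOfLe hSY).toEquiv]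
    refine (Nat.card_congr (Equiv.ofBijective
      (fun s : (S : Subgroup G).subgroupOf Y => (⟨f s, mem_map_of_mem f s.2⟩ :
        ((S : Subgroup G).subgroupOf Y).map f)) ⟨?_, ?_⟩)).symm
    · intro a c e
      have e' : f (a : Y) = f (c : Y) := congrArg Subtype.val e
      have h1 := hinj ((a : Y)⁻¹ * c) (mul_mem (inv_mem (mem_subgroupOf.1 a.2)) (mem_subgroupOf.1 c.2))
        (by rw [map_mul, map_inv, e', inv_mul_cancel])
      exact Subtype.ext (inv_mul_eq_one.1 h1)
    · rintro ⟨_, s, hs, rfl⟩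
      exact ⟨⟨s, hs⟩, rfl⟩
  have hsq : ∀ x ∈ (T : Subgroup (Y ⧸ O)), x * x = 1 := by
    rw [hTdef]
    rintro _ ⟨s, hs, rfl⟩
    rw [← map_mul, show s * s = 1 from Subtype.ext (h.sq s (mem_subgroupOf.1 hs)), map_one]
  have htr' : ∀ a ∈ (T : Subgroup (Y ⧸ O)), ∀ c ∈ (T : Subgroup (Y ⧸ O)), a ≠ 1 → c ≠ 1 →
      ∃ k, k * a * k⁻¹ = c := by
    rw [hTdef]
    rintro _ ⟨a, ha, rfl⟩ _ ⟨c, hc, rfl⟩ ha1 hc1
    obtain ⟨n, hn, -, e⟩ := htr a c ⟨mem_subgroupOf.1 ha, fun e => ha1 (by
        rw [show a = 1 from Subtype.ext e, map_one])⟩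
      ⟨mem_subgroupOf.1 hc, fun e => hc1 (by rw [show c = 1 from Subtype.ext e, map_one])⟩
    exact ⟨f ⟨n, hn⟩, by rw [← map_mul, ← map_inv, ← map_mul]; exact congrArg f (Subtype.ext e)⟩
  have hbY : b ∈ Y := hSY hb.1
  set bY : Y := ⟨b, hbY⟩
  set K₀ := (Og b ⊓ Y).subgroupOf Y
  set K := K₀.map f
  have hbT : f bY ∈ (T : Subgroup (Y ⧸ O)) := by
    rw [hTdef]; exact mem_map_of_mem f (mem_subgroupOf.2 hb.1)
  have hb1 : f bY ≠ 1 := fun e => hb.2 (congrArg Subtype.val (hinj bY hb.1 e))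
  have hK : K ≤ Cg (f bY) := by
    rintro _ ⟨x, hx, rfl⟩
    refine mem_Cg.2 ?_
    rw [← map_mul, ← map_mul]
    exact congrArg f (Subtype.ext (mem_Cg.1 (cor_le _ (mem_subgroupOf.1 hx).1)))
  have hodd : Odd (Nat.card K) := by
    refine Odd.of_dvd_nat ?_ (Core.card_map_dvd f K₀)
    rw [show Nat.card K₀ = Nat.card ↥(Og b ⊓ Y) from
      Nat.card_congr (subgroupOfEquivOfLe (inf_le_right : Og b ⊓ Y ≤ Y)).toEquiv]
    exact odd_of_le inf_le_left (odd_cor _)
  have hp : IsPGroup 2 ↥(zpowers bY) := IsPGroup.of_card (n := 1) (by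
    rw [Nat.card_zpowers, ← Subgroup.orderOf_coe, pow_one]
    exact h.orderOf_pt hb)
  have hnorm : Cg (f bY) ≤ normalizer (K : Set (Y ⧸ O)) := by
    intro c hc
    have hcent := Sig.centralizer_map_mk' (p := 2) O (Nat.coprime_two_right.2 hO) hp
    rw [MonoidHom.map_zpowers, zpowers_eq_closure, zpowers_eq_closure, centralizer_closure,
      centralizer_closure] at hcent
    obtain ⟨y, hy, rfl⟩ : c ∈ (centralizer ({bY} : Set Y)).map f := hcent ▸ hc
    have hyC : (y : G) ∈ Cg b :=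
      mem_Cg.2 (congrArg Subtype.val (mem_centralizer_singleton_iff.1 hy))
    have hn : (y : G) ∈ normalizer ((Og b ⊓ Y : Subgroup G) : Set G) :=
      inf_normalizer_le_normalizer_inf ⟨le_normalizer_cor _ hyC, le_normalizer y.2⟩
    refine Fusion.le_normalizer_of_conj_mem ?_
    rintro _ ⟨x, hx, rfl⟩
    refine ⟨y * x * y⁻¹, mem_subgroupOf.2 ?_, by rw [map_mul, map_mul, map_inv]⟩
    exact (mem_normalizer_iff.1 hn _).1 (mem_subgroupOf.1 hx)
  have hlt : Nat.card (Y ⧸ O) < Nat.card G := by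
    refine lt_of_le_of_lt (Nat.card_le_card_of_surjective f hfs) ?_
    exact lt_of_le_of_ne (card_le_card_group Y) fun e => hY (eq_top_of_card_eq Y e)
  have key := commutator_eq_bot_of_trans hbelow hlt T hT8 hsq Core.pPrimeCore_quotient_eq_bot htr'
    hbT hb1 hK hodd hnorm
  rw [commutator_le]
  intro x hx s hs
  have h1 : f ⁅(⟨x, hx.2⟩ : Y), (⟨s, hSY hs⟩ : Y)⁆ = 1 := by
    have hmem := commutator_mem_commutator (H₁ := K) (H₂ := (T : Subgroup (Y ⧸ O)))
      (g₁ := f ⟨x, hx.2⟩) (g₂ := f ⟨s, hSY hs⟩) (mem_map_of_mem f (mem_subgroupOf.2 hx))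
      (by rw [hTdef]; exact mem_map_of_mem f (mem_subgroupOf.2 hs))
    rw [key, mem_bot] at hmem
    rwa [map_commutatorElement]
  exact ⟨_, (QuotientGroup.eq_one_iff _).1 h1, rfl⟩

end Hyp

end Cfsg.Lib.Walter3
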