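import Cfsg.Agent.Lib.Walter3.MaxInv
import Cfsg.Agent.Lib.Walter3.Section

/-!
# The two anchors

For an unbalanced prime the commutator of an invariant Sylow subgroup of `O(C(B))`, for a line `B`, and
of `O(C(t))`, for a point `t`, are anchors.
-/

set_option autoImplicit false
set_option linter.unusedSectionVars false
set_option linter.style.haveILetI false

namespace Cfsg.Lib.Walter3

open Subgroup Cfsg
open scoped commutatorElement

universe u

variable {G : Type u} [Group G] [Finite G] {S : Sylow 2 G} {p : ℕ}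

/-- The prime `p` is unbalanced. -/
def Unb (p : ℕ) (S : Sylow 2 G) : Prop :=
  ∃ H a b Q, IsLine (S : Subgroup G) H ∧ a ∈ H ∧ b ∈ H ∧ a ≠ 1 ∧ b ≠ 1 ∧ a ≠ b ∧
    MaxIn p S (Og a ⊓ centralizer (H : Set G)) Q ∧ ¬ ⁅Q, (S : Subgroup G)⁆ ≤ Og b

/-- The prime `p` is unbalanced at every flag. -/
def UnbAll (p : ℕ) (S : Sylow 2 G) : Prop :=
  ∀ H a b Q, IsLine (S : Subgroup G) H → a ∈ H → b ∈ H → a ≠ 1 → b ≠ 1 → a ≠ b →
    MaxIn p S (Og a ⊓ centralizer (H : Set G)) Q → ¬ ⁅Q, (S : Subgroup G)⁆ ≤ Og b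

namespace Hyp

variable (h : Hyp S) (hT : Torus S)
include h

omit h in
theorem centralizer_line_le {H : Subgroup G} {x : G} (hx : x ∈ H) : centralizer (H : Set G) ≤ Cg x :=
  fun _ hy => mem_Cg.2 (mem_centralizer_iff.1 hy x hx).symm

theorem Og_norm_S {x : G} (hx : x ∈ (S : Subgroup G)) :
    (S : Subgroup G) ≤ normalizer (Og x : Set G) :=
  (h.le_Cg hx).trans (le_normalizer_cor _)

theorem cor_line_norm {H : Subgroup G} (hH : H ≤ (S : Subgroup G)) :
    (S : Subgroup G) ≤ normalizer (cor (centralizer (H : Set G)) : Set G) :=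
  (h.sylow_le_centralizer_line hH).trans (le_normalizer_cor _)

omit h in
theorem Og_inf_centralizer_le {H : Subgroup G} {a : G} (ha : a ∈ H) :
    Og a ⊓ centralizer (H : Set G) ≤ cor (centralizer (H : Set G)) :=
  le_cor inf_le_right (odd_of_le inf_le_left (odd_cor _))
    ((le_inf ((centralizer_line_le ha).trans (le_normalizer_cor _)) le_normalizer).trans
      inf_normalizer_le_normalizer_inf)

omit h in
theorem cor_inf_Og {H : Subgroup G} {a : G} (ha : a ∈ H) :
    cor (centralizer (H : Set G)) ⊓ Og a = Og a ⊓ centralizer (H : Set G) :=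
  le_antisymm (le_inf inf_le_right (inf_le_left.trans (cor_le _)))
    (le_inf (Og_inf_centralizer_le ha) inf_le_left)

theorem maxIn_inf_normal [Fact p.Prime] {K Q L : Subgroup G} (hK : Odd (Nat.card K))
    (hSK : (S : Subgroup G) ≤ normalizer (K : Set G)) (hQ : MaxIn p S K Q)
    (hSL : (S : Subgroup G) ≤ normalizer (L : Set G)) (hKL : K ≤ normalizer (L : Set G)) :
    MaxIn p S (K ⊓ L) (Q ⊓ L) := by
  refine ⟨⟨inf_le_inf_right _ hQ.le, hQ.pgrp.to_le inf_le_left, le_normalizer_inf hQ.norm hSL⟩,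
    fun R hR hle => ?_⟩
  obtain ⟨c, hcK, -, hc⟩ := h.exists_conj_le_maxIn hK hSK (hR.mono inf_le_left) hQ
  refine (eq_of_le_of_card_ge hle ?_).symm
  rw [← card_cj c R]
  exact card_le_of_le (le_inf hc ((cj_eq_self (hKL hcK)) ▸ cj_mono (hR.le.trans inf_le_right)))

theorem exc_cj {Q H : Subgroup G} {x n : G} (hn : n ∈ normalizer ((S : Subgroup G) : Set G))
    (he : Exc S Q H x) : Exc S (cj n Q) (cj n H) (n * x * n⁻¹) := by
  intro hle
  refine he ?_
  have h1 := cj_mono (g := n⁻¹) hle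
  have e1 : cj n⁻¹ (Og (n * x * n⁻¹)) = Og x := by rw [← cj_Og, cj_inv_cj]
  rwa [cj_commutator, cj_inf, cj_centralizer, cj_inv_cj, cj_inv_cj, e1,
    cj_eq_self (inv_mem hn)] at h1

omit h in
theorem exc_mono {Q R H : Subgroup G} {x : G} (hQR : Q ≤ R) (he : Exc S Q H x) : Exc S R H x :=
  fun hle => he ((commutator_mono (inf_le_inf_right _ hQR) le_rfl).trans hle)

include hT in
theorem exc_unique [hp : Fact p.Prime] (hp2 : p ≠ 2) {Q H K : Subgroup G} {x : G}
    (hQ : IsPGroup p Q) (hQS : (S : Subgroup G) ≤ normalizer (Q : Set G)) (hx : Pt S x)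
    (hH : IsLine (S : Subgroup G) H) (hK : IsLine (S : Subgroup G) K) (xH : x ∈ H) (xK : x ∈ K)
    (eH : Exc S Q H x) (eK : Exc S Q K x) : H = K := by
  obtain ⟨H₀, hH₀, -, h0⟩ := hT p hp.out hp2 x hx (Q ⊓ Cg x) inf_le_right (hQ.to_le inf_le_left)
    (le_normalizer_inf hQS ((h.le_Cg hx.1).trans le_normalizer))
  have key : ∀ {L : Subgroup G}, IsLine (S : Subgroup G) L → x ∈ L → Exc S Q L x → L = H₀ := by
    intro L hL xL eL
    by_contra hne
    refine eL ?_
    have hS := h.Og_norm_S hx.1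
    rw [← h.line_sup hL hH₀ hne]
    refine commutator_sup_le ?_ ?_ (hL.le.trans hS) (hH₀.le.trans hS)
    · rw [commutator_le]
      intro q hq l hl
      rw [commutatorElement_eq_one_iff_mul_comm.2 (mem_centralizer_iff.1 hq.2 l hl).symm]
      exact one_mem _
    · exact (commutator_mono (inf_le_inf_left _ (centralizer_line_le xL)) le_rfl).trans h0
  rw [key hH xH eH, key hK xK eK]

/-- Lines with the same centre coincide. -/
theorem line_eq_of_centre {w : G} (hw : Pt S w) {B B' : Subgroup G} (hB : IsLine (S : Subgroup G) B)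
    (hB' : IsLine (S : Subgroup G) B') (wB : w ∉ B) {n : G} (hn : Rot S n w) (e : cj n B = B)
    (e' : cj n B' = B') : B = B' := by
  obtain ⟨q, hqB, hqB', hq⟩ := h.line_meet hB hB'
  have hne : n * q * n⁻¹ ≠ q := fun e1 => wB (h.eq_of_fix hn hw hq e1 ▸ hqB)
  exact h.line_eq hB hB' hq.2 (h.conj_pt hn.norm hq).2 (Ne.symm hne) hqB (e ▸ conj_mem_cj hqB) hqB'
    (e' ▸ conj_mem_cj hqB')

theorem line_trans {H H' : Subgroup G} (hH : IsLine (S : Subgroup G) H)
    (hH' : IsLine (S : Subgroup G) H') :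
    ∃ g ∈ normalizer ((S : Subgroup G) : Set G), cj g H = H' := by
  obtain ⟨w, hw, wH, hwiff⟩ := h.exists_centre hH
  obtain ⟨w', hw', wH', hwiff'⟩ := h.exists_centre hH'
  obtain ⟨g, hg, eg⟩ := h.trans hw hw'
  obtain ⟨n, hn⟩ := h.rot_exists hw'
  refine ⟨g, hg, h.line_eq_of_centre hw' (h.conj_line hg hH) hH' ?_ hn ?_
    ((hwiff' n hn.norm).1 hn.fix)⟩
  · rw [← eg, mem_cj]
    have : g⁻¹ * (g * w * g⁻¹) * g = w := by group
    rwa [this]
  · have hm : g⁻¹ * n * g ∈ normalizer ((S : Subgroup G) : Set G) :=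
      mul_mem (mul_mem (inv_mem hg) hn.norm) hg
    have e1 := (hwiff _ hm).1 (by
      calc g⁻¹ * n * g * w * (g⁻¹ * n * g)⁻¹ = g⁻¹ * (n * (g * w * g⁻¹) * n⁻¹) * g := by group
        _ = w := by rw [eg, hn.fix, ← eg]; group)
    calc cj n (cj g H) = cj g (cj (g⁻¹ * n * g) H) := by rw [cj_cj, cj_cj]; congr 1; group
      _ = cj g H := by rw [e1]

/-- A rotation of a line permutes its points transitively. -/
theorem line_orbit {w n : G} {H : Subgroup G} (hw : Pt S w) (hH : IsLine (S : Subgroup G) H)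
    (wH : w ∉ H) (hn : Rot S n w) (e : cj n H = H) {x y : G} (hx : x ∈ H) (hx1 : x ≠ 1) (hy : y ∈ H)
    (hy1 : y ≠ 1) : y = x ∨ y = n * x * n⁻¹ ∨ y = n * (n * x * n⁻¹) * n⁻¹ := by
  have hpx : Pt S x := ⟨hH.le hx, hx1⟩
  set x' := n * x * n⁻¹ with hx'
  have hx'H : x' ∈ H := e ▸ conj_mem_cj hx
  have hx''H : n * x' * n⁻¹ ∈ H := e ▸ conj_mem_cj hx'H
  have hpx' : Pt S x' := h.conj_pt hn.norm hpx
  have hne : x ≠ x' := fun e1 => wH (h.eq_of_fix hn hw hpx e1.symm ▸ hx)
  rcases (h.line_pts hH hx hx'H hx1 hpx'.2 hne).1 hy with e1 | e1 | e1 | e1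
  · exact absurd e1 hy1
  · exact Or.inl e1
  · exact Or.inr (Or.inl e1)
  · refine Or.inr (Or.inr ?_)
    rcases (h.line_pts hH hx hx'H hx1 hpx'.2 hne).1 hx''H with e2 | e2 | e2 | e2
    · exact absurd (conj_eq_one_iff.1 e2) hpx'.2
    · exfalso
      have hc := mem_centralizer_iff.1 (h.cube_fix hn.norm hw hn.fix) x hpx.1
      apply hne
      calc x = n ^ 3 * x * (n ^ 3)⁻¹ := by rw [← hc]; group
        _ = n * (n * x' * n⁻¹) * n⁻¹ := by rw [hx', conj_cube]
        _ = x' := by rw [e2]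
    · exact absurd (h.eq_of_fix hn hw hpx' e2) fun e3 => wH (e3 ▸ hx'H)
    · rw [e1, e2]

/-- The pieces at a line: an invariant Sylow subgroup stable under a rotation. -/
theorem exists_stable_line [Fact p.Prime] {B : Subgroup G} (hB : IsLine (S : Subgroup G) B) {w : G}
    (hw : Pt S w) (hwiff : ∀ m ∈ normalizer ((S : Subgroup G) : Set G), (m * w * m⁻¹ = w ↔ cj m B = B)) :
    ∃ P₀ n, MaxIn p S (cor (centralizer (B : Set G))) P₀ ∧ Rot S n w ∧
      n ∈ normalizer (P₀ : Set G) := by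
  obtain ⟨n₀, hn₀⟩ := h.rot_exists hw
  obtain ⟨P₀, hP₀⟩ := exists_maxIn p S (cor (centralizer (B : Set G)))
  have hnD : n₀ ∈ normalizer (cor (centralizer (B : Set G)) : Set G) :=
    mem_normalizer_of_cj_eq (by rw [cj_cor, cj_centralizer, (hwiff n₀ hn₀.norm).1 hn₀.fix])
  obtain ⟨c, -, hcS, hcn⟩ := h.frattini (odd_cor _) (h.cor_line_norm hB.le) hP₀ hn₀.norm hnD
  exact ⟨P₀, c * n₀, hP₀, rot_mul hw hn₀ hcS, hcn⟩

theorem maxIn_piece [Fact p.Prime] {B P₀ : Subgroup G} (hB : IsLine (S : Subgroup G) B)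
    (hP₀ : MaxIn p S (cor (centralizer (B : Set G))) P₀) {x : G} (hx : x ∈ B) :
    MaxIn p S (Og x ⊓ centralizer (B : Set G)) (P₀ ⊓ Og x) := by
  rw [← cor_inf_Og hx]
  exact h.maxIn_inf_normal (odd_cor _) (h.cor_line_norm hB.le) hP₀ (h.Og_norm_S (hB.le hx))
    ((cor_le _).trans ((centralizer_line_le hx).trans (le_normalizer_cor _)))

theorem unbAll_of_unb [hp : Fact p.Prime] (hp2 : p ≠ 2) (hu : Unb p S) : UnbAll p S := by
  obtain ⟨H, a, b, Q, hH, ha, hb, a1, b1, hab, hQ, hex⟩ := hu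
  obtain ⟨w, hw, wH, hwiff⟩ := h.exists_centre hH
  obtain ⟨P₀, n, hP₀, hn, hnP⟩ := h.exists_stable_line (p := p) hH hw hwiff
  have eH : cj n H = H := (hwiff n hn.norm).1 hn.fix
  let M : G → Subgroup G := fun x => ⁅P₀ ⊓ Og x, (S : Subgroup G)⁆
  have hMn : ∀ x, cj n (M x) = M (n * x * n⁻¹) := fun x => by
    simp only [M]
    rw [cj_commutator, cj_inf, cj_eq_self hnP, cj_Og, cj_eq_self hn.norm]
  have hodd : ∀ x, Odd (Nat.card (P₀ ⊓ Og x : Subgroup G)) := fun x =>
    odd_of_le inf_le_right (odd_cor _)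
  have hMle : ∀ x ∈ H, M x ≤ P₀ ⊓ Og x := fun x hx => Coprime.commutator_le_of_le_normalizer
    (le_normalizer_inf hP₀.norm (h.Og_norm_S (hH.le hx)))
  -- every flag on `H`
  have onH : ∀ x y, x ∈ H → y ∈ H → x ≠ 1 → y ≠ 1 → x ≠ y → ¬ M x ≤ Og y := by
    intro x y hx hy x1 y1 hxy hle
    have hxM : M x ≤ M y := by
      have e : ⁅M x, (S : Subgroup G)⁆ = M x :=
        h.commutator_comm (le_normalizer_inf hP₀.norm (h.Og_norm_S (hH.le hx))) (hodd x)
      rw [← e]
      exact commutator_mono (le_inf ((hMle x hx).trans inf_le_left) hle) le_rfl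
    have hcard : ∀ z, Nat.card (M (n * z * n⁻¹)) = Nat.card (M z) := fun z => by
      rw [← hMn, card_cj]
    have hall : M (n * x * n⁻¹) = M x ∧ M (n * (n * x * n⁻¹) * n⁻¹) = M x := by
      rcases h.line_orbit hw hH wH hn eH hx x1 hy y1 with e | e | e
      · exact absurd e.symm hxy
      · subst e
        have e1 : M x = M (n * x * n⁻¹) := eq_of_le_of_card_ge hxM (hcard x).le
        refine ⟨e1.symm, ?_⟩
        rw [← hMn, ← e1, hMn, ← e1]
      · subst e
        have e1 : M x = M (n * (n * x * n⁻¹) * n⁻¹) :=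
          eq_of_le_of_card_ge hxM (((hcard _).trans (hcard x)).le)
        have hc := mem_centralizer_iff.1 (h.cube_fix hn.norm hw hn.fix) x (hH.le hx)
        have e3 : n * (n * (n * x * n⁻¹) * n⁻¹) * n⁻¹ = x := by
          calc n * (n * (n * x * n⁻¹) * n⁻¹) * n⁻¹ = n ^ 3 * x * (n ^ 3)⁻¹ := (conj_cube n x).symm
            _ = x := by rw [← hc]; group
        refine ⟨?_, e1.symm⟩
        rw [← hMn, e1, hMn, e3]; exact e1
    have hMall : ∀ z ∈ H, z ≠ 1 → M z = M x := by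
      intro z hz z1
      rcases h.line_orbit hw hH wH hn eH hx x1 hz z1 with e | e | e
      · rw [e]
      · rw [e]; exact hall.1
      · rw [e]; exact hall.2
    refine hex ?_
    obtain ⟨c, -, hcS, e⟩ := h.conj_maxIn (odd_of_le inf_le_left (odd_cor _))
      (le_normalizer_inf (h.Og_norm_S (hH.le ha)) (h.norm_centralizer hH.le))
      (h.maxIn_piece hH hP₀ ha) hQ
    have hle' : M a ≤ Og b := by
      rw [hMall a ha a1, ← hMall b hb b1]; exact (hMle b hb).trans inf_le_right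
    have h1 := cj_mono (g := c) hle'
    have hcb : c * b * c⁻¹ = b := by rw [← mem_centralizer_iff.1 hcS b (hH.le hb)]; group
    simp only [M] at h1
    rwa [cj_commutator, e, cj_eq_self (centralizer_le_normalizer_S hcS), cj_Og, hcb] at h1
  intro H' a' b' Q' hH' ha' hb' a'1 b'1 hab' hQ' hle
  obtain ⟨g, hg, eg⟩ := h.line_trans hH' hH
  set x := g * a' * g⁻¹
  set y := g * b' * g⁻¹
  have hxH : x ∈ H := eg ▸ conj_mem_cj ha'
  have hyH : y ∈ H := eg ▸ conj_mem_cj hb'
  refine onH x y hxH hyH (fun e => a'1 (conj_eq_one_iff.1 e)) (fun e => b'1 (conj_eq_one_iff.1 e))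
    (fun e => hab' (mul_left_cancel (mul_right_cancel e))) ?_
  have hQ1 : MaxIn p S (Og x ⊓ centralizer (H : Set G)) (cj g Q') := by
    have := h.maxIn_cj hg hQ'
    rwa [cj_inf, cj_Og, cj_centralizer, eg] at this
  obtain ⟨c, -, hcS, e⟩ := h.conj_maxIn (odd_of_le inf_le_left (odd_cor _))
    (le_normalizer_inf (h.Og_norm_S (hH.le hxH)) (h.norm_centralizer hH.le))
    hQ1 (h.maxIn_piece hH hP₀ hxH)
  have h1 := cj_mono (g := c) (cj_mono (g := g) hle)
  have hcy : c * y * c⁻¹ = y := by rw [← mem_centralizer_iff.1 hcS y (hH.le hyH)]; group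
  rw [cj_commutator, cj_commutator, e, cj_eq_self hg, cj_eq_self (centralizer_le_normalizer_S hcS),
    cj_Og, cj_Og] at h1
  change M x ≤ _ at h1
  rwa [hcy] at h1

theorem exc_of_piece {P H : Subgroup G} {x : G} (hPH : P ≤ centralizer (H : Set G))
    (hP : ⁅P, (S : Subgroup G)⁆ = P) (hex : ¬ P ≤ Og x) : Exc S P H x := by
  rw [Exc, inf_eq_left.2 hPH, hP]; exact hex

theorem commutator_self_cj {Q : Subgroup G} {c : G} (hc : c ∈ normalizer ((S : Subgroup G) : Set G))
    (hQ : ⁅Q, (S : Subgroup G)⁆ = Q) : ⁅cj c Q, (S : Subgroup G)⁆ = cj c Q := by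
  conv_lhs => rw [← cj_eq_self hc, ← cj_commutator, hQ]

/-- An invariant Sylow subgroup of the odd core of a proper subgroup with transitive automizer is
not anchored. -/
theorem false_of_trans [Fact p.Prime] {Y : Subgroup G} (hSY : (S : Subgroup G) ≤ Y) {w : G}
    (hw : Pt S w) (htr : TransAt S Y) {U : Subgroup G} (hU : MaxIn p S (cor Y) U)
    (hfix : FixAt S (normalizer (U : Set G)) w) : False := by
  obtain ⟨b, hb, hbw⟩ : ∃ b, Pt S b ∧ b ≠ w := by
    obtain ⟨V, hV, hwV, -⟩ := h.exists_axis hw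
    obtain ⟨b, hb, b1, -⟩ := h.line_exists_pts hV (one_mem V)
    exact ⟨b, ⟨hV.le hb, b1⟩, fun e => hwV (e ▸ hb)⟩
  obtain ⟨m, hmY, hmS, em⟩ := htr w b hw hb
  obtain ⟨c, -, hcS, hcm⟩ := h.frattini (odd_cor Y) (hSY.trans (le_normalizer_cor Y)) hU hmS
    (le_normalizer_cor Y hmY)
  have e := hfix (c * m) hcm (mul_mem (centralizer_le_normalizer_S hcS) hmS)
  refine hbw ?_
  rw [← e, show c * m * w * (c * m)⁻¹ = c * (m * w * m⁻¹) * c⁻¹ by group, em,
    ← mem_centralizer_iff.1 hcS b hb.1]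
  group

include hT in
/-- The anchor at a line. -/
theorem anchor_line [hp : Fact p.Prime] (hp2 : p ≠ 2) (hu : UnbAll p S)
    (hbelow : CoreFreeBelow.{u} (Nat.card G)) {B : Subgroup G} (hB : IsLine (S : Subgroup G) B)
    {w : G} (hw : Pt S w) (wB : w ∉ B)
    (hwiff : ∀ m ∈ normalizer ((S : Subgroup G) : Set G), (m * w * m⁻¹ = w ↔ cj m B = B)) :
    ∃ P₀, MaxIn p S (cor (centralizer (B : Set G))) P₀ ∧ Anchor p S w ⁅P₀, (S : Subgroup G)⁆ := by
  obtain ⟨P₀, n, hP₀, hn, hnP⟩ := h.exists_stable_line (p := p) hB hw hwiff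
  refine ⟨P₀, hP₀, ?_⟩
  set M := ⁅P₀, (S : Subgroup G)⁆ with hM
  have hP₀o : Odd (Nat.card P₀) := odd_of_le hP₀.le (odd_cor _)
  have hMM : ⁅M, (S : Subgroup G)⁆ = M := h.commutator_comm hP₀.norm hP₀o
  have hMP : M ≤ P₀ := Coprime.commutator_le_of_le_normalizer hP₀.norm
  have hMB : M ≤ centralizer (B : Set G) := hMP.trans (hP₀.le.trans (cor_le _))
  let Pc : G → Subgroup G := fun a => ⁅P₀ ⊓ Og a, (S : Subgroup G)⁆
  have pc_le : ∀ a ∈ B, Pc a ≤ M ⊓ Og a := fun a ha => le_inf (commutator_mono inf_le_left le_rfl)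
    ((Coprime.commutator_le_of_le_normalizer (le_normalizer_inf hP₀.norm (h.Og_norm_S (hB.le ha)))).trans
      inf_le_right)
  have pc_comm : ∀ a ∈ B, ⁅Pc a, (S : Subgroup G)⁆ = Pc a := fun a ha =>
    h.commutator_comm (le_normalizer_inf hP₀.norm (h.Og_norm_S (hB.le ha)))
      (odd_of_le inf_le_right (odd_cor _))
  have pc_ex : ∀ a ∈ B, ∀ b ∈ B, a ≠ 1 → b ≠ 1 → a ≠ b → ¬ Pc a ≤ Og b := fun a ha b hb a1 b1 hab =>
    hu B a b _ hB ha hb a1 b1 hab (h.maxIn_piece hB hP₀ ha)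
  have cB : ∀ c ∈ Nw S w, cj c B = B := fun c hc => (hwiff c hc.1).1 (mem_Nw.1 hc).2
  have other : ∀ x ∈ B, ∃ a ∈ B, a ≠ 1 ∧ a ≠ x := fun x hx => h.line_exists_pts hB hx
  have anc : ∀ c ∈ Nw S w, ∀ R : Subgroup G, (∀ a ∈ B, a ≠ 1 → cj c (Pc a) ≤ R) →
      ∀ x ∈ B, x ≠ 1 → Exc S R B x := by
    intro c hc R hR x hx x1
    obtain ⟨hcS, hcw⟩ := mem_Nw.1 hc
    set y := c⁻¹ * x * c
    have hyB : y ∈ B := mem_cj.1 (show x ∈ cj c B by rw [cB c hc]; exact hx)
    have hy1 : y ≠ 1 := fun e => x1 (by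
      calc x = c * y * c⁻¹ := by simp [y, mul_assoc]
        _ = 1 := by rw [e]; group)
    obtain ⟨a, ha, a1, hay⟩ := other y hyB
    have e := h.exc_cj hcS (h.exc_of_piece (H := B) (x := y)
      (((pc_le a ha).trans inf_le_left).trans hMB) (pc_comm a ha) (pc_ex a ha y hyB a1 hy1 hay))
    rw [cB c hc, show c * y * c⁻¹ = x by simp [y, mul_assoc]] at e
    exact exc_mono (hR a ha a1) e
  have fixR : ∀ R : Subgroup G, IsPGroup p R → (S : Subgroup G) ≤ normalizer (R : Set G) →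
      (∀ x ∈ B, x ≠ 1 → Exc S R B x) → FixAt S (normalizer (R : Set G)) w := by
    intro R hR hRS hanc m hm hmS
    refine (hwiff m hmS).2 ?_
    obtain ⟨q, hqB, hqB', hq⟩ := h.line_meet hB (h.conj_line hmS hB)
    have hq' : m⁻¹ * q * m ∈ B := mem_cj.1 hqB'
    have hq1 : m⁻¹ * q * m ≠ 1 := fun e => hq.2 (by
      calc q = m * (m⁻¹ * q * m) * m⁻¹ := by group
        _ = 1 := by rw [e]; group)
    have e := h.exc_cj hmS (hanc _ hq' hq1)
    rw [cj_eq_self hm, show m * (m⁻¹ * q * m) * m⁻¹ = q by group] at e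
    exact (h.exc_unique hT hp2 hR hRS hq (h.conj_line hmS hB) hB hqB' hqB e (hanc q hqB hq.2))
  refine
    { pt := hw
      inv := ⟨le_top, hP₀.pgrp.to_le hMP, commutator_norm⟩
      ne := fun e => ?_
      stable := ⟨n, hn, mem_normalizer_of_cj_eq (by rw [hM, cj_commutator, cj_eq_self hnP,
        cj_eq_self hn.norm])⟩
      fix := fun R hR hc => ?_
      nocent := fun m hm c hc hmc => ?_
      core := fun Y hSY hfix c hc hcY => ?_
      proper := fun Y hSY hY c hc hcY htr => ?_ }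
  · obtain ⟨a, ha, a1, -⟩ := other 1 (one_mem B)
    obtain ⟨b, hb, b1, hba⟩ := other a ha
    exact pc_ex a ha b hb a1 b1 (Ne.symm hba) (((pc_le a ha).trans inf_le_left).trans (e.le.trans bot_le))
  · obtain ⟨c, hcN, hcR⟩ := hc
    exact fixR R hR.pgrp hR.norm
      (anc c hcN R fun a ha _ => (cj_mono ((pc_le a ha).trans inf_le_left)).trans hcR)
  · obtain ⟨a, ha, a1, -⟩ := other 1 (one_mem B)
    set a' := c * a * c⁻¹
    have ha' : a' ∈ B := cB c hc ▸ conj_mem_cj ha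
    have ha'1 : a' ≠ 1 := fun e => a1 (conj_eq_one_iff.1 e)
    set b' := m * a' * m⁻¹
    have hb' : b' ∈ B := (hwiff m hm.norm).1 hm.fix ▸ conj_mem_cj ha'
    have hab' : a' ≠ b' := fun e => wB (h.eq_of_fix hm hw ⟨hB.le ha', ha'1⟩ e.symm ▸ ha')
    have hle : cj c (Pc a) ≤ Og b' := by
      intro q hq
      have h1 : q ∈ Og a' := by
        have := cj_mono (g := c) ((pc_le a ha).trans inf_le_right) hq
        rwa [cj_Og] at this
      have h2 : q * m = m * q :=
        mem_centralizer_iff.1 hmc q (cj_mono ((pc_le a ha).trans inf_le_left) hq)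
      have h3 : m * q * m⁻¹ ∈ Og b' := by rw [← cj_Og]; exact conj_mem_cj h1
      rwa [← h2, mul_inv_cancel_right] at h3
    have hb'' : c⁻¹ * b' * c ∈ B := mem_cj.1 (show b' ∈ cj c B by rw [cB c hc]; exact hb')
    refine pc_ex a ha _ hb'' a1 (fun e => ha'1 ?_) (fun e => hab' ?_) ?_
    · exact conj_eq_one_iff.1 (show b' = 1 by
        calc b' = c * (c⁻¹ * b' * c) * c⁻¹ := by group
          _ = 1 := by rw [e]; group)
    · calc a' = c * (c⁻¹ * b' * c) * c⁻¹ := by rw [← e]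
        _ = b' := by group
    · have := cj_mono (g := c⁻¹) hle
      rw [cj_inv_cj, cj_Og] at this
      simpa using this
  · obtain ⟨hcS, hcw⟩ := mem_Nw.1 hc
    have hMB' : cj c M ≤ centralizer (B : Set G) := by
      have := cj_mono (g := c) hMB
      rwa [cj_centralizer, cB c hc] at this
    rw [← commutator_self_cj h hcS hMM]
    obtain ⟨b, hb, b1, -⟩ := other 1 (one_mem B)
    have hbw : b ≠ w := fun e => wB (e ▸ hb)
    obtain ⟨K, hK, wK, bK⟩ := h.line_of hw ⟨hB.le hb, b1⟩ (Ne.symm hbw)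
    have hS : (S : Subgroup G) ≤ B ⊔ zpowers w := by
      rw [← h.line_sup hB hK fun e => wB (e ▸ wK)]
      refine sup_le le_sup_left fun z hz => ?_
      rcases (h.line_pts hK wK bK hw.2 b1 (Ne.symm hbw)).1 hz with rfl | rfl | rfl | rfl
      exacts [one_mem _, mem_sup_right (mem_zpowers z), mem_sup_left hb,
        mul_mem (mem_sup_right (mem_zpowers w)) (mem_sup_left hb)]
    have hSn : (S : Subgroup G) ≤ normalizer (cor Y : Set G) := hSY.trans (le_normalizer_cor Y)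
    refine (commutator_mono le_rfl hS).trans (commutator_sup_le ?_ ?_ (hB.le.trans hSn)
      ((zpowers_le.2 hw.1).trans hSn))
    · rw [commutator_le]
      intro q hq l hl
      rw [commutatorElement_eq_one_iff_mul_comm.2 (mem_centralizer_iff.1 (hMB' hq) l hl).symm]
      exact one_mem _
    · rw [commutator_le]
      intro q hq z hz
      obtain ⟨k, rfl⟩ := hz
      have hk : w ^ k = 1 ∨ w ^ k = w := by
        rcases Int.even_or_odd k with ⟨j, rfl⟩ | ⟨j, rfl⟩
        · left; rw [← two_mul, zpow_mul, zpow_two, h.sq w hw.1, one_zpow]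
        · right; rw [zpow_add, zpow_mul, zpow_two, h.sq w hw.1, one_zpow, one_mul, zpow_one]
      rcases hk with e | e <;> simp only [e]
      · simp
      · have := inv_mem (h.cor_commutator hSY hw hfix (hcY hq))
        simpa [commutatorElement_def, mul_assoc] using this
  · obtain ⟨hcS, hcw⟩ := mem_Nw.1 hc
    have hpiece : ∀ a ∈ B, a ≠ 1 → cj c (Pc a) ≤ cor Y := by
      intro a ha a1
      have ha' : Pt S (c * a * c⁻¹) := h.conj_pt hcS ⟨hB.le ha, a1⟩
      refine le_trans (le_of_eq (commutator_self_cj h hcS (pc_comm a ha)).symm) ?_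
      refine (commutator_mono ?_ le_rfl).trans (h.bracket_le_cor hbelow hSY hY htr ha')
      refine le_inf ?_ ((cj_mono ((pc_le a ha).trans inf_le_left)).trans hcY)
      rw [← cj_Og]; exact cj_mono ((pc_le a ha).trans inf_le_right)
    have hI : Inv p S (cor Y) (cj c M ⊓ cor Y) := ⟨inf_le_right,
      (pGroup_cj (hP₀.pgrp.to_le hMP) c).to_le inf_le_left,
      le_normalizer_inf (norm_cj hcS commutator_norm) (hSY.trans (le_normalizer_cor Y))⟩
    obtain ⟨U, hU, hle⟩ := exists_maxIn_ge hI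
    refine h.false_of_trans hSY hw htr hU (fixR U hU.pgrp hU.norm (anc c hc U fun a ha a1 => ?_))
    exact (le_inf (cj_mono ((pc_le a ha).trans inf_le_left)) (hpiece a ha a1)).trans hle

include hT in
/-- The anchor at a point. -/
theorem anchor_point [hp : Fact p.Prime] (hp2 : p ≠ 2) (hu : UnbAll p S)
    (hbelow : CoreFreeBelow.{u} (Nat.card G)) {t : G} (ht : Pt S t) :
    ∃ R, MaxIn p S (Og t) R ∧ Anchor p S t ⁅R, (S : Subgroup G)⁆ := by
  obtain ⟨n₀, hn₀⟩ := h.rot_exists ht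
  obtain ⟨R, hR⟩ := exists_maxIn p S (Og t)
  have hnO : n₀ ∈ normalizer (Og t : Set G) :=
    mem_normalizer_of_cj_eq (by rw [cj_Og, hn₀.fix])
  obtain ⟨c₀, -, hc₀S, hc₀n⟩ := h.frattini (odd_cor _) (h.Og_norm_S ht.1) hR hn₀.norm hnO
  refine ⟨R, hR, ?_⟩
  set M := ⁅R, (S : Subgroup G)⁆ with hM
  have hMR : M ≤ R := Coprime.commutator_le_of_le_normalizer hR.norm
  have hMM : ⁅M, (S : Subgroup G)⁆ = M := h.commutator_comm hR.norm (odd_of_le hR.le (odd_cor _))
  have excM : ∀ (H : Subgroup G) (x : G), IsLine (S : Subgroup G) H → t ∈ H → x ∈ H → x ≠ 1 →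
      x ≠ t → Exc S M H x := by
    intro H x hH tH xH x1 xt hle
    have hmax := h.maxIn_inf (odd_cor (Cg t)) (h.Og_norm_S ht.1) hR hH.le
    refine hu H t x _ hH tH xH ht.2 x1 (Ne.symm xt) hmax (le_trans (b := ⁅⁅R ⊓ centralizer (H : Set G), (S : Subgroup G)⁆, (S : Subgroup G)⁆) (le_of_eq ?_)
      (le_trans (b := ⁅M ⊓ centralizer (H : Set G), (S : Subgroup G)⁆) ?_ hle))
    · exact (h.commutator_comm hmax.norm (odd_of_le (hmax.le.trans inf_le_left) (odd_cor _))).symm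
    · refine commutator_mono (le_inf (commutator_mono inf_le_left le_rfl) ?_) le_rfl
      refine (Coprime.commutator_le_of_le_normalizer hmax.norm).trans inf_le_right
  have anc : ∀ c ∈ Nw S t, ∀ (H : Subgroup G) (x : G), IsLine (S : Subgroup G) H → t ∈ H → x ∈ H →
      x ≠ 1 → x ≠ t → Exc S (cj c M) H x := by
    intro c hc H x hH tH xH x1 xt
    obtain ⟨hcS, hct⟩ := mem_Nw.1 hc
    have hct' : c⁻¹ * t * c = t := by
      calc c⁻¹ * t * c = c⁻¹ * (c * t * c⁻¹) * c := by rw [hct]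
        _ = t := by group
    have e := h.exc_cj hcS (excM (cj c⁻¹ H) (c⁻¹ * x * c) (h.conj_line (inv_mem hcS) hH)
      (mem_cj.2 (by rwa [inv_inv, hct])) (mem_cj.2 (by
        have : c⁻¹⁻¹ * (c⁻¹ * x * c) * c⁻¹ = x := by group
        rwa [this]))
      (fun e => x1 (by
        calc x = c * (c⁻¹ * x * c) * c⁻¹ := by group
          _ = 1 := by rw [e]; group))
      (fun e => xt (by
        calc x = c * (c⁻¹ * x * c) * c⁻¹ := by group
          _ = t := by rw [e, hct])))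
    rwa [cj_cj, mul_inv_cancel, cj_one, show c * (c⁻¹ * x * c) * c⁻¹ = x by group] at e
  have fixR : ∀ U : Subgroup G, IsPGroup p U → (S : Subgroup G) ≤ normalizer (U : Set G) →
      (∀ (H : Subgroup G) (x : G), IsLine (S : Subgroup G) H → t ∈ H → x ∈ H → x ≠ 1 → x ≠ t →
        Exc S U H x) → FixAt S (normalizer (U : Set G)) t := by
    intro U hU hUS hanc m hm hmS
    by_contra hne
    set t' := m * t * m⁻¹ with ht'
    have hpt' : Pt S t' := h.conj_pt hmS ht
    obtain ⟨L, hL, tL, t'L⟩ := h.line_of ht hpt' (Ne.symm hne)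
    obtain ⟨n, hn⟩ := h.rot_exists ht
    have hnL := h.move_line hn ht hL tL
    set x := n * t' * n⁻¹ with hx
    have hpx : Pt S x := h.conj_pt hn.norm hpt'
    have htnL : t ∈ cj n L := by
      have e := conj_mem_cj (g := n) tL
      rwa [hn.fix] at e
    have hxt : x ≠ t := fun e => hne (mul_left_cancel (mul_right_cancel (e.trans hn.fix.symm)))
    have hxnotL : x ∉ L := fun hxL =>
      hnL (h.line_eq (h.conj_line hn.norm hL) hL ht.2 hpx.2 (Ne.symm hxt) htnL (conj_mem_cj t'L) tL hxL)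
    have hxt' : x ≠ t' := fun e => hxnotL (e ▸ t'L)
    obtain ⟨H₁, hH₁, tH₁, xH₁⟩ := h.line_of ht hpx (Ne.symm hxt)
    set y := m⁻¹ * x * m
    have hpy : Pt S y := by
      have := h.conj_pt (inv_mem hmS) hpx
      rwa [inv_inv] at this
    have hyt : y ≠ t := fun e => hxt' (by
      calc x = m * y * m⁻¹ := by simp [y, mul_assoc]
        _ = t' := by rw [e])
    obtain ⟨H₂, hH₂, tH₂, yH₂⟩ := h.line_of ht hpy (Ne.symm hyt)
    have e1 := h.exc_cj hmS (hanc H₂ y hH₂ tH₂ yH₂ hpy.2 hyt)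
    rw [cj_eq_self hm, show m * y * m⁻¹ = x by simp [y, mul_assoc]] at e1
    have hxH' : x ∈ cj m H₂ := mem_cj.2 yH₂
    have e2 := h.exc_unique hT hp2 hU hUS hpx (h.conj_line hmS hH₂) hH₁ hxH' xH₁ e1
      (hanc H₁ x hH₁ tH₁ xH₁ hpx.2 hxt)
    have t'H₁ : t' ∈ H₁ := e2 ▸ conj_mem_cj tH₂
    exact hxnotL (h.line_eq hH₁ hL ht.2 hpt'.2 (Ne.symm hne) tH₁ t'H₁ tL t'L ▸ xH₁)
  have hMO : ∀ c ∈ Nw S t, cj c M ≤ Og t := fun c hc => by
    have h1 := cj_mono (g := c) (hMR.trans hR.le)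
    rwa [cj_Og, (mem_Nw.1 hc).2] at h1
  refine
    { pt := ht
      inv := ⟨le_top, hR.pgrp.to_le hMR, commutator_norm⟩
      ne := fun e => ?_
      stable := ⟨c₀ * n₀, rot_mul ht hn₀ hc₀S, mem_normalizer_of_cj_eq (by
        rw [hM, cj_commutator, cj_eq_self hc₀n, cj_eq_self (mul_mem
          (centralizer_le_normalizer_S hc₀S) hn₀.norm)])⟩
      fix := fun U hU hc => ?_
      nocent := fun m hm c hc hmc => ?_
      core := fun Y hSY hfix c hc hcY => (le_inf (hMO c hc) hcY).trans (h.Og_inf_le hSY ht hfix)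
      proper := fun Y hSY hY c hc hcY htr => ?_ }
  · obtain ⟨V, hV, hwV, -⟩ := h.exists_axis ht
    obtain ⟨x, hx, x1, -⟩ := h.line_exists_pts hV (one_mem V)
    have hxt : x ≠ t := fun e => hwV (e ▸ hx)
    obtain ⟨H, hH, tH, xH⟩ := h.line_of ht ⟨hV.le hx, x1⟩ (Ne.symm hxt)
    refine excM H x hH tH xH x1 hxt ?_
    rw [e, bot_inf_eq]
    exact (commutator_bot_left (S : Subgroup G)).le.trans bot_le
  · obtain ⟨c, hcN, hcU⟩ := hc
    exact fixR U hU.pgrp hU.norm fun H x hH tH xH x1 xt => exc_mono hcU (anc c hcN H x hH tH xH x1 xt)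
  · obtain ⟨V, hV, hwV, -⟩ := h.exists_axis ht
    obtain ⟨x, hx, x1, -⟩ := h.line_exists_pts hV (one_mem V)
    have hxt : x ≠ t := fun e => hwV (e ▸ hx)
    obtain ⟨H, hH, tH, xH⟩ := h.line_of ht ⟨hV.le hx, x1⟩ (Ne.symm hxt)
    refine anc c hc H x hH tH xH x1 hxt ?_
    rw [commutator_le]
    intro q hq s hs
    have hqm : q * m = m * q := mem_centralizer_iff.1 hmc q hq.1
    have hqH' : ∀ z ∈ cj m H, z * q = q * z := by
      intro z hz
      have h2 := mem_centralizer_iff.1 hq.2 (m⁻¹ * z * m) (mem_cj.1 hz)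
      have hqm' : m * q * m⁻¹ = q := by rw [← hqm]; group
      calc z * q = m * ((m⁻¹ * z * m) * q) * m⁻¹ := by
            conv_lhs => rw [← hqm']
            group
        _ = m * (q * (m⁻¹ * z * m)) * m⁻¹ := by rw [h2]
        _ = m * q * m⁻¹ * z := by group
        _ = q * z := by rw [hqm']
    have hS : s ∈ centralizer ({q} : Set G) := by
      have hle : H ⊔ cj m H ≤ centralizer ({q} : Set G) := sup_le
        (fun z hz => mem_centralizer_singleton_iff.2 (mem_centralizer_iff.1 hq.2 z hz))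
        (fun z hz => mem_centralizer_singleton_iff.2 (hqH' z hz))
      exact hle ((h.line_sup hH (h.conj_line hm.norm hH) (Ne.symm (h.move_line hm ht hH tH))).ge hs)
    rw [commutatorElement_eq_one_iff_mul_comm.2 (mem_centralizer_singleton_iff.1 hS).symm]
    exact one_mem _
  · obtain ⟨hcS, -⟩ := mem_Nw.1 hc
    have hMcor : cj c M ≤ cor Y := by
      rw [← commutator_self_cj h hcS hMM]
      exact (commutator_mono (le_inf (hMO c hc) hcY) le_rfl).trans (h.bracket_le_cor hbelow hSY hY htr ht)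
    obtain ⟨U, hU, hle⟩ := exists_maxIn_ge (p := p) (S := S) (K := cor Y)
      ⟨hMcor, pGroup_cj (hR.pgrp.to_le hMR) c, norm_cj hcS commutator_norm⟩
    exact h.false_of_trans hSY ht htr hU
      (fixR U hU.pgrp hU.norm fun H x hH tH xH x1 xt => exc_mono hle (anc c hc H x hH tH xH x1 xt))

end Hyp

end Cfsg.Lib.Walter3
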