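import Cfsg.Agent.Lib.Walter3.Anchor

/-!
# Balance

`O(C(a)) ∩ C(b) ≤ O(C(b))` for all points `a`, `b`.
-/

set_option autoImplicit false
set_option linter.unusedSectionVars false
set_option linter.style.haveILetI false

namespace Cfsg.Lib.Walter3

open Subgroup Cfsg
open scoped commutatorElement
open Cfsg.Lib.Local.GlaubermanZJ

universe u

variable {G : Type u} [Group G] [Finite G] {S : Sylow 2 G} {p : ℕ}

namespace Hyp

variable (h : Hyp S) (hT : Torus S) (hbelow : CoreFreeBelow.{u} (Nat.card G))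
include h hT hbelow

/-- Every odd prime is balanced. -/
theorem not_unb [hp : Fact p.Prime] (hp2 : p ≠ 2) : ¬ Unb p S := by
  intro hu
  haveI := h.simple
  have huA := h.unbAll_of_unb hp2 hu
  obtain ⟨B, -, -, -, hB, -⟩ := hu
  obtain ⟨t, htB, t1, -⟩ := h.line_exists_pts hB (one_mem B)
  have ht : Pt S t := ⟨hB.le htB, t1⟩
  obtain ⟨w, hw, wB, hwiff⟩ := h.exists_centre hB
  obtain ⟨P₀, hP₀, hAB⟩ := h.anchor_line hT hp2 huA hbelow hB hw wB hwiff
  obtain ⟨R, hR, hAt⟩ := h.anchor_point hT hp2 huA hbelow ht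
  set D := cor (centralizer (B : Set G))
  have hDn : D ≤ normalizer (Og t : Set G) :=
    (cor_le _).trans ((centralizer_line_le htB).trans (le_normalizer_cor _))
  set K := Og t ⊔ D
  have hK : Odd (Nat.card K) := odd_sup hDn (odd_cor _) (odd_cor _)
  have hSK : (S : Subgroup G) ≤ normalizer (K : Set G) :=
    (le_inf (h.Og_norm_S ht.1) (h.cor_line_norm hB.le)).trans (Subgroup.normalizer_inf_normalizer_le_normalizer_sup _ _)
  obtain ⟨P₁, hP₁, hP₀P₁⟩ := exists_maxIn_ge (p := p) (S := S) (K := K) (hP₀.toInv.mono le_sup_right)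
  obtain ⟨P, hP, hP₁P⟩ := exists_maxIn_ge (p := p) (S := S) (hP₁.toInv.mono le_top)
  have hR₁ : MaxIn p S (Og t) (P₁ ⊓ Og t) := by
    have h1 := h.maxIn_inf_normal hK hSK hP₁ (h.Og_norm_S ht.1) (sup_le le_normalizer hDn)
    rwa [inf_eq_right.2 (le_sup_left : Og t ≤ K)] at h1
  obtain ⟨c, -, hcS, ec⟩ := h.conj_maxIn (odd_cor _) (h.Og_norm_S ht.1) hR hR₁
  have hcN : c ∈ Nw S t := mem_Nw.2 ⟨centralizer_le_normalizer_S hcS, by
    rw [← mem_centralizer_iff.1 hcS t ht.1]; group⟩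
  have hMt : Cls S t ⁅R, (S : Subgroup G)⁆ P := ⟨c, hcN,
    (cj_mono (Coprime.commutator_le_of_le_normalizer hR.norm)).trans
      (ec.le.trans (inf_le_left.trans hP₁P))⟩
  have hMB : Cls S w ⁅P₀, (S : Subgroup G)⁆ P := ⟨1, one_mem _, by
    rw [cj_one]; exact (Coprime.commutator_le_of_le_normalizer hP₀.norm).trans (hP₀P₁.trans hP₁P)⟩
  have hPfix : ∀ n ∈ normalizer (P : Set G), n ∈ normalizer ((S : Subgroup G) : Set G) →
      n ∈ centralizer ((S : Subgroup G) : Set G) := by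
    intro n hn hnS
    exact h.flag_fix hB htB t1 hnS (hAt.fix P hP.toInv hMt n hn hnS)
      ((hwiff n hnS).1 (hAB.fix P hP.toInv hMB n hn hnS))
  obtain ⟨n₁, hn₁, hn₁Z⟩ := h.exists_rot_normalizer_ZJ hT hp2 hAB hP hMB hPfix
  obtain ⟨n₂, hn₂, hn₂Z⟩ := h.exists_rot_normalizer_ZJ hT hp2 hAt hP hMt hPfix
  set Z := centerThompsonAOf P
  have hPne : P ≠ ⊥ := fun e => by
    obtain ⟨c', hc', hle⟩ := hMB
    rw [e, le_bot_iff, Subgroup.map_eq_bot_iff_of_injective _ (MulAut.conj c').injective] at hle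
    exact hAB.ne hle
  have hZne : Z ≠ ⊥ := Local.GlaubermanZJ.centerThompsonAOf_ne_bot hP.pgrp hPne
  set Y := normalizer (Z : Set G)
  have hYtop : Y ≠ ⊤ := by
    intro e
    haveI : Z.Normal := normalizer_eq_top_iff.1 e
    rcases IsSimpleGroup.eq_bot_or_eq_top_of_normal Z inferInstance with h1 | h1
    · exact hZne h1
    · have hGp : IsPGroup p (⊤ : Subgroup G) := h1 ▸ hP.pgrp.to_le (centerThompsonAOf_le P)
      have h8 := odd_of_le (le_top : (S : Subgroup G) ≤ ⊤) (odd_of_pGroup hp.out hp2 hGp)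
      rw [h.card] at h8
      exact absurd h8 (by decide)
  have hPY : P ≤ Y := le_normalizer.trans (normalizer_le_normalizer_centerThompsonAOf P)
  have hSY : (S : Subgroup G) ≤ Y := hP.norm.trans (normalizer_le_normalizer_centerThompsonAOf P)
  have hmove : n₂ * w * n₂⁻¹ ≠ w := fun e =>
    hn₂.move (h.fix_two hn₂.norm ht hw (fun e' => wB (e' ▸ htB)) hn₂.fix e)
  obtain ⟨c', hc', hle⟩ := hMB
  exact hAB.proper Y hSY hYtop c' hc' (hle.trans hPY) (h.transAt_of hw hn₁ hn₁Z hn₂Z hn₂.norm hmove)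

/-- Balance for the commutators with the Sylow subgroup. -/
theorem bracket_balance {a b : G} (ha : Pt S a) (hb : Pt S b) :
    ⁅Og a ⊓ Cg b, (S : Subgroup G)⁆ ≤ Og b := by
  rcases eq_or_ne a b with rfl | hab
  · exact (commutator_mono inf_le_left le_rfl).trans
      (Coprime.commutator_le_of_le_normalizer (h.Og_norm_S ha.1))
  obtain ⟨H, hH, aH, bH⟩ := h.line_of ha hb hab
  set K := Og a ⊓ centralizer (H : Set G) with hKdef
  have hle : Og a ⊓ Cg b ≤ K := by
    intro x hx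
    refine ⟨hx.1, mem_centralizer_iff.2 fun z hz => ?_⟩
    have h1 : x * a = a * x := mem_Cg.1 (cor_le _ hx.1)
    have h2 : x * b = b * x := mem_Cg.1 hx.2
    rcases (h.line_pts hH aH bH ha.2 hb.2 hab).1 hz with rfl | rfl | rfl | rfl
    · rw [one_mul, mul_one]
    · exact h1.symm
    · exact h2.symm
    · rw [mul_assoc, ← h2, ← mul_assoc, ← h1, mul_assoc]
  refine (commutator_mono hle le_rfl).trans ?_
  have hKodd : Odd (Nat.card K) := odd_of_le inf_le_left (odd_cor _)
  have hSK : (S : Subgroup G) ≤ normalizer (K : Set G) :=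
    le_normalizer_inf (h.Og_norm_S ha.1) (h.norm_centralizer hH.le)
  let T : Subgroup G :=
    { carrier := {k | k ∈ Cg b ∧ ∀ s ∈ (S : Subgroup G), ⁅k, s⁆ ∈ Og b}
      one_mem' := ⟨one_mem _, fun s _ => by simp⟩
      mul_mem' := by
        rintro k l ⟨hk, hk'⟩ ⟨hl, hl'⟩
        refine ⟨mul_mem hk hl, fun s hs => ?_⟩
        rw [show ⁅k * l, s⁆ = k * ⁅l, s⁆ * k⁻¹ * ⁅k, s⁆ by simp only [commutatorElement_def]; group]
        exact mul_mem ((mem_normalizer_iff.1 (le_normalizer_cor _ hk) _).1 (hl' s hs)) (hk' s hs)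
      inv_mem' := by
        rintro k ⟨hk, hk'⟩
        refine ⟨inv_mem hk, fun s hs => ?_⟩
        rw [show ⁅k⁻¹, s⁆ = k⁻¹ * ⁅k, s⁆⁻¹ * (k⁻¹)⁻¹ by simp only [commutatorElement_def]; group]
        exact (mem_normalizer_iff.1 (le_normalizer_cor _ (inv_mem hk)) _).1 (inv_mem (hk' s hs)) }
  suffices hKT : K ≤ T by
    rw [commutator_le]
    exact fun k hk s hs => (hKT hk).2 s hs
  have hdvd : Nat.card K ∣ Nat.card (K ⊓ T : Subgroup G) := by
    rw [Nat.dvd_iff_prime_pow_dvd_dvd]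
    intro q k hq hqk
    rcases Nat.eq_zero_or_pos k with rfl | hk
    · simp
    haveI := Fact.mk hq
    have hq2 : q ≠ 2 := by
      rintro rfl
      exact absurd (hKodd.of_dvd_nat ((dvd_pow_self 2 hk.ne').trans hqk)) (by decide)
    obtain ⟨R, hR⟩ := Sylow.exists_subgroup_card_pow_prime q hqk
    obtain ⟨Q, hQ⟩ := exists_maxIn q S K
    have hQT : Q ≤ T := fun x hx => ⟨centralizer_line_le bH (hQ.le hx).2, fun s hs => by
      by_contra hne
      exact h.not_unb hT hbelow hq2 ⟨H, a, b, Q, hH, aH, bH, ha.2, hb.2, hab, hQ,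
        fun hle' => hne (hle' (commutator_mem_commutator hx hs))⟩⟩
    have hcard : Nat.card (R.map K.subtype) = q ^ k := by rw [Core.card_map_subtype, hR]
    have h1 := h.maxIn_card hKodd hSK hQ (map_subtype_le R) (IsPGroup.of_card (n := k) hcard)
    rw [hcard] at h1
    obtain ⟨j, hj⟩ := IsPGroup.iff_card.1 hQ.pgrp
    rw [hj] at h1
    refine (pow_dvd_pow q ((Nat.pow_le_pow_iff_right hq.one_lt).1 h1)).trans ?_
    rw [← hj]
    exact card_dvd_of_le (le_inf hQ.le hQT)
  have e : K ⊓ T = K := eq_of_le_of_card_ge inf_le_left (Nat.le_of_dvd Nat.card_pos hdvd)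
  exact e ▸ inf_le_right

/-- Balance. -/
theorem balance (hF : Faithful S) (hfix : TorusFix S) {a b : G} (ha : Pt S a) (hb : Pt S b) :
    Og a ⊓ Cg b ≤ Og b := by
  rcases eq_or_ne a b with rfl | hab
  · exact inf_le_left
  obtain ⟨H, hH, aH, bH⟩ := h.line_of ha hb hab
  set CS := centralizer ((S : Subgroup G) : Set G)
  have hSO := h.Og_norm_S ha.1
  -- fixed points of `S` in `O(C(a))`
  have hfixpt : Og a ⊓ CS ≤ Og b := by
    intro y hy
    have hyC : Og a ⊓ CS ≤ cor CS := le_cor inf_le_right (odd_of_le inf_le_left (odd_cor _))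
      ((le_inf ((centralizer_le (show ({a} : Set G) ⊆ ((S : Subgroup G) : Set G) from
        Set.singleton_subset_iff.2 ha.1)).trans (le_normalizer_cor _)) le_normalizer).trans
        inf_normalizer_le_normalizer_inf)
    refine hF b hb H hH bH y (hyC hy) fun d hd => ?_
    set D := cor (centralizer (H : Set G))
    have hDS : (S : Subgroup G) ≤ normalizer (D : Set G) := h.cor_line_norm hH.le
    have hDle : ⁅D, (S : Subgroup G)⁆ ≤ D := Coprime.commutator_le_of_le_normalizer hDS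
    have hdD : d ∈ D := hDle hd
    have hdC : d ∈ centralizer (H : Set G) := cor_le _ hdD
    have hyH : y ∈ centralizer (H : Set G) :=
      mem_centralizer_iff.2 fun z hz => mem_centralizer_iff.1 hy.2 z (hH.le hz)
    have h1 : ⁅d, y⁆ ∈ Og a := by
      rw [commutatorElement_def]
      exact mul_mem ((mem_normalizer_iff.1 (le_normalizer_cor _ (centralizer_line_le aH hdC)) _).1 hy.1)
        (inv_mem hy.1)
    have hyS : cj y ⁅D, (S : Subgroup G)⁆ = ⁅D, (S : Subgroup G)⁆ := by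
      rw [cj_commutator, cj_eq_self (le_normalizer_cor _ hyH),
        cj_eq_self (centralizer_le_normalizer_S hy.2)]
    have h2 : ⁅d, y⁆ ∈ ⁅D, (S : Subgroup G)⁆ := by
      rw [commutatorElement_def, mul_assoc, mul_assoc]
      refine mul_mem hd ?_
      rw [← mul_assoc]
      exact hyS ▸ conj_mem_cj (inv_mem hd)
    set K' := ⁅D, (S : Subgroup G)⁆ ⊓ Og a
    obtain ⟨n, hn, c, hc, e⟩ := Coprime.le_commutator_sup_centralizer (G := K')
      (le_normalizer_inf commutator_norm hSO)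
      (h.coprime_odd (odd_of_le inf_le_right (odd_cor _))) (Or.inl h.solvable_S)
      (x := ⁅d, y⁆) ⟨h2, h1⟩
    rw [e]
    refine mul_mem ?_ (hfix b hb H hH bH ⟨hc.1.1, hc.2⟩)
    refine (commutator_mono ?_ le_rfl).trans (h.bracket_balance hT hbelow ha hb) hn
    exact le_inf inf_le_right
      (inf_le_left.trans (hDle.trans ((cor_le _).trans (centralizer_line_le bH))))
  intro x hx
  have hSK : (S : Subgroup G) ≤ normalizer ((Og a ⊓ Cg b : Subgroup G) : Set G) :=
    le_normalizer_inf hSO ((h.le_Cg hb.1).trans le_normalizer)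
  obtain ⟨n, hn, c, hc, rfl⟩ := Coprime.le_commutator_sup_centralizer hSK
    (h.coprime_odd (odd_of_le inf_le_left (odd_cor _))) (Or.inl h.solvable_S) hx
  exact mul_mem (h.bracket_balance hT hbelow ha hb hn) (hfixpt ⟨hc.1.1, hc.2⟩)

end Hyp

end Cfsg.Lib.Walter3
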