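import Cfsg.Agent.Lib.Walter3.Completion
import Cfsg.Agent.Lib.MinNonCA.PSL

/-!
# The centralizer of a point normalizes the completion

For `q ≥ 11` the centralizers of two involutions of `V` generate `L`; for `q = 5` every odd invariant
subgroup of a centralizer lies in its odd core.
-/

set_option autoImplicit false
set_option linter.unusedSectionVars false
set_option linter.style.haveILetI false

namespace Cfsg.Lib.Walter3

open Subgroup Cfsg

universe u

local notation "PSL2[" F "]" => Matrix.ProjectiveSpecialLinearGroup (Fin 2) F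

set_option synthInstance.maxSize 1000 in
set_option synthInstance.maxHeartbeats 200000 in
theorem sq_one_five_alt : ∀ u a : alternatingGroup (Fin 5),
    u * u = 1 → u ≠ 1 → a * u = u * a → a * a = 1 := by
  decide +kernel

/-- The centralizer of an involution of `PSL₂(5)` has exponent two. -/
theorem sq_one_of_comm_five {F : Type} [Field F] [Fintype F] (hq : Fintype.card F = 5) {u a : PSL2[F]}
    (hu : u * u = 1) (hu1 : u ≠ 1) (hc : a * u = u * a) : a * a = 1 := by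
  obtain ⟨φ⟩ := Cfsg.Agent.S0253.result (F := F) hq
  apply φ.injective
  rw [map_mul, map_one]
  exact sq_one_five_alt (φ u) (φ a) (by rw [← map_mul, hu, map_one])
    (fun e => hu1 (φ.map_eq_one_iff.1 e)) (by rw [← map_mul, ← map_mul, hc])

variable {G : Type u} [Group G] [Finite G] {S : Sylow 2 G}

set_option quotPrecheck false in
local notation "Q[" t "]" => (↥(Cg t) ⧸ Cfsg.oddCore ↥(Cg t))

namespace Hyp

variable (h : Hyp S)
include h

/-- The point, seen in the quotient of its centralizer by the odd core. -/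
noncomputable def tbar {t : G} (ht : Pt S t) : Q[t] := yπ (Cg t) ⟨t, (h.le_Cg ht.1) ht.1⟩

theorem exists_model {t : G} (ht : Pt S t) (hns : ¬ Group.IsSolvable ↥(Cg t)) :
    ∃ L : Subgroup Q[t], FieldModel (ySyl S (h.le_Cg ht.1) : Subgroup Q[t]) (h.tbar ht) L := by
  haveI : Fact (Nat.Prime 2) := ⟨Nat.prime_two⟩
  have hS := h.le_Cg ht.1
  refine exists_fieldModel (ySyl S hS) (h.card_ySyl hS)
    ⟨comm_of_sq (h.sq_ySyl hS), fun v hv => by rw [pow_two]; exact h.sq_ySyl hS v hv⟩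
    (h.pt_ySyl hS ht).1 (h.pt_ySyl hS ht).2 ?_ Core.pPrimeCore_quotient_eq_bot ?_
  · rw [mem_center_iff]
    intro z
    obtain ⟨c, rfl⟩ := yπ_surjective _ z
    rw [tbar, ← map_mul, ← map_mul]
    exact congrArg _ (Subtype.ext (mem_Cg.1 c.2))
  · intro hs
    haveI := hs
    apply hns
    haveI : Group.IsSolvable (yπ (Cg t)).ker := WalterBig.isSolvable_of_odd_card (odd_ker_yπ _)
    exact Group.isSolvable_of_ker_le_range (yπ (Cg t)).ker.subtype (yπ (Cg t)) (by simp)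

theorem exists_notMem_list (l : List G) (hl : l.length < 8) : ∃ x ∈ (S : Subgroup G), x ∉ l := by
  classical
  by_contra hc
  push Not at hc
  have h1 : Nat.card (S : Subgroup G) ≤ Nat.card l.toFinset :=
    Nat.card_le_card_of_injective (fun x : (S : Subgroup G) => (⟨(x : G), List.mem_toFinset.2 (hc x x.2)⟩ : l.toFinset))
      fun a b e => Subtype.ext (congrArg (fun z : l.toFinset => (z : G)) e)
  rw [h.card, Nat.card_eq_fintype_card, Fintype.card_coe] at h1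
  have := l.toFinset_card_le
  omega

variable {t : G} (ht : Pt S t) {L : Subgroup Q[t]}
  (hL : FieldModel (ySyl S (h.le_Cg ht.1) : Subgroup Q[t]) (h.tbar ht) L)
include hL

theorem mem_model_or {x : G} (hx : x ∈ (S : Subgroup G)) :
    yπ (Cg t) ⟨x, (h.le_Cg ht.1) hx⟩ ∈ L ∨
      yπ (Cg t) ⟨t * x, (h.le_Cg ht.1) (mul_mem ht.1 hx)⟩ ∈ L := by
  haveI := hL.normal
  have hm := hL.le ((mem_ySyl (h.le_Cg ht.1)).2 ⟨⟨x, (h.le_Cg ht.1) hx⟩, hx, rfl⟩)
  obtain ⟨z, hz, l, hl, e⟩ := mem_sup_of_normal_right.1 hm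
  have hsq : h.tbar ht * h.tbar ht = 1 := h.sq_ySyl (h.le_Cg ht.1) _ (h.pt_ySyl (h.le_Cg ht.1) ht).1
  obtain ⟨k, rfl⟩ := mem_zpowers_iff.1 hz
  rcases Int.even_or_odd k with ⟨m, rfl⟩ | ⟨m, rfl⟩
  · left
    rw [← two_mul, zpow_mul, zpow_two, hsq, one_zpow, one_mul] at e
    rwa [← e]
  · right
    rw [zpow_add, zpow_mul, zpow_two, hsq, one_zpow, one_mul, zpow_one] at e
    rw [show (⟨t * x, (h.le_Cg ht.1) (mul_mem ht.1 hx)⟩ : Cg t) =
      ⟨t, (h.le_Cg ht.1) ht.1⟩ * ⟨x, (h.le_Cg ht.1) hx⟩ from rfl, map_mul, ← e, ← mul_assoc]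
    change h.tbar ht * h.tbar ht * l ∈ L
    rwa [hsq, one_mul]

/-- Two involutions of `V = S ∩ L`. -/
theorem exists_pair :
    ∃ s s' : Cg t, Pt S (s : G) ∧ Pt S (s' : G) ∧ (s : G) ≠ t ∧ (s' : G) ≠ t ∧ (s' : G) ≠ s ∧
      (s' : G) ≠ t * s ∧ yπ (Cg t) s ∈ L ∧ yπ (Cg t) s' ∈ L ∧ yπ (Cg t) s ≠ 1 ∧ yπ (Cg t) s' ≠ 1 ∧
      yπ (Cg t) s ≠ yπ (Cg t) s' := by
  have hS := h.le_Cg ht.1
  have htt : t * t = 1 := h.sq t ht.1
  have hcancel : ∀ x y : G, t * x = y → x = t * y := fun x y e => by rw [← e, ← mul_assoc, htt, one_mul]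
  have hne : ∀ (s : Cg t), (s : G) ∈ (S : Subgroup G) → yπ (Cg t) s ∈ L → (s : G) ≠ t := by
    intro s hs hsL e
    apply hL.notMem
    have : (⟨t, hS ht.1⟩ : Cg t) = s := Subtype.ext e.symm
    rwa [tbar, this]
  obtain ⟨x, hxS, hx⟩ := h.exists_notMem_list [1, t] (by simp)
  simp only [List.mem_cons, List.not_mem_nil, or_false, not_or] at hx
  obtain ⟨s, hs, hs1, hsL⟩ : ∃ s : Cg t, (s : G) ∈ (S : Subgroup G) ∧ (s : G) ≠ 1 ∧ yπ (Cg t) s ∈ L := by
    rcases h.mem_model_or ht hL hxS with hl | hl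
    · exact ⟨_, hxS, hx.1, hl⟩
    · exact ⟨_, mul_mem ht.1 hxS, fun e => hx.2 (by rw [hcancel x 1 e, mul_one]), hl⟩
  obtain ⟨y, hyS, hy⟩ := h.exists_notMem_list [1, t, (s : G), t * s] (by simp)
  simp only [List.mem_cons, List.not_mem_nil, or_false, not_or] at hy
  obtain ⟨s', hs', hs'1, hne', hne'', hs'L⟩ : ∃ s' : Cg t, (s' : G) ∈ (S : Subgroup G) ∧ (s' : G) ≠ 1 ∧
      (s' : G) ≠ s ∧ (s' : G) ≠ t * s ∧ yπ (Cg t) s' ∈ L := by
    rcases h.mem_model_or ht hL hyS with hl | hl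
    · exact ⟨_, hyS, hy.1, hy.2.2.1, hy.2.2.2, hl⟩
    · exact ⟨_, mul_mem ht.1 hyS, fun e => hy.2.1 (by rw [hcancel y 1 e, mul_one]),
        fun e => hy.2.2.2 (hcancel y _ e),
        fun e => hy.2.2.1 (by rw [hcancel y _ e, ← mul_assoc, htt, one_mul]), hl⟩
  refine ⟨s, s', ⟨hs, hs1⟩, ⟨hs', hs'1⟩, hne s hs hsL, hne s' hs' hs'L, hne', hne'', hsL, hs'L,
    fun e => hs1 (congrArg Subtype.val (h.yπ_injOn hs e)),
    fun e => hs'1 (congrArg Subtype.val (h.yπ_injOn hs' e)), fun e => hne' ?_⟩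
  have h1 := h.yπ_injOn (s := s⁻¹ * s') (mul_mem (inv_mem hs) hs') (by rw [map_mul, map_inv, e, inv_mul_cancel])
  exact (congrArg Subtype.val (inv_mul_eq_one.1 h1)).symm

/-- An element centralizing the two involutions centralizes the Sylow subgroup. -/
theorem mem_cent_sylow {s s' : Cg t} (hs : Pt S (s : G)) (hs' : Pt S (s' : G)) (hst : (s : G) ≠ t)
    (hs't : (s' : G) ≠ t) (hne : (s' : G) ≠ s) (hne' : (s' : G) ≠ t * s) {c : Q[t]}
    (h1 : c ∈ Cg (yπ (Cg t) s)) (h2 : c ∈ Cg (yπ (Cg t) s')) :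
    c ∈ centralizer ((ySyl S (h.le_Cg ht.1) : Subgroup Q[t]) : Set Q[t]) := by
  classical
  have hS := h.le_Cg ht.1
  let H : Subgroup G := (S : Subgroup G) ⊓ ((Cg c).comap (yπ (Cg t))).map (Cg t).subtype
  have hmem : ∀ y : Cg t, (y : G) ∈ (S : Subgroup G) → yπ (Cg t) y ∈ Cg c → (y : G) ∈ H := fun y hy hc =>
    mem_inf.2 ⟨hy, ⟨y, hc, rfl⟩⟩
  have htH : t ∈ H := hmem ⟨t, hS ht.1⟩ ht.1 (by
    obtain ⟨d, rfl⟩ := yπ_surjective _ c
    rw [mem_Cg, ← map_mul, ← map_mul]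
    exact congrArg _ (Subtype.ext (mem_Cg.1 d.2).symm))
  have hsH : (s : G) ∈ H := hmem s hs.1 (mem_Cg.2 (mem_Cg.1 h1).symm)
  have hs'H : (s' : G) ∈ H := hmem s' hs'.1 (mem_Cg.2 (mem_Cg.1 h2).symm)
  have hts : t * (s : G) ≠ 1 := fun e => hst ((eq_inv_of_mul_eq_one_right e).trans (h.inv_eq ht.1))
  have hnd : [1, t, (s : G), t * s, (s' : G)].Nodup := by
    simp only [List.nodup_cons, List.mem_cons, List.not_mem_nil, or_false, not_or, List.nodup_nil,
      and_true, not_false_eq_true]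
    exact ⟨⟨ht.2.symm, hs.2.symm, hts.symm, hs'.2.symm⟩,
      ⟨hst.symm, fun e => hs.2 (mul_left_cancel (a := t) (by rw [← e, mul_one])), hs't.symm⟩,
      ⟨fun e => ht.2 (mul_right_cancel (b := (s : G)) (by rw [← e, one_mul])), hne.symm⟩, hne'.symm⟩
  have hsub : ∀ x ∈ [1, t, (s : G), t * s, (s' : G)].toFinset, x ∈ H := by
    intro x hx
    simp only [List.mem_toFinset, List.mem_cons, List.not_mem_nil, or_false] at hx
    rcases hx with rfl | rfl | rfl | rfl | rfl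
    exacts [one_mem _, htH, hsH, mul_mem htH hsH, hs'H]
  have h5 : 5 ≤ Nat.card H := by
    have := Nat.card_le_card_of_injective
      (fun x : [1, t, (s : G), t * s, (s' : G)].toFinset => (⟨(x : G), hsub x x.2⟩ : H))
      fun a b e => Subtype.ext (congrArg (fun z : H => (z : G)) e)
    rwa [Nat.card_eq_fintype_card, Fintype.card_coe, List.toFinset_card_of_nodup hnd] at this
  have hHS : H = (S : Subgroup G) := by
    refine eq_of_le_of_card_ge inf_le_left (Nat.le_of_eq ?_)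
    have hd := card_dvd_of_le (inf_le_left : H ≤ (S : Subgroup G))
    have hle := Nat.le_of_dvd Nat.card_pos hd
    rw [h.card] at hd hle ⊢
    generalize Nat.card H = m at hd hle h5
    interval_cases m <;> omega
  rw [mem_centralizer_iff]
  intro v hv
  obtain ⟨y, hy, rfl⟩ := (mem_ySyl hS).1 hv
  obtain ⟨-, y', hy', e⟩ := mem_inf.1 (hHS.ge hy)
  rw [← Subtype.ext (show (y' : G) = y from e)]
  exact mem_Cg.1 hy'

/-- The images of the centralizers of the lines through `t`. -/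
theorem cent_le_image (hbal : Balanced S) {s : Cg t} (hs : Pt S (s : G)) (hst : (s : G) ≠ t) :
    Cg (yπ (Cg t) s) ≤ ((normalizer (compl3 S : Set G)).subgroupOf (Cg t)).map (yπ (Cg t)) := by
  rw [← map_cent_eq (yπ (Cg t)) (yπ_surjective _) (odd_ker_yπ _) (Subtype.ext (h.sq _ hs.1))]
  refine map_mono fun c hc => mem_subgroupOf.2 ?_
  obtain ⟨H, hH, htH, hsH⟩ := h.line_of ht hs hst.symm
  refine h.cent_line_le hbal hH (mem_centralizer_iff.2 fun x hx => ?_)
  have hct : (c : G) * t = t * c := mem_Cg.1 c.2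
  have hcs : (c : G) * (s : G) = (s : G) * c := congrArg Subtype.val (mem_Cg.1 hc)
  rcases (h.line_pts hH htH hsH ht.2 hs.2 hst.symm).1 hx with rfl | rfl | rfl | rfl
  · simp
  · exact hct.symm
  · exact hcs.symm
  · rw [mul_assoc, ← hcs, ← mul_assoc, ← hct, mul_assoc]

/-- For `q ≥ 11` the centralizers of two involutions of `V` generate `L`. -/
theorem model_le_of_cent {F : Type} [Field F] [Fintype F] (hodd : Fintype.card F % 2 = 1)
    (h11 : 11 ≤ Fintype.card F) (e : L ≃* PSL2[F]) {s s' : Cg t} (hs : Pt S (s : G))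
    (hs' : Pt S (s' : G)) (hst : (s : G) ≠ t) (hs't : (s' : G) ≠ t) (hne : (s' : G) ≠ s)
    (hne' : (s' : G) ≠ t * s) (hsL : yπ (Cg t) s ∈ L) (hs'L : yπ (Cg t) s' ∈ L)
    {K : Subgroup Q[t]} (hK : L ⊓ Cg (yπ (Cg t) s) ≤ K) (hK' : L ⊓ Cg (yπ (Cg t) s') ≤ K) :
    L ≤ K := by
  have hS := h.le_Cg ht.1
  set u := e ⟨_, hsL⟩ with hu
  set u' := e ⟨_, hs'L⟩ with hu'
  have hinv : ∀ {y : Cg t} (hy : yπ (Cg t) y ∈ L), Pt S (y : G) → orderOf (e ⟨_, hy⟩) = 2 := by
    intro y hy hyS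
    haveI : Fact (Nat.Prime 2) := ⟨Nat.prime_two⟩
    refine orderOf_eq_prime ?_ fun h1 =>
      hyS.2 (congrArg Subtype.val (h.yπ_injOn hyS.1 (congrArg Subtype.val (e.map_eq_one_iff.1 h1))))
    rw [← map_pow, e.map_eq_one_iff]
    refine Subtype.ext ?_
    show yπ (Cg t) y ^ 2 = 1
    rw [← map_pow, show y ^ 2 = 1 from Subtype.ext (by rw [Subgroup.coe_pow, pow_two]; exact h.sq _ hyS.1), map_one]
  have hback : ∀ {y : Cg t} (hy : yπ (Cg t) y ∈ L) (a : PSL2[F]), a ∈ centralizer ({e ⟨_, hy⟩} : Set PSL2[F]) →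
      ((e.symm a : L) : Q[t]) ∈ Cg (yπ (Cg t) y) := by
    intro y hy a ha
    rw [mem_Cg]
    have h1 := congrArg e.symm (mem_centralizer_singleton_iff.1 ha)
    rw [map_mul, map_mul, e.symm_apply_apply] at h1
    exact (congrArg Subtype.val h1 :)
  obtain ⟨hco, u₀, hu₀, -, a₀, ha₀, hnc⟩ := MinNonCA.cent_invol_coatom hodd h11 (hinv hsL hs)
  obtain ⟨hco', -⟩ := MinNonCA.cent_invol_coatom hodd h11 (hinv hs'L hs')
  set M := (K.subgroupOf L).map e.toMonoidHom with hM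
  have hCM : ∀ {y : Cg t} (hy : yπ (Cg t) y ∈ L), L ⊓ Cg (yπ (Cg t) y) ≤ K →
      centralizer ({e ⟨_, hy⟩} : Set PSL2[F]) ≤ M := fun {y} hy hyK a ha =>
    ⟨e.symm a, mem_subgroupOf.2 (hyK ⟨SetLike.coe_mem _, hback hy a ha⟩), e.apply_symm_apply a⟩
  have hMtop : M = ⊤ := by
    by_contra hne1
    have e1 : M = centralizer ({u} : Set PSL2[F]) := (hco.le_iff_eq hne1).1 (hCM hsL hK)
    have e2 : M = centralizer ({u'} : Set PSL2[F]) := (hco'.le_iff_eq hne1).1 (hCM hs'L hK')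
    apply hnc
    have hc : ∀ a ∈ centralizer ({u} : Set PSL2[F]),
        ((e.symm a : L) : Q[t]) ∈ (ySyl S hS : Subgroup Q[t]) := fun a ha =>
      hL.selfCent ⟨mem_sup_right (SetLike.coe_mem _), h.mem_cent_sylow ht hL hs hs' hst hs't hne hne'
        (hback hsL a ha) (hback hs'L a (e2.le (e1.ge ha)))⟩
    have hcm := congrArg Subtype.val ((comm_of_sq (h.sq_ySyl hS)).is_comm.comm
      (⟨_, hc u₀ hu₀⟩ : (ySyl S hS : Subgroup Q[t])) ⟨_, hc a₀ ha₀⟩)
    exact e.symm.injective (by rw [map_mul, map_mul]; exact Subtype.ext hcm)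
  intro l hl
  obtain ⟨k, hk, e'⟩ := hMtop.ge (mem_top (e ⟨l, hl⟩))
  rw [e.injective e'] at hk
  exact hk

/-- For `q ≥ 11` the centralizer of the point normalizes the completion. -/
theorem cent_le_of_large (hbal : Balanced S) {F : Type} [Field F] [Fintype F]
    (hodd : Fintype.card F % 2 = 1) (h11 : 11 ≤ Fintype.card F) (e : L ≃* PSL2[F]) :
    Cg t ≤ normalizer (compl3 S : Set G) := by
  have hS := h.le_Cg ht.1
  obtain ⟨s, s', hs, hs', hst, hs't, hne, hne', hsL, hs'L, -⟩ := h.exists_pair ht hL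
  set K := ((normalizer (compl3 S : Set G)).subgroupOf (Cg t)).map (yπ (Cg t)) with hK
  have hLK : L ≤ K := h.model_le_of_cent ht hL hodd h11 e hs hs' hst hs't hne hne' hsL hs'L
    (inf_le_right.trans (h.cent_le_image ht hL hbal hs hst))
    (inf_le_right.trans (h.cent_le_image ht hL hbal hs' hs't))
  have htK : h.tbar ht ∈ K := mem_map_of_mem _ (mem_subgroupOf.2 (h.sylow_le_compl3 ht.1))
  have hKtop : K = ⊤ := by
    refine eq_top_iff.2 (hL.cover ▸ sup_le (sup_le (zpowers_le.2 htK) hLK) fun c hc => ?_)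
    exact h.cent_le_image ht hL hbal hs hst
      (mem_Cg.2 (mem_centralizer_iff.1 hc _ ((mem_ySyl hS).2 ⟨s, hs.1, rfl⟩)).symm)
  intro g hg
  obtain ⟨k, hk, e'⟩ := hKtop.ge (mem_top (yπ (Cg t) ⟨g, hg⟩))
  have hker : k⁻¹ * ⟨g, hg⟩ ∈ Cfsg.oddCore ↥(Cg t) := by
    rw [← ker_yπ, MonoidHom.mem_ker, map_mul, map_inv, e', inv_mul_cancel]
  have h1 : (k : G)⁻¹ * g ∈ Og t := ⟨_, hker, rfl⟩
  have h2 : (k : G) * ((k : G)⁻¹ * g) ∈ normalizer (compl3 S : Set G) :=
    mul_mem (mem_subgroupOf.1 hk) (le_normalizer (Og_le_compl3 ht h1))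
  rwa [mul_inv_cancel_left] at h2

/-- For `q = 5` the odd invariant subgroups of the centralizer lie in its odd core. -/
theorem small_of_five {F : Type} [Field F] [Fintype F] (h5 : Fintype.card F = 5) (e : L ≃* PSL2[F])
    {R : Subgroup G} (hRC : R ≤ Cg t) (hn : (S : Subgroup G) ≤ normalizer (R : Set G))
    (hR : Odd (Nat.card R)) : R ≤ Og t := by
  haveI := hL.normal
  have hS := h.le_Cg ht.1
  set Rb := (R.subgroupOf (Cg t)).map (yπ (Cg t)) with hRb
  have hRodd : Odd (Nat.card Rb) := (show Odd (Nat.card (R.subgroupOf (Cg t))) by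
    rw [Nat.card_congr (subgroupOfEquivOfLe hRC).toEquiv]; exact hR).of_dvd_nat (card_map_dvd _ _)
  have hSR : ∀ v ∈ (ySyl S hS : Subgroup Q[t]), v ∈ normalizer (Rb : Set Q[t]) := by
    intro v hv
    obtain ⟨y, hy, rfl⟩ := (mem_ySyl hS).1 hv
    refine mem_normalizer_of_cj_eq (eq_of_le_of_card_ge ?_ (by rw [card_cj]))
    rintro _ ⟨_, ⟨r, hr, rfl⟩, rfl⟩
    refine ⟨y * r * y⁻¹, ?_, by rw [map_mul, map_mul, map_inv]; rfl⟩
    rw [SetLike.mem_coe, mem_subgroupOf] at hr ⊢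
    exact (mem_normalizer_iff.1 (hn hy) _).1 hr
  obtain ⟨s, s', hs, hs', -, -, -, -, hsL, hs'L, hs1, hs'1, hss⟩ := h.exists_pair ht hL
  set V := (ySyl S hS : Subgroup Q[t]) ⊓ L with hV
  haveI : IsMulCommutative V := comm_of_sq fun v hv => h.sq_ySyl hS v (mem_inf.1 hv).1
  have hV8 : Nat.card V ∣ 8 := h.card_ySyl hS ▸ card_dvd_of_le inf_le_left
  have hcyc : ¬ IsCyclic V := by
    intro hc
    obtain ⟨g, hg⟩ := hc.exists_generator
    have h1 := orderOf_eq_card_of_forall_mem_zpowers hg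
    have h2 : orderOf g ∣ 2 :=
      orderOf_dvd_of_pow_eq_one (by rw [pow_two]; exact Subtype.ext (h.sq_ySyl hS g g.2.1))
    have hsV : yπ (Cg t) s ∈ V := ⟨(mem_ySyl hS).2 ⟨s, hs.1, rfl⟩, hsL⟩
    have hs'V : yπ (Cg t) s' ∈ V := ⟨(mem_ySyl hS).2 ⟨s', hs'.1, rfl⟩, hs'L⟩
    classical
    have h3 : ({1, ⟨_, hsV⟩, ⟨_, hs'V⟩} : Finset V).card = 3 :=
      Finset.card_eq_three.2 ⟨1, ⟨_, hsV⟩, ⟨_, hs'V⟩, fun e0 => hs1 (congrArg Subtype.val e0).symm,
        fun e0 => hs'1 (congrArg Subtype.val e0).symm, fun e0 => hss (congrArg Subtype.val e0), rfl⟩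
    haveI := Fintype.ofFinite V
    have := Finset.card_le_univ ({1, ⟨_, hsV⟩, ⟨_, hs'V⟩} : Finset V)
    rw [h3, ← Nat.card_eq_fintype_card, ← h1] at this
    have := Nat.le_of_dvd two_pos h2
    omega
  have hRL : Rb ⊓ L = ⊥ := by
    have hVn : V ≤ normalizer ((Rb ⊓ L : Subgroup Q[t]) : Set Q[t]) :=
      (le_inf (fun v hv => hSR v (mem_inf.1 hv).1) (inf_le_right.trans le_normalizer)).trans
        inf_normalizer_le_normalizer_inf
    refine le_bot_iff.1 ((Cfsg.Lib.Coprime.le_iSup_centralizer_of_not_isCyclic hcyc hVn ?_).trans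
      (iSup_le fun a => ?_))
    · exact Nat.Coprime.coprime_dvd_left hV8
        ((Nat.coprime_two_left.2 (odd_of_le inf_le_left hRodd)).pow_left 3)
    · intro r hr
      rw [mem_bot]
      have hrL : r ∈ L := hr.1.2
      have hu : e ⟨a, a.2.1.2⟩ * e ⟨a, a.2.1.2⟩ = 1 := by
        rw [← map_mul, e.map_eq_one_iff]; exact Subtype.ext (h.sq_ySyl hS _ a.2.1.1)
      have hu1 : e ⟨a, a.2.1.2⟩ ≠ 1 := fun h0 => a.2.2 (congrArg Subtype.val (e.map_eq_one_iff.1 h0))
      have h2 := sq_one_of_comm_five h5 (a := e ⟨r, hrL⟩) hu hu1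
        (by rw [← map_mul, ← map_mul]; exact congrArg _ (Subtype.ext (mem_Cg.1 hr.2)))
      rw [← map_mul, e.map_eq_one_iff] at h2
      have hr2 : r * r = 1 := congrArg Subtype.val h2
      have ho : orderOf r ∣ Nat.gcd 2 (Nat.card Rb) := Nat.dvd_gcd
        (orderOf_dvd_of_pow_eq_one (by rw [pow_two, hr2]))
        (by rw [← Subgroup.orderOf_mk r hr.1.1]; exact orderOf_dvd_natCard _)
      rwa [Nat.Coprime.gcd_eq_one (Nat.coprime_two_left.2 hRodd), Nat.dvd_one, orderOf_eq_one_iff] at ho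
  haveI := hL.normalP
  have hP : zpowers (h.tbar ht) ⊔ L = ⊤ := index_eq_one.1 (Nat.dvd_one.1
    (hL.index_dvd (h.sq_ySyl hS _ (h.pt_ySyl hS ht).1) (Nat.odd_iff.2 (by omega)) e
      (by norm_num : Nat.Prime 5) le_rfl (by rw [h5, pow_one])))
  have hRbot : Rb = ⊥ := by
    have h1 : L.relIndex Rb ∣ L.index := relIndex_dvd_index_of_normal L Rb
    have h2 : L.index ∣ 2 := by
      rw [← relIndex_top_right, ← hP]
      refine dvd_trans (dvd_of_eq (relIndex_sup_right _ _)) ?_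
      refine (Subgroup.index_dvd_card _).trans ?_
      rw [Nat.card_zpowers]
      exact orderOf_dvd_of_pow_eq_one (by rw [pow_two]; exact h.sq_ySyl hS _ (h.pt_ySyl hS ht).1)
    have h3 : L.relIndex Rb = 1 := by
      have ha : L.relIndex Rb ∣ Nat.gcd 2 (Nat.card Rb) := Nat.dvd_gcd (h1.trans h2) (Subgroup.index_dvd_card _)
      rwa [Nat.Coprime.gcd_eq_one (Nat.coprime_two_left.2 hRodd), Nat.dvd_one] at ha
    rw [← hRL, left_eq_inf]
    exact relIndex_eq_one.1 h3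
  intro r hr
  have h4 : yπ (Cg t) ⟨r, hRC hr⟩ ∈ Rb := mem_map_of_mem _ (mem_subgroupOf.2 hr)
  rw [hRbot, mem_bot, ← MonoidHom.mem_ker, ker_yπ] at h4
  exact ⟨_, h4, rfl⟩

end Hyp

/-- The centralizer of a point with nonsolvable centralizer normalizes the completion. -/
theorem Hyp.cent_le_normalizer (h : Hyp S) (hbal : Balanced S) (ih : CentBelow.{u} (Nat.card G)) {t : G}
    (ht : Pt S t) (hns : ¬ Group.IsSolvable ↥(Cg t)) : Cg t ≤ normalizer (compl3 S : Set G) := by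
  obtain ⟨L, hL⟩ := h.exists_model ht hns
  obtain ⟨F, i, j, h38, h5, ⟨e⟩⟩ := hL.iso
  by_cases hq : Fintype.card F = 5
  · refine h.cent_le_of_small hbal ih (fun a ha R hRC hn hR => ?_) ht hns
    obtain ⟨n, hn', e'⟩ := h.trans ht ha
    have hn'' : n⁻¹ ∈ normalizer ((S : Subgroup G) : Set G) := inv_mem hn'
    have h1 : cj n⁻¹ R ≤ Og t := by
      refine h.small_of_five ht hL hq e ?_ ?_ (by rw [card_cj]; exact hR)
      · refine (cj_mono hRC).trans (le_of_eq ?_)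
        rw [cj_Cg, ← e']
        congr 1
        group
      · intro x hx
        refine mem_normalizer_of_cj_eq ?_
        rw [cj_cj, show x * n⁻¹ = n⁻¹ * (n * x * n⁻¹) by group, ← cj_cj,
          cj_eq_self (hn ((mem_normalizer_iff.1 hn' x).1 hx))]
    have h2 := cj_mono (g := n) h1
    rwa [cj_cj, mul_inv_cancel, cj_one, cj_Og, e'] at h2
  · exact h.cent_le_of_large ht hL hbal (by omega) (by omega) e

end Cfsg.Lib.Walter3
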