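import Cfsg.Agent.Lib.Walter8.ModelPSL
import Cfsg.Agent.Lib.Dickson.DihedralMax
import Cfsg.Agent.S2119
import Cfsg.Agent.S0253

/-!
# The facts about `PSL₂(q)`, `q ≡ 3, 5 (mod 8)`, used for the centralizers of the points
-/

set_option autoImplicit false
set_option linter.unusedSectionVars false
set_option linter.style.haveILetI false

namespace Cfsg.Lib.Walter3

open Subgroup

universe u

theorem conj_mul_conj {L : Type*} [Group L] (c a b : L) : c * (a * b) * c⁻¹ = c * a * c⁻¹ * (c * b * c⁻¹) := by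
  group

/-- Moving the subgroups and elements of a group by conjugation. -/
theorem conj_commute_iff {L : Type*} [Group L] (c a b : L) :
    c * a * c⁻¹ * (c * b * c⁻¹) = c * b * c⁻¹ * (c * a * c⁻¹) ↔ a * b = b * a := by
  rw [← conj_mul_conj, ← conj_mul_conj, mul_left_inj, mul_right_inj]

theorem mem_dihedral_cent {k : ℕ} {z y : DihedralGroup k} (hy : y * y ≠ 1) (hz : z * z = 1)
    (hyz : y * z = z * y) : ∀ g, g * z = z * g := by
  rcases y with i | i
  · rcases z with j | j
    · simp only [DihedralGroup.r_mul_r, ← DihedralGroup.r_zero, DihedralGroup.one_def,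
        DihedralGroup.r.injEq] at hz
      rintro (g | g)
      · simp only [DihedralGroup.r_mul_r, add_comm]
      · simp only [DihedralGroup.sr_mul_r, DihedralGroup.r_mul_sr, DihedralGroup.sr.injEq]
        linear_combination hz
    · exfalso
      simp only [DihedralGroup.r_mul_sr, DihedralGroup.sr_mul_r, DihedralGroup.sr.injEq] at hyz
      apply hy
      rw [DihedralGroup.r_mul_r, DihedralGroup.one_def, DihedralGroup.r.injEq]
      linear_combination -hyz
  · exact absurd (DihedralGroup.sr_mul_self i) hy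

theorem alt_five_cent : ∀ a b : alternatingGroup (Fin 5), a * a ≠ 1 ∨ a = 1 ∨ b * a ≠ a * b ∨ b * b = 1 := by
  decide +kernel

section

variable {L : Type u} [Group L] [Finite L] {F : Type} [Field F] [Fintype F]
  (e : L ≃* Matrix.ProjectiveSpecialLinearGroup (Fin 2) F)
  (h8 : Fintype.card F % 8 = 3 ∨ Fintype.card F % 8 = 5) (h5 : 5 ≤ Fintype.card F)
include e h8 h5

theorem q_cases : Fintype.card F = 5 ∨ 11 ≤ Fintype.card F := by omega

omit h8 h5 in
theorem five_fact (hq : Fintype.card F = 5) {v z : L} (hv : v * v = 1) (hv1 : v ≠ 1)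
    (hzv : z * v = v * z) : z * z = 1 := by
  obtain ⟨ψ⟩ := Cfsg.Agent.S0253.result hq
  let f := e.trans ψ
  have key : ∀ a b : alternatingGroup (Fin 5), a * a = 1 → a ≠ 1 → b * a = a * b → b * b = 1 :=
    fun a b h1 h2 h3 => ((alt_five_cent a b).resolve_left (not_not.2 h1) |>.resolve_left h2 |>.resolve_left
      (not_not.2 h3))
  refine f.injective ?_
  rw [map_mul, map_one]
  exact key (f v) (f z) (by rw [← map_mul, hv, map_one]) (fun h => hv1 (f.map_eq_one_iff.1 h))
    (by rw [← map_mul, ← map_mul, hzv])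

/-- The model with a prescribed involution. -/
theorem exists_model_at (h11 : 11 ≤ Fintype.card F) {v : L} (hv : v * v = 1) (hv1 : v ≠ 1) :
    ∃ (D : Walter8.LModel L) (c : L), D.q = Fintype.card F ∧ c * D.z * c⁻¹ = v := by
  obtain ⟨D, hD⟩ := Walter8.exists_LModel e h11 h8
  obtain ⟨c, hc⟩ := D.involutions_conj v hv hv1
  exact ⟨D, c, hD, hc⟩

omit h8 h5 e in
theorem mem_torus_of_odd (D : Walter8.LModel L) {z : L} (hz : Odd (orderOf z))
    (hzc : z * D.z = D.z * z) : z ∈ zpowers D.y := by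
  have hT : z ^ D.T = 1 := by
    by_contra hne
    have h2 := orderOf_dvd_of_pow_eq_one (D.pow_two_T_of_cent hzc)
    exact hne (orderOf_dvd_iff_pow_eq_one.1 ((Nat.Coprime.dvd_mul_left
      (Nat.coprime_two_right.2 hz)).1 h2))
  obtain ⟨s, hs, h⟩ := D.cent_z z hzc
  have hinv : ∀ x : L, x * x = 1 → z = x → z ∈ zpowers D.y := by
    intro x hx hzx
    have hd : orderOf z ∣ 2 := orderOf_dvd_of_pow_eq_one (by rw [pow_two, hzx, hx])
    have h1 := hd.trans (dvd_refl 2)
    rcases (Nat.dvd_prime Nat.prime_two).1 hd with h' | h'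
    · rw [orderOf_eq_one_iff.1 h']; exact one_mem _
    · rw [h'] at hz; exact absurd hz (by decide)
  rcases h with h | h | h | h
  · exact h ▸ hs
  · exfalso
    rw [h, (D.comm_z hs).mul_pow, D.pow_T_of_mem hs, one_mul] at hT
    exact D.z_pow_T hT
  · exact hinv _ (D.si_sq hs) h
  · exact hinv _ (D.szi_sq hs) h

/-- A nontrivial odd element commuting with an involution: its centralizer commutes with it. -/
theorem torus_cent {v : L} (hv : v * v = 1) (hv1 : v ≠ 1) {z : L} (hz : Odd (orderOf z)) (hz1 : z ≠ 1)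
    (hzv : z * v = v * z) {r : L} (hrz : r * z = z * r) : r * v = v * r := by
  rcases q_cases e h8 h5 with hq | h11
  · exfalso
    refine hz1 ?_
    have hd : orderOf z ∣ 2 := orderOf_dvd_of_pow_eq_one (by rw [pow_two, five_fact e hq hv hv1 hzv])
    rcases (Nat.dvd_prime Nat.prime_two).1 hd with h | h
    · exact orderOf_eq_one_iff.1 h
    · rw [h] at hz; exact absurd hz (by decide)
  obtain ⟨D, c, -, hc⟩ := exists_model_at e h8 h5 h11 hv hv1
  obtain ⟨z', rfl⟩ : ∃ z', c * z' * c⁻¹ = z := ⟨c⁻¹ * z * c, by group⟩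
  obtain ⟨r', rfl⟩ : ∃ r', c * r' * c⁻¹ = r := ⟨c⁻¹ * r * c, by group⟩
  subst hc
  rw [conj_commute_iff] at hzv hrz ⊢
  rw [← MulEquiv.orderOf_eq (MulAut.conj c⁻¹), show (MulAut.conj c⁻¹) (c * z' * c⁻¹) = z' by simp [mul_assoc]] at hz
  have hmem := mem_torus_of_odd D hz hzv
  rcases D.cent_y z' hmem (fun h => hz1 (by rw [h]; group)) r' hrz with h | h
  · exact D.comm_z h
  · calc r' * D.z = D.z * D.z * (r' * D.z) := by rw [D.z_sq, one_mul]
      _ = D.z * (D.z * (r' * D.z)) := mul_assoc _ _ _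
      _ = D.z * (r' * D.z * D.z) := by rw [← (D.comm_z h).eq]
      _ = D.z * r' := by rw [mul_assoc r', D.z_sq, mul_one]

/-- An involution commuting with `v` inverts the odd elements commuting with `v`. -/
theorem inverted {v w : L} (hv : v * v = 1) (hv1 : v ≠ 1) (hw : w * w = 1) (hw1 : w ≠ 1) (hwv : w ≠ v)
    (hc : w * v = v * w) {l : L} (hl : Odd (orderOf l)) (hlv : l * v = v * l) :
    w * l * w⁻¹ = l⁻¹ := by
  rcases q_cases e h8 h5 with hq | h11
  · have hl1 : l = 1 := by
      have hd : orderOf l ∣ 2 := orderOf_dvd_of_pow_eq_one (by rw [pow_two, five_fact e hq hv hv1 hlv])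
      rcases (Nat.dvd_prime Nat.prime_two).1 hd with h | h
      · exact orderOf_eq_one_iff.1 h
      · rw [h] at hl; exact absurd hl (by decide)
    rw [hl1]; group
  obtain ⟨D, c, -, hcz⟩ := exists_model_at e h8 h5 h11 hv hv1
  obtain ⟨l', rfl⟩ : ∃ l', c * l' * c⁻¹ = l := ⟨c⁻¹ * l * c, by group⟩
  obtain ⟨w', rfl⟩ : ∃ w', c * w' * c⁻¹ = w := ⟨c⁻¹ * w * c, by group⟩
  subst hcz
  rw [conj_commute_iff] at hlv hc
  rw [← MulEquiv.orderOf_eq (MulAut.conj c⁻¹), show (MulAut.conj c⁻¹) (c * l' * c⁻¹) = l' by simp [mul_assoc]] at hl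
  have hmem := mem_torus_of_odd D hl hlv
  have hw' : w' * w' = 1 := by
    rw [← conj_mul_conj] at hw; exact conj_eq_one_iff.1 hw
  suffices h : w' * l' * w'⁻¹ = l'⁻¹ by
    calc c * w' * c⁻¹ * (c * l' * c⁻¹) * (c * w' * c⁻¹)⁻¹ = c * (w' * l' * w'⁻¹) * c⁻¹ := by group
      _ = (c * l' * c⁻¹)⁻¹ := by rw [h]; group
  obtain ⟨s, hs, h⟩ := D.cent_z w' hc
  have hsq : ∀ x : L, x ^ D.T = 1 → x * x = 1 → x = 1 := fun x hx hx2 => by
    obtain ⟨m, hm⟩ := (Nat.odd_iff.2 D.T_facts.1)
    rwa [hm, pow_succ, pow_mul, pow_two, hx2, one_pow, one_mul] at hx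
  have hconj : ∀ x ∈ zpowers D.y, x * l' * x⁻¹ = l' := fun x hx => by
    obtain ⟨a, rfl⟩ := mem_zpowers_iff.1 hx
    obtain ⟨b, rfl⟩ := mem_zpowers_iff.1 hmem
    group
  rcases h with h | h | h | h
  · refine absurd ?_ hw1
    rw [h] at hw' ⊢
    rw [hsq s (D.pow_T_of_mem hs) hw']; group
  · refine absurd ?_ hwv
    subst h
    have hs2 : s * s = 1 := by
      calc s * s = s * (D.z * D.z) * s := by rw [D.z_sq, mul_one]
        _ = s * D.z * (D.z * s) := by group
        _ = s * D.z * (s * D.z) := by rw [(D.comm_z hs).eq]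
        _ = 1 := hw'
    rw [hsq s (D.pow_T_of_mem hs) hs2, one_mul]
  · subst h
    calc s * D.i * l' * (s * D.i)⁻¹ = s * (D.i * l' * D.i⁻¹) * s⁻¹ := by group
      _ = s * l'⁻¹ * s⁻¹ := by rw [D.i_inv hmem]
      _ = (s * l' * s⁻¹)⁻¹ := by group
      _ = l'⁻¹ := by rw [hconj s hs]
  · subst h
    calc s * D.z * D.i * l' * (s * D.z * D.i)⁻¹ = s * (D.z * (D.i * l' * D.i⁻¹) * D.z⁻¹) * s⁻¹ := by group
      _ = s * (D.z * l'⁻¹ * D.z⁻¹) * s⁻¹ := by rw [D.i_inv hmem]
      _ = s * l'⁻¹ * s⁻¹ := by rw [← (D.comm_z (inv_mem hmem)).eq, mul_inv_cancel_right]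
      _ = (s * l' * s⁻¹)⁻¹ := by group
      _ = l'⁻¹ := by rw [hconj s hs]

/-- Generators of the centralizer of an involution. -/
theorem mem_of_cent (h11 : 11 ≤ Fintype.card F) {v w : L} (hv : v * v = 1) (hv1 : v ≠ 1) (hw : w * w = 1)
    (hw1 : w ≠ 1) (hwv : w ≠ v) (hc : w * v = v * w) {K : Subgroup L} (hvK : v ∈ K) (hwK : w ∈ K)
    (hK : ∀ l, Odd (orderOf l) → l * v = v * l → l ∈ K) {l : L} (hl : l * v = v * l) : l ∈ K := by
  obtain ⟨D, c, -, hcz⟩ := exists_model_at e h8 h5 h11 hv hv1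
  subst hcz
  obtain ⟨w', rfl⟩ : ∃ w', c * w' * c⁻¹ = w := ⟨c⁻¹ * w * c, by group⟩
  obtain ⟨l', rfl⟩ : ∃ l', c * l' * c⁻¹ = l := ⟨c⁻¹ * l * c, by group⟩
  rw [conj_commute_iff] at hc hl
  set K' := K.comap (MulAut.conj c).toMonoidHom with hK'
  have hy : ∀ s ∈ zpowers D.y, s ∈ K' := fun s hs => by
    refine hK _ ?_ ((conj_commute_iff _ _ _).2 (D.comm_z hs))
    show Odd (orderOf (MulAut.conj c s))
    rw [MulEquiv.orderOf_eq]
    exact (Nat.odd_iff.2 D.T_facts.1).of_dvd_nat (orderOf_dvd_of_pow_eq_one (D.pow_T_of_mem hs))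
  have hz : D.z ∈ K' := hvK
  have hw' : w' * w' = 1 := by rw [← conj_mul_conj] at hw; exact conj_eq_one_iff.1 hw
  have hi : D.i ∈ K' := by
    have hsq : ∀ x : L, x ^ D.T = 1 → x * x = 1 → x = 1 := fun x hx hx2 => by
      obtain ⟨m, hm⟩ := Nat.odd_iff.2 D.T_facts.1
      rwa [hm, pow_succ, pow_mul, pow_two, hx2, one_pow, one_mul] at hx
    obtain ⟨s, hs, h⟩ := D.cent_z w' hc
    rcases h with h | h | h | h
    · subst h
      exact absurd (by rw [hsq w' (D.pow_T_of_mem hs) hw']; group) hw1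
    · subst h
      have hs2 : s * s = 1 := by
        calc s * s = s * (D.z * D.z) * s := by rw [D.z_sq, mul_one]
          _ = s * D.z * (D.z * s) := by group
          _ = s * D.z * (s * D.z) := by rw [(D.comm_z hs).eq]
          _ = 1 := hw'
      exact absurd (by rw [hsq s (D.pow_T_of_mem hs) hs2, one_mul]) hwv
    · subst h
      simpa [mul_assoc] using K'.mul_mem (inv_mem (hy s hs)) (show s * D.i ∈ K' from hwK)
    · subst h
      have := K'.mul_mem (inv_mem (mul_mem (hy s hs) hz)) (show s * D.z * D.i ∈ K' from hwK)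
      simpa [mul_assoc] using this
  obtain ⟨s, hs, h⟩ := D.cent_z l' hl
  show l' ∈ K'
  rcases h with rfl | rfl | rfl | rfl
  exacts [hy _ hs, mul_mem (hy _ hs) hz, mul_mem (hy _ hs) hi, mul_mem (mul_mem (hy _ hs) hz) hi]

/-- The centralizer of an involution and an element moving it generate, for `q ≥ 11`. -/
theorem eq_top_of_cent (h11 : 11 ≤ Fintype.card F) {v : L} (hv : v * v = 1) (hv1 : v ≠ 1)
    {K : Subgroup L} (hK : ∀ l, l * v = v * l → l ∈ K) {r : L} (hr : r ∈ K) (hrv : r * v ≠ v * r) :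
    K = ⊤ := by
  classical
  obtain ⟨D, c, hq, hc⟩ := exists_model_at e h8 h5 h11 hv hv1
  obtain ⟨p, hp⟩ := CharP.exists F
  haveI := hp
  haveI : Fact p.Prime := ⟨CharP.char_is_prime F p⟩
  haveI := Fintype.ofFinite L
  set y := c * D.y * c⁻¹ with hy
  set i := c * D.i * c⁻¹ with hi
  have hyv : y * v = v * y := by rw [← hc, hy, conj_commute_iff]; exact D.y_z
  have hiv : i * v = v * i := by rw [← hc, hi, conj_commute_iff]; exact D.i_z
  have hoy : orderOf y = D.T := by
    rw [hy, ← MulAut.conj_apply, MulEquiv.orderOf_eq, D.orderOf_y]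
  have hT := D.T_facts
  set H : Subgroup (Matrix.ProjectiveSpecialLinearGroup (Fin 2) F) := K.map e.toMonoidHom with hH
  suffices hHtop : H = ⊤ by
    refine map_injective (f := e.toMonoidHom) e.injective ?_
    rw [← hH, hHtop, ← MonoidHom.range_eq_map, MonoidHom.range_eq_top.2 e.surjective]
  let eH : K ≃* H := K.equivMapOfInjective e.toMonoidHom e.injective
  have hyK : y ∈ K := hK y hyv
  have hvK : v ∈ K := hK v rfl
  -- an element of order `2T`
  set x : K := ⟨y * v, mul_mem hyK hvK⟩ with hx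
  have hox : orderOf x = 2 * D.T := by
    rw [← Subgroup.orderOf_coe]
    show orderOf (y * v) = _
    rw [(show Commute y v from hyv).orderOf_mul_eq_mul_orderOf_of_coprime, hoy,
      orderOf_eq_prime (p := 2) (by rw [pow_two, hv]) hv1, mul_comm]
    rw [hoy, orderOf_eq_prime (p := 2) (by rw [pow_two, hv]) hv1]
    exact Nat.coprime_two_right.2 (Nat.odd_iff.2 hT.1)
  rcases Dickson.psl_subgroup_cases p H with ⟨k, -, hcd⟩ | ⟨-, P, hP⟩ | ⟨-, hcase⟩
  · exfalso
    rcases hcd with ⟨hcyc, -⟩ | ⟨⟨f⟩⟩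
    · haveI : IsCyclic K := (MulEquiv.isCyclic eH).2 hcyc
      exact hrv (congrArg Subtype.val
        ((IsCyclic.commGroup (α := K)).mul_comm ⟨r, hr⟩ ⟨v, hvK⟩))
    · let g := eH.trans f
      have hcent := mem_dihedral_cent (y := g ⟨y, hyK⟩) (z := g ⟨v, hvK⟩)
        (by
          intro h
          rw [← map_mul, g.map_eq_one_iff] at h
          have h' : y * y = 1 := congrArg Subtype.val h
          have := orderOf_dvd_of_pow_eq_one ((pow_two y).trans h')
          rw [hoy] at this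
          have := Nat.le_of_dvd two_pos this
          omega)
        (by rw [← map_mul, show (⟨v, hvK⟩ : K) * ⟨v, hvK⟩ = 1 from Subtype.ext hv, map_one])
        (by rw [← map_mul, ← map_mul]; exact congrArg g (Subtype.ext hyv)) (g ⟨r, hr⟩)
      rw [← map_mul, ← map_mul] at hcent
      exact hrv (congrArg Subtype.val (g.injective hcent))
  · exfalso
    have h4 : 4 ∣ Nat.card K := by
      have hsub : centralizer ({v} : Set L) ≤ K := fun l hl => hK l (mem_centralizer_singleton_iff.1 hl)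
      refine dvd_trans ?_ (card_dvd_of_le hsub)
      have hcard : Nat.card (centralizer ({v} : Set L)) = 4 * D.T := by
        rw [← D.card_cent_z, ← hc]
        refine Nat.card_congr ⟨fun a => ⟨c⁻¹ * a * c, ?_⟩, fun a => ⟨c * a * c⁻¹, ?_⟩, ?_, ?_⟩
        · have h := mem_centralizer_singleton_iff.1 a.2
          refine mem_centralizer_singleton_iff.2 ?_
          calc c⁻¹ * (a : L) * c * D.z = c⁻¹ * (a * (c * D.z * c⁻¹)) * c := by group
            _ = c⁻¹ * (c * D.z * c⁻¹ * a) * c := by rw [show (a : L) * (c * D.z * c⁻¹) = c * D.z * c⁻¹ * a from h]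
            _ = D.z * (c⁻¹ * a * c) := by group
        · exact mem_centralizer_singleton_iff.2 ((conj_commute_iff _ _ _).2
            (mem_centralizer_singleton_iff.1 a.2))
        · intro a; exact Subtype.ext (by simp [mul_assoc])
        · intro a; exact Subtype.ext (by simp [mul_assoc])
      rw [hcard]; exact dvd_mul_right 4 _
    have hd := h4.trans (Nat.card_congr eH.toEquiv ▸ card_dvd_of_le hP)
    have hN := Dickson.card_normalizer_sylow_psl p P
    have hodd : Fintype.card F % 2 = 1 := by omega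
    rw [Nat.gcd_eq_left (show 2 ∣ Fintype.card F - 1 by omega)] at hN
    obtain ⟨m, hm⟩ := hd
    rw [hm] at hN
    have h16 : (Fintype.card F * (Fintype.card F - 1)) % 8 = 0 := by omega
    rw [Nat.mul_mod] at h16
    rcases h8 with h | h
    · rw [h, show (Fintype.card F - 1) % 8 = 2 by omega] at h16; omega
    · rw [h, show (Fintype.card F - 1) % 8 = 4 by omega] at h16; omega
  rcases hcase with hA | hS | h5' | ⟨M, _, _, m, -, hM3, hm, hiso⟩
  · exfalso
    obtain ⟨f⟩ := hA
    have key : ∀ a : alternatingGroup (Fin 4), a ^ 2 = 1 ∨ a ^ 3 = 1 := by decide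
    have ho : orderOf (f (eH x)) = 2 * D.T := by rw [MulEquiv.orderOf_eq, MulEquiv.orderOf_eq, hox]
    rcases key (f (eH x)) with h | h <;> have h' := orderOf_dvd_of_pow_eq_one h <;> rw [ho] at h' <;>
      have h'' := Nat.le_of_dvd (by norm_num) h' <;> omega
  · exfalso
    obtain ⟨f⟩ := hS
    have h16 := Dickson.sq_mod_sixteen_of_perm_four f
    rw [Nat.pow_mod] at h16
    have h9 : Fintype.card F % 16 = 3 ∨ Fintype.card F % 16 = 5 ∨ Fintype.card F % 16 = 11 ∨
        Fintype.card F % 16 = 13 := by omega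
    rcases h9 with h | h | h | h <;> rw [h] at h16 <;> norm_num at h16
  · exfalso
    obtain ⟨f⟩ := h5'
    have ho : orderOf (f (eH x)) = 2 * D.T := by rw [MulEquiv.orderOf_eq, MulEquiv.orderOf_eq, hox]
    rcases Dickson.alternating_five_exponents (f (eH x)) with h | h | h <;>
      have h' := orderOf_dvd_of_pow_eq_one h <;> rw [ho] at h' <;>
      have h'' := Nat.le_of_dvd (by norm_num) h' <;> omega
  · rcases Nat.lt_or_ge m 2 with hm2 | hm2
    · obtain rfl : m = 1 := by
        rcases Nat.eq_zero_or_pos m with rfl | hp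
        · rw [pow_zero] at hm; omega
        · omega
      exact Dickson.eq_top_of_full (by rwa [pow_one] at hm) hiso
    · exfalso
      have hle : 2 * D.T ≤ Fintype.card M + 1 := by
        rw [← hox, ← MulEquiv.orderOf_eq eH]
        rcases hiso with ⟨⟨f⟩, -⟩ | ⟨⟨f⟩⟩
        · rw [← MulEquiv.orderOf_eq f, ← orderOf_injective _ Matrix.ProjectiveSpecialLinearGroup.toPGL_injective]
          exact Dickson.orderOf_le_card_add_one _
        · rw [← MulEquiv.orderOf_eq f]
          exact Dickson.orderOf_le_card_add_one _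
      have hTq : Fintype.card F ≤ 4 * D.T + 1 := by
        have h1 := D.hT
        rcases D.σ_cases with hσ | hσ <;> rw [hσ, hq] at h1 <;> omega
      set r' := Fintype.card M
      rcases Nat.lt_or_ge r' 4 with hM4 | hM4
      · omega
      · have h2 : r' ^ 2 ≤ Fintype.card F := hm ▸ Nat.pow_le_pow_right (by omega) hm2
        have h3 : 4 * r' ≤ r' ^ 2 := by rw [pow_two]; exact Nat.mul_le_mul_right r' hM4
        omega

omit h8 h5 in
theorem card_mulAut_five (hq : Fintype.card F = 5) : Nat.card (MulAut L) = 120 := by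
  obtain ⟨ψ⟩ := Cfsg.Agent.S0253.result hq
  rw [Nat.card_congr (MulAut.congr (e.trans ψ)).toEquiv,
    ← Nat.card_congr (MulEquiv.ofBijective _ (Cfsg.Agent.S2119.result 5 (by norm_num) (by norm_num))).toEquiv,
    Nat.card_eq_fintype_card, Fintype.card_perm, Fintype.card_fin]
  rfl

end

end Cfsg.Lib.Walter3
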