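import Cfsg.Agent.Lib.Walter3.FieldModel
import Cfsg.Agent.Lib.Walter3.PSLFacts
import Cfsg.Agent.Lib.Walter3.Anchor
import Cfsg.Agent.Lib.Sig.PConstrained

/-!
# The centralizer of a point modulo its odd core

The three facts used for balance are read off from `C(x)/O(C(x)) = (⟨x⟩ × PSL₂(q)).F`.
-/

set_option autoImplicit false
set_option linter.unusedSectionVars false
set_option linter.style.haveILetI false

namespace Cfsg.Lib.Walter3

open Subgroup Cfsg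
open scoped commutatorElement

universe u

variable {G : Type u} [Group G] [Finite G]

/-- The centralizer of `x` modulo its odd core. -/
abbrev Qt (x : G) : Type u := ↥(Cg x) ⧸ Cfsg.oddCore ↥(Cg x)

/-- The projection. -/
abbrev pr (x : G) : ↥(Cg x) →* Qt x := QuotientGroup.mk' _

/-- The image of a subgroup. -/
abbrev img (x : G) (K : Subgroup G) : Subgroup (Qt x) := (K.subgroupOf (Cg x)).map (pr x)

theorem pr_eq_one {x : G} {c : ↥(Cg x)} : pr x c = 1 ↔ (c : G) ∈ Og x := by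
  rw [QuotientGroup.mk'_apply, QuotientGroup.eq_one_iff]
  exact ⟨fun h => ⟨c, h, rfl⟩, fun ⟨c', h, e⟩ => Subtype.ext e ▸ h⟩

theorem commutatorElement_mem_Og {x a b : G} (ha : a ∈ Cg x) (hb : b ∈ Cg x)
    (h : pr x ⟨a, ha⟩ * pr x ⟨b, hb⟩ = pr x ⟨b, hb⟩ * pr x ⟨a, ha⟩) : ⁅a, b⁆ ∈ Og x := by
  refine (pr_eq_one (c := ⁅(⟨a, ha⟩ : ↥(Cg x)), (⟨b, hb⟩ : ↥(Cg x))⁆)).1 ?_
  rw [map_commutatorElement]
  exact commutatorElement_eq_one_iff_mul_comm.2 h

variable {S : Sylow 2 G}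

/-- What is known about `C(x)/O(C(x))`. -/
structure CentModel (S : Sylow 2 G) (x : G) (hxC : x ∈ Cg x) (L : Subgroup (Qt x)) : Prop where
  fm : FieldModel (img x (S : Subgroup G)) (pr x ⟨x, hxC⟩) L
  sylow : ∃ T : Sylow 2 (Qt x), (T : Subgroup (Qt x)) = img x (S : Subgroup G)

namespace Hyp

variable (h : Hyp S)
include h

theorem pr_inj {x : G} {a : ↥(Cg x)} (ha : (a : G) ∈ (S : Subgroup G)) (e : pr x a = 1) : a = 1 :=
  Subtype.ext (eq_one_of_sq_odd (odd_orderOf (odd_cor _) (pr_eq_one.1 e)) (h.sq _ ha))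

theorem pr_sq {x : G} {q : Qt x} (hq : q ∈ img x (S : Subgroup G)) : q * q = 1 := by
  obtain ⟨a, ha, rfl⟩ := hq
  rw [← map_mul, show a * a = 1 from Subtype.ext (h.sq _ (mem_subgroupOf.1 ha)), map_one]

theorem exists_centModel {x : G} (hx : Pt S x) (hns : ¬ Group.IsSolvable ↥(Cg x)) :
    ∃ (hxC : x ∈ Cg x) (L : Subgroup (Qt x)), CentModel S x hxC L := by
  haveI : Fact (Nat.Prime 2) := ⟨Nat.prime_two⟩
  have hxC : x ∈ Cg x := mem_Cg.2 rfl
  have hle := h.le_Cg hx.1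
  let T₀ : Sylow 2 ↥(Cg x) := S.subtype hle
  let T : Sylow 2 (Qt x) := T₀.mapSurjective (QuotientGroup.mk'_surjective (Cfsg.oddCore ↥(Cg x)))
  have hT : (T : Subgroup (Qt x)) = img x (S : Subgroup G) := rfl
  have h8 : Nat.card (T : Subgroup (Qt x)) = 8 := by
    rw [hT, ← h.card, ← Nat.card_congr (subgroupOfEquivOfLe hle).toEquiv]
    refine (Nat.card_congr (Equiv.ofBijective
      (fun s : (S : Subgroup G).subgroupOf (Cg x) => (⟨pr x s, mem_map_of_mem _ s.2⟩ :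
        img x (S : Subgroup G))) ⟨?_, ?_⟩)).symm
    · intro a c e
      have e' : pr x (a : ↥(Cg x)) = pr x (c : ↥(Cg x)) := congrArg Subtype.val e
      have h1 := h.pr_inj (a := (a : ↥(Cg x))⁻¹ * (c : ↥(Cg x)))
        ((S : Subgroup G).mul_mem ((S : Subgroup G).inv_mem (mem_subgroupOf.1 a.2)) (mem_subgroupOf.1 c.2))
        (by rw [map_mul, map_inv, e', inv_mul_cancel])
      exact Subtype.ext (inv_mul_eq_one.1 h1)
    · rintro ⟨_, s, hs, rfl⟩
      exact ⟨⟨s, hs⟩, rfl⟩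
  have hel : IsElementaryAbelian 2 (T : Subgroup (Qt x)) := by
    refine ⟨⟨⟨fun a b => ?_⟩⟩, fun q hq => by rw [pow_two]; exact h.pr_sq hq⟩
    obtain ⟨_, a, ha, rfl⟩ := a
    obtain ⟨_, b, hb, rfl⟩ := b
    refine Subtype.ext ?_
    show pr x a * pr x b = pr x b * pr x a
    rw [← map_mul, ← map_mul,
      show a * b = b * a from Subtype.ext (h.comm (mem_subgroupOf.1 ha) (mem_subgroupOf.1 hb))]
  have hsol : Group.IsSolvable ↥(Cfsg.oddCore ↥(Cg x)) := AbTwo.isSolvable_of_odd AbTwo.odd_oddCore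
  obtain ⟨L, hL⟩ := exists_fieldModel T h8 hel (t := pr x ⟨x, hxC⟩)
    (mem_map_of_mem _ (mem_subgroupOf.2 hx.1))
    (fun e => hx.2 (congrArg Subtype.val (h.pr_inj (a := ⟨x, hxC⟩) hx.1 e)))
    (mem_center_iff.2 fun q => by
      obtain ⟨c, rfl⟩ := QuotientGroup.mk'_surjective (Cfsg.oddCore ↥(Cg x)) q
      rw [← map_mul, ← map_mul, show c * ⟨x, hxC⟩ = ⟨x, hxC⟩ * c from Subtype.ext (mem_Cg.1 c.2)])
    Core.pPrimeCore_quotient_eq_bot (fun hq => hns <| by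
      haveI := hq
      haveI := hsol
      exact Group.isSolvable_of_ker_le_range (Cfsg.oddCore ↥(Cg x)).subtype (pr x) (by simp))
  exact ⟨hxC, L, hT ▸ hL, T, hT⟩

variable {x : G} {hxC : x ∈ Cg x} {L : Subgroup (Qt x)}

/-- Every image of the Sylow subgroup is a power of `x` times an element of the four-group in `L`. -/
theorem split (hM : CentModel S x hxC L) {q : Qt x} (hq : q ∈ img x (S : Subgroup G)) :
    ∃ v ∈ img x (S : Subgroup G), v ∈ L ∧ (q = v ∨ q = pr x ⟨x, hxC⟩ * v) := by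
  haveI := hM.fm.normal
  obtain ⟨z, hz, l, hl, rfl⟩ := Subgroup.mem_sup_of_normal_right.1 (hM.fm.le hq)
  obtain ⟨k, hk⟩ := mem_zpowers_iff.1 hz
  have hxS : pr x ⟨x, hxC⟩ ∈ img x (S : Subgroup G) ∨ x ∉ (S : Subgroup G) := by
    by_cases hx : x ∈ (S : Subgroup G)
    exacts [Or.inl (mem_map_of_mem _ (mem_subgroupOf.2 hx)), Or.inr hx]
  have hxx : pr x ⟨x, hxC⟩ * pr x ⟨x, hxC⟩ = 1 ∧ pr x ⟨x, hxC⟩ ∈ img x (S : Subgroup G) := by
    have hmem : pr x ⟨x, hxC⟩ ∈ img x (S : Subgroup G) := by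
      have := hM.fm.selfCent (mem_inf.2 ⟨mem_sup_left (mem_zpowers _), mem_centralizer_iff.2 fun s _ => by
        have hc : pr x ⟨x, hxC⟩ ∈ centralizer (L : Set (Qt x)) := hM.fm.cent.ge (mem_zpowers _)
        obtain ⟨c, rfl⟩ := QuotientGroup.mk'_surjective (Cfsg.oddCore ↥(Cg x)) s
        rw [← map_mul, ← map_mul, show c * ⟨x, hxC⟩ = ⟨x, hxC⟩ * c from Subtype.ext (mem_Cg.1 c.2)]⟩)
      exact this
    exact ⟨h.pr_sq hmem, hmem⟩
  have hzc : z = 1 ∨ z = pr x ⟨x, hxC⟩ := by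
    subst hk
    rcases Int.even_or_odd k with ⟨m, rfl⟩ | ⟨m, rfl⟩
    · left; rw [← two_mul, zpow_mul, zpow_two, hxx.1, one_zpow]
    · right; rw [zpow_add, zpow_mul, zpow_two, hxx.1, one_zpow, one_mul, zpow_one]
  rcases hzc with rfl | rfl
  · exact ⟨l, by simpa using hq, hl, Or.inl (one_mul l)⟩
  · refine ⟨l, ?_, hl, Or.inr rfl⟩
    have := (img x (S : Subgroup G)).mul_mem hxx.2 hq
    rwa [← mul_assoc, hxx.1, one_mul] at this

theorem xbar_central (q : Qt x) : q * pr x ⟨x, hxC⟩ = pr x ⟨x, hxC⟩ * q := by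
  obtain ⟨c, rfl⟩ := QuotientGroup.mk'_surjective (Cfsg.oddCore ↥(Cg x)) q
  rw [← map_mul, ← map_mul, show c * ⟨x, hxC⟩ = ⟨x, hxC⟩ * c from Subtype.ext (mem_Cg.1 c.2)]

/-- The part in `L` of a line through `x`. -/
theorem line_part (hM : CentModel S x hxC L) (hx : Pt S x) {s : G} (hs : Pt S s) (hsx : s ≠ x)
    (hsC : s ∈ Cg x) :
    ∃ v : Qt x, v ∈ img x (S : Subgroup G) ∧ v ∈ L ∧ v ≠ 1 ∧
      (pr x ⟨s, hsC⟩ = v ∨ pr x ⟨s, hsC⟩ = pr x ⟨x, hxC⟩ * v) := by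
  obtain ⟨v, hv, hvL, e⟩ := h.split hM (mem_map_of_mem _ (show (⟨s, hsC⟩ : ↥(Cg x)) ∈ (S : Subgroup G).subgroupOf (Cg x) from hs.1))
  refine ⟨v, hv, hvL, fun hv1 => ?_, e⟩
  rw [hv1, mul_one] at e
  rcases e with e | e
  · exact hs.2 (congrArg Subtype.val (h.pr_inj (a := ⟨s, hsC⟩) hs.1 e))
  · have h1 := h.pr_inj (a := ⟨s, hsC⟩⁻¹ * ⟨x, hxC⟩)
      ((S : Subgroup G).mul_mem ((S : Subgroup G).inv_mem hs.1) hx.1)
      (by rw [map_mul, map_inv, e, inv_mul_cancel])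
    exact hsx (congrArg Subtype.val (inv_mul_eq_one.1 h1))

theorem commute_of_part {q v : Qt x} {s : G} {hsC : s ∈ Cg x}
    (e : pr x ⟨s, hsC⟩ = v ∨ pr x ⟨s, hsC⟩ = pr x ⟨x, hxC⟩ * v) :
    q * pr x ⟨s, hsC⟩ = pr x ⟨s, hsC⟩ * q ↔ q * v = v * q := by
  rcases e with e | e <;> rw [e]
  rw [← mul_assoc, h.xbar_central q, mul_assoc, mul_assoc, mul_right_inj]

theorem torus_at (hM : CentModel S x hxC L) (hx : Pt S x) {p : ℕ} (hp : p.Prime) (hp2 : p ≠ 2)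
    {Q : Subgroup G} (hQC : Q ≤ Cg x) (hQp : IsPGroup p Q)
    (hQS : (S : Subgroup G) ≤ normalizer (Q : Set G)) :
    ∃ H, IsLine (S : Subgroup G) H ∧ x ∈ H ∧ ⁅Q, H⁆ ≤ Og x := by
  haveI := Fact.mk hp
  haveI := hM.fm.normal
  set T := img x (S : Subgroup G)
  set Qb := img x Q
  have hQbp : IsPGroup p Qb := (hQp.comap_of_injective _ (Cg x).subtype_injective).map _
  have hnorm : ∀ t ∈ T, ∀ q ∈ Qb, t * q * t⁻¹ ∈ Qb := by
    rintro _ ⟨t, ht, rfl⟩ _ ⟨q, hq, rfl⟩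
    refine ⟨t * q * t⁻¹, mem_subgroupOf.2 ?_, by rw [map_mul, map_mul, map_inv]⟩
    exact (mem_normalizer_iff.1 (hQS (mem_subgroupOf.1 ht)) _).1 (mem_subgroupOf.1 hq)
  obtain ⟨n, hn⟩ := h.rot_exists hx
  -- two involutions of the four-group
  obtain ⟨v₁, hv₁T, hv₁L, hv₁1, s, hs, hsx, hsC, es⟩ : ∃ v : Qt x, v ∈ T ∧ v ∈ L ∧ v ≠ 1 ∧
      ∃ (s : G) (_ : Pt S s) (_ : s ≠ x) (hsC : s ∈ Cg x),
        pr x ⟨s, hsC⟩ = v ∨ pr x ⟨s, hsC⟩ = pr x ⟨x, hxC⟩ * v := by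
    obtain ⟨V, hV, hxV, -⟩ := h.exists_axis hx
    obtain ⟨s, hsV, s1, -⟩ := h.line_exists_pts hV (one_mem V)
    have hs : Pt S s := ⟨hV.le hsV, s1⟩
    have hsx : s ≠ x := fun e => hxV (e ▸ hsV)
    have hsC : s ∈ Cg x := h.le_Cg hx.1 hs.1
    obtain ⟨v, h1, h2, h3, h4⟩ := h.line_part hM hx hs hsx hsC
    exact ⟨v, h1, h2, h3, s, hs, hsx, hsC, h4⟩
  suffices key : ∃ v ∈ T, v ∈ L ∧ v ≠ 1 ∧ ∀ q ∈ Qb, q * v = v * q by
    obtain ⟨v, hvT, hvL, hv1, hcom⟩ := key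
    obtain ⟨w, hw, rfl⟩ := hvT
    have hwS : (w : G) ∈ (S : Subgroup G) := mem_subgroupOf.1 hw
    have hwx : (w : G) ≠ x := fun e => hM.fm.notMem
      (by rwa [show w = ⟨x, hxC⟩ from Subtype.ext e] at hvL)
    have hw1 : (w : G) ≠ 1 := fun e => hv1 (by rw [show w = 1 from Subtype.ext e, map_one])
    obtain ⟨H, hH, xH, wH⟩ := h.line_of hx (⟨hwS, hw1⟩ : Pt S (w : G)) (Ne.symm hwx)
    refine ⟨H, hH, xH, commutator_le.2 fun q hq y hy => ?_⟩
    refine commutatorElement_mem_Og (hQC hq) (h.le_Cg hx.1 (hH.le hy)) ?_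
    have hqb : pr x ⟨q, hQC hq⟩ ∈ Qb := mem_map_of_mem _ (mem_subgroupOf.2 hq)
    rcases (h.line_pts hH xH wH hx.2 hw1 (Ne.symm hwx)).1 hy with e | e | e | e
    · simp only [e]
      rw [show (⟨(1 : G), _⟩ : ↥(Cg x)) = 1 from rfl, map_one, one_mul, mul_one]
    · simp only [e]; exact h.xbar_central _
    · simp only [e]; exact hcom _ hqb
    · simp only [e]
      rw [show (⟨x * (w : G), _⟩ : ↥(Cg x)) = ⟨x, hxC⟩ * w from rfl, map_mul, ← mul_assoc,
        h.xbar_central, mul_assoc, hcom _ hqb, mul_assoc]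
  set V := T ⊓ L
  set R := ⁅Qb, V⁆
  have hRQ : R ≤ Qb := commutator_le.2 fun q hq v hv => by
    rw [commutatorElement_def, mul_assoc, mul_assoc]
    refine Qb.mul_mem hq ?_
    rw [← mul_assoc]
    exact hnorm v hv.1 _ (Qb.inv_mem hq)
  have hRL : R ≤ L := commutator_le.2 fun q _ v hv => by
    rw [commutatorElement_def]
    exact L.mul_mem (hM.fm.normal.conj_mem v hv.2 q) (L.inv_mem hv.2)
  have hVR : V ≤ normalizer (R : Set (Qt x)) := normalizer_commutator_ge_right Qb V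
  by_cases hR : R = ⊥
  · refine ⟨v₁, hv₁T, hv₁L, hv₁1, fun q hq => ?_⟩
    have := commutator_mem_commutator (H₁ := Qb) (H₂ := V) hq ⟨hv₁T, hv₁L⟩
    rw [show ⁅Qb, V⁆ = ⊥ from hR, mem_bot] at this
    exact commutatorElement_eq_one_iff_mul_comm.1 this
  haveI : Nontrivial R := (nontrivial_iff_ne_bot R).2 hR
  haveI : Nontrivial (Subgroup.center R) := (hQbp.to_le hRQ).center_nontrivial
  obtain ⟨⟨z₀, hz₀c⟩, hz₀⟩ := exists_ne (1 : Subgroup.center R)
  set z : Qt x := (z₀ : Qt x)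
  have hz1 : z ≠ 1 := fun e => hz₀ (Subtype.ext (Subtype.ext e))
  have hzc : ∀ r ∈ R, r * z = z * r := fun r hr => congrArg Subtype.val (mem_center_iff.1 hz₀c ⟨r, hr⟩)
  have hzR : z ∈ R := z₀.2
  -- a second involution of the four-group
  obtain ⟨v₂, hv₂T, hv₂L, hv₂1, hv₂ne⟩ : ∃ v ∈ T, v ∈ L ∧ v ≠ 1 ∧ v ≠ v₁ := by
    have hs' := h.conj_pt hn.norm hs
    have hC' : n * s * n⁻¹ ∈ Cg x := h.le_Cg hx.1 hs'.1
    have hne : n * s * n⁻¹ ≠ x := fun e => hsx (by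
      have : n * s * n⁻¹ = n * x * n⁻¹ := e.trans hn.fix.symm
      exact mul_left_cancel (mul_right_cancel this))
    obtain ⟨v, h1, h2, h3, h4⟩ := h.line_part hM hx hs' hne hC'
    refine ⟨v, h1, h2, h3, fun e => ?_⟩
    subst e
    have hmv : n * s * n⁻¹ = s ∨ n * s * n⁻¹ = x * s := by
      have key : ∀ a b : ↥(Cg x), (a : G) ∈ (S : Subgroup G) → (b : G) ∈ (S : Subgroup G) →
          pr x a = pr x b → (a : G) = b := fun a b ha hb e => by
        have := h.pr_inj (a := a⁻¹ * b) ((S : Subgroup G).mul_mem ((S : Subgroup G).inv_mem ha) hb)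
          (by rw [map_mul, map_inv, e, inv_mul_cancel])
        exact congrArg Subtype.val (inv_mul_eq_one.1 this)
      have hxsS : x * s ∈ (S : Subgroup G) := (S : Subgroup G).mul_mem hx.1 hs.1
      have hxx : pr x ⟨x, hxC⟩ * pr x ⟨x, hxC⟩ = 1 := h.pr_sq (mem_map_of_mem _ (mem_subgroupOf.2 hx.1))
      rcases h4 with h4 | h4 <;> rcases es with es | es
      · exact Or.inl (key ⟨_, hC'⟩ ⟨s, hsC⟩ hs'.1 hs.1 (h4.trans es.symm))
      · refine Or.inr (key ⟨_, hC'⟩ (⟨x, hxC⟩ * ⟨s, hsC⟩) hs'.1 hxsS ?_)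
        rw [h4, map_mul, es, ← mul_assoc, hxx, one_mul]
      · refine Or.inr (key ⟨_, hC'⟩ (⟨x, hxC⟩ * ⟨s, hsC⟩) hs'.1 hxsS ?_)
        rw [h4, map_mul, es]
      · exact Or.inl (key ⟨_, hC'⟩ ⟨s, hsC⟩ hs'.1 hs.1 (h4.trans es.symm))
    refine hn.move ?_
    rcases hmv with e | e
    · exact h.fix_two hn.norm hx hs (Ne.symm hsx) hn.fix e
    · obtain ⟨H, hH, xH, sH⟩ := h.line_of hx hs (Ne.symm hsx)
      exfalso
      refine h.move_line hn hx hH xH (eq_of_le_of_card_ge ?_ (le_of_eq (by rw [card_cj])))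
      rintro _ ⟨y, hy, rfl⟩
      show n * y * n⁻¹ ∈ H
      rcases (h.line_pts hH xH sH hx.2 hs.2 (Ne.symm hsx)).1 hy with r | r | r | r <;> rw [r]
      · simpa using one_mem H
      · rw [hn.fix]; exact xH
      · rw [e]; exact mul_mem xH sH
      · rw [show n * (x * s) * n⁻¹ = n * x * n⁻¹ * (n * s * n⁻¹) by group, hn.fix, e, ← mul_assoc,
          h.sq x hx.1, one_mul]
        exact sH
  obtain ⟨v, hvV, hv1, z', hz'R, hz'1, hz'v⟩ : ∃ v ∈ V, v ≠ 1 ∧ ∃ z' ∈ R, z' ≠ 1 ∧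
      (∀ r ∈ R, r * z' = z' * r) ∧ z' * v = v * z' := by
    have hcase : ∀ v ∈ V, v ≠ 1 → (v * z * v⁻¹ = z⁻¹) ∨ (∃ z' ∈ R, z' ≠ 1 ∧
        (∀ r ∈ R, r * z' = z' * r) ∧ z' * v = v * z') := by
      intro v hv hv1
      have hv2 := h.pr_sq hv.1
      have hvz : v * z * v⁻¹ ∈ R := (mem_normalizer_iff.1 (hVR hv) z).1 hzR
      by_cases e : z * (v * z * v⁻¹) = 1
      · exact Or.inl (eq_inv_of_mul_eq_one_right e)
      refine Or.inr ⟨_, R.mul_mem hzR hvz, e, fun r hr => ?_, ?_⟩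
      · have hr' : v⁻¹ * r * v ∈ R := by
          simpa [mul_assoc] using (mem_normalizer_iff.1 (inv_mem (hVR hv)) r).1 hr
        calc r * (z * (v * z * v⁻¹)) = r * z * (v * z * v⁻¹) := by group
          _ = z * r * (v * z * v⁻¹) := by rw [hzc r hr]
          _ = z * (v * (v⁻¹ * r * v * z) * v⁻¹) := by group
          _ = z * (v * (z * (v⁻¹ * r * v)) * v⁻¹) := by rw [hzc _ hr']
          _ = z * (v * z * v⁻¹) * r := by group
      · have hinv : v⁻¹ = v := inv_eq_of_mul_eq_one_right hv2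
        have hcm := hzc _ hvz
        calc z * (v * z * v⁻¹) * v = z * v * z := by group
          _ = v * v * z * v * z := by rw [hv2, one_mul]
          _ = v * (v * z * v⁻¹ * z) := by rw [hinv]; group
          _ = v * (z * (v * z * v⁻¹)) := by rw [hcm]
    rcases hcase v₁ ⟨hv₁T, hv₁L⟩ hv₁1 with e1 | h1
    swap; · exact ⟨v₁, ⟨hv₁T, hv₁L⟩, hv₁1, h1⟩
    rcases hcase v₂ ⟨hv₂T, hv₂L⟩ hv₂1 with e2 | h2
    swap; · exact ⟨v₂, ⟨hv₂T, hv₂L⟩, hv₂1, h2⟩
    refine ⟨v₁ * v₂, V.mul_mem ⟨hv₁T, hv₁L⟩ ⟨hv₂T, hv₂L⟩, fun e => hv₂ne ?_, z, hzR, hz1, hzc, ?_⟩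
    · rw [eq_inv_of_mul_eq_one_right e, inv_eq_of_mul_eq_one_right (h.pr_sq hv₁T)]
    · symm
      calc v₁ * v₂ * z = v₁ * (v₂ * z * v₂⁻¹) * v₁⁻¹ * (v₁ * v₂) := by group
        _ = (v₁ * z * v₁⁻¹)⁻¹ * (v₁ * v₂) := by rw [e2]; group
        _ = z * (v₁ * v₂) := by rw [e1, inv_inv]
  obtain ⟨hz'c, hz'v⟩ := hz'v
  refine ⟨v, hvV.1, hvV.2, hv1, fun q hq => ?_⟩
  obtain ⟨F, i, j, h38, h5, ⟨e⟩⟩ := hM.fm.iso
  have hQodd := odd_of_pGroup hp hp2 hQbp
  have hz'o : Odd (orderOf (⟨z', hRL hz'R⟩ : L)) := by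
    rw [← Subgroup.orderOf_coe]; exact odd_orderOf hQodd (hRQ hz'R)
  have hv2 := h.pr_sq hvV.1
  set c := ⁅q, v⁆
  have hcR : c ∈ R := commutator_mem_commutator hq hvV
  have hcv : c * v = v * c := congrArg Subtype.val (torus_cent e h38 h5 (v := ⟨v, hvV.2⟩)
    (Subtype.ext hv2) (fun he => hv1 (congrArg Subtype.val he)) hz'o
    (fun he => hz'1 (congrArg Subtype.val he)) (Subtype.ext hz'v) (r := ⟨c, hRL hcR⟩)
    (Subtype.ext (hz'c c hcR)))
  have hinv : v⁻¹ = v := inv_eq_of_mul_eq_one_right hv2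
  have hc2 : c * c = 1 := by
    have h1 : v * c * v⁻¹ = c⁻¹ := by
      simp only [c, commutatorElement_def, hinv]
      rw [mul_inv_rev, mul_inv_rev, mul_inv_rev, inv_inv, hinv]
      simp only [mul_assoc]
      rw [hv2, mul_one]
    rw [← hcv, mul_inv_cancel_right] at h1
    exact eq_inv_iff_mul_eq_one.1 h1
  exact commutatorElement_eq_one_iff_mul_comm.1 (eq_one_of_sq_odd (odd_orderOf hQodd (hRQ hcR)) hc2)

/-- A commutator with the Sylow subgroup lies in `L`. -/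
theorem commutator_mem_L (hM : CentModel S x hxC L) (hx : Pt S x) {D : Subgroup G} (hD : D ≤ Cg x)
    {d : G} (hd : d ∈ ⁅D, (S : Subgroup G)⁆) : ∃ hdC : d ∈ Cg x, pr x ⟨d, hdC⟩ ∈ L := by
  haveI := hM.fm.normal
  have hle : ⁅D, (S : Subgroup G)⁆ ≤ (L.comap (pr x)).map (Cg x).subtype := by
    refine commutator_le.2 fun a ha s hs => ?_
    refine ⟨⁅(⟨a, hD ha⟩ : ↥(Cg x)), ⟨s, h.le_Cg hx.1 hs⟩⁆, ?_, rfl⟩
    show pr x _ ∈ L
    rw [map_commutatorElement]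
    obtain ⟨v, -, hv, e | e⟩ :=
      h.split hM (mem_map_of_mem _ (show (⟨s, h.le_Cg hx.1 hs⟩ : ↥(Cg x)) ∈ (S : Subgroup G).subgroupOf (Cg x) from hs))
    all_goals rw [commutatorElement_def, e]
    · exact L.mul_mem (hM.fm.normal.conj_mem v hv _) (L.inv_mem hv)
    · have hc := h.xbar_central (hxC := hxC) (pr x ⟨a, hD ha⟩)
      rw [show pr x ⟨a, hD ha⟩ * (pr x ⟨x, hxC⟩ * v) * (pr x ⟨a, hD ha⟩)⁻¹ * (pr x ⟨x, hxC⟩ * v)⁻¹ =
        pr x ⟨x, hxC⟩ * (pr x ⟨a, hD ha⟩ * v * (pr x ⟨a, hD ha⟩)⁻¹ * v⁻¹) * (pr x ⟨x, hxC⟩)⁻¹ by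
          rw [← mul_assoc, hc]; group]
      exact hM.fm.normal.conj_mem _ (L.mul_mem (hM.fm.normal.conj_mem v hv _) (L.inv_mem hv)) _
  obtain ⟨⟨c, hc⟩, hc', rfl⟩ := hle hd
  exact ⟨hc, hc'⟩

theorem cent_img {y : G} (hy : y ∈ centralizer ((S : Subgroup G) : Set G)) (hyC : y ∈ Cg x) :
    pr x ⟨y, hyC⟩ ∈ centralizer (img x (S : Subgroup G) : Set (Qt x)) := by
  refine mem_centralizer_iff.2 ?_
  rintro _ ⟨s, hs, rfl⟩
  rw [← map_mul, ← map_mul,
    show s * ⟨y, hyC⟩ = ⟨y, hyC⟩ * s from Subtype.ext (mem_centralizer_iff.1 hy _ (mem_subgroupOf.1 hs))]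

theorem odd_pr {y : G} (hy : Odd (orderOf y)) (hyC : y ∈ Cg x) : Odd (orderOf (pr x ⟨y, hyC⟩)) := by
  refine hy.of_dvd_nat ?_
  rw [← Subgroup.orderOf_mk y hyC]
  exact orderOf_map_dvd _ _

theorem torusFix_at (hM : CentModel S x hxC L) (hx : Pt S x) {H : Subgroup G}
    (hH : IsLine (S : Subgroup G) H) (hxH : x ∈ H) :
    ⁅cor (centralizer (H : Set G)), (S : Subgroup G)⁆ ⊓ centralizer ((S : Subgroup G) : Set G) ≤ Og x := by
  rintro d ⟨hd, hdS⟩
  have hDC : cor (centralizer (H : Set G)) ≤ Cg x := (cor_le _).trans (centralizer_line_le hxH)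
  obtain ⟨hdC, hdL⟩ := h.commutator_mem_L hM hx hDC hd
  have hdS' : pr x ⟨d, hdC⟩ ∈ img x (S : Subgroup G) :=
    hM.fm.selfCent (mem_inf.2 ⟨mem_sup_right hdL, h.cent_img hdS hdC⟩)
  have hdD : d ∈ cor (centralizer (H : Set G)) :=
    Coprime.commutator_le_of_le_normalizer (h.cor_line_norm hH.le) hd
  refine (pr_eq_one (c := ⟨d, hdC⟩)).1 ?_
  exact eq_one_of_sq_odd (h.odd_pr (odd_orderOf (odd_cor _) hdD) hdC) (h.pr_sq hdS')

theorem faithful_at (hM : CentModel S x hxC L) (hx : Pt S x) {H : Subgroup G}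
    (hH : IsLine (S : Subgroup G) H) (hxH : x ∈ H) {y : G}
    (hy : y ∈ cor (centralizer ((S : Subgroup G) : Set G)))
    (hyd : ∀ d ∈ ⁅cor (centralizer (H : Set G)), (S : Subgroup G)⁆, ⁅d, y⁆ ∈ Og x) : y ∈ Og x := by
  haveI := hM.fm.normal
  haveI := hM.fm.normalP
  set T := img x (S : Subgroup G)
  have hycS : y ∈ centralizer ((S : Subgroup G) : Set G) := cor_le _ hy
  have hyC : y ∈ Cg x := mem_Cg.2 (mem_centralizer_iff.1 hycS x hx.1).symm
  refine (pr_eq_one (c := ⟨y, hyC⟩)).1 ?_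
  set yb := pr x ⟨y, hyC⟩ with hyb
  have hyo : Odd (orderOf yb) := h.odd_pr (odd_orderOf (odd_cor _) hy) hyC
  have hyT : yb ∈ centralizer (T : Set (Qt x)) := h.cent_img hycS hyC
  have hyone : yb ∈ zpowers (pr x ⟨x, hxC⟩) ⊔ L → yb = 1 := fun hP =>
    eq_one_of_sq_odd hyo (h.pr_sq (hM.fm.selfCent (mem_inf.2 ⟨hP, hyT⟩)))
  obtain ⟨F, i, j, h38, h5, ⟨e⟩⟩ := hM.fm.iso
  rcases q_cases e h38 h5 with hq | h11
  · -- `q = 5`: no field part
    refine hyone ?_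
    suffices hP : zpowers (pr x ⟨x, hxC⟩) ⊔ L = ⊤ by rw [hP]; exact mem_top _
    set Z := zpowers (pr x ⟨x, hxC⟩) with hZ
    have hL60 : Nat.card L = 60 := by
      obtain ⟨ψ⟩ := Cfsg.Agent.S0253.result hq
      exact Dickson.card_target_five (e.trans ψ)
    let φ : Qt x →* MulAut L := MulAut.conjNormal
    have hker : φ.ker = Z := by
      rw [hZ, ← hM.fm.cent]
      ext q
      rw [MonoidHom.mem_ker, mem_centralizer_iff]
      constructor
      · intro hq' l hl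
        have := congrArg (fun a : MulAut L => ((a ⟨l, hl⟩ : L) : Qt x)) hq'
        simp only [φ, MulAut.conjNormal_apply, MulAut.one_apply] at this
        exact (mul_inv_eq_iff_eq_mul.1 this).symm
      · intro hq'
        refine MulEquiv.ext fun l => Subtype.ext ?_
        simp only [φ, MulAut.conjNormal_apply, MulAut.one_apply]
        rw [← hq' l l.2, mul_inv_cancel_right]
    have hZ2 : Nat.card Z = 2 := by
      rw [hZ, Nat.card_zpowers]
      refine orderOf_eq_prime ?_ fun e1 => hx.2 (congrArg Subtype.val (h.pr_inj (a := ⟨x, hxC⟩) hx.1 e1))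
      rw [pow_two]; exact h.pr_sq (mem_map_of_mem _ (mem_subgroupOf.2 hx.1))
    have hdvd : Nat.card (Qt x) ∣ 240 := by
      rw [← Subgroup.card_mul_index φ.ker, hker, hZ2, Subgroup.index_eq_card]
      have h1 := Nat.card_congr (QuotientGroup.quotientKerEquivRange φ).toEquiv
      have h2 : Nat.card φ.range ∣ 120 := card_mulAut_five e hq ▸ card_subgroup_dvd_card φ.range
      rw [← h1] at h2
      exact (Nat.mul_dvd_mul_left 2 (hker ▸ h2) : _)
    have hi4 : L.index ∣ 4 := by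
      rw [← L.card_mul_index, hL60] at hdvd
      exact Nat.dvd_of_mul_dvd_mul_left (by norm_num : 0 < 60) (show 60 * L.index ∣ 60 * 4 from hdvd)
    have hi := (index_dvd_of_le (le_sup_right : L ≤ Z ⊔ L)).trans hi4
    rw [← index_eq_one]
    exact Nat.dvd_one.1 ((Nat.Coprime.dvd_mul_right (n := 4) (m := 1)
      ((Nat.coprime_two_right.2 hM.fm.odd).pow_right 2)).1 (by rwa [one_mul]))
  -- `q ≥ 11`: the centralizer of `yb` in `L` is `L`
  suffices hall : ∀ l ∈ L, l * yb = yb * l by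
    refine hyone (mem_sup_left ?_)
    rw [← hM.fm.cent]
    exact mem_centralizer_iff.2 hall
  obtain ⟨n, hn⟩ := h.rot_exists hx
  have hnC : n ∈ Cg x := mem_Cg.2 (mul_inv_eq_iff_eq_mul.1 hn.fix)
  set nb := pr x ⟨n, hnC⟩ with hnb
  obtain ⟨p, hp, c, hc, hpc⟩ : ∃ p ∈ zpowers (pr x ⟨x, hxC⟩) ⊔ L,
      ∃ c ∈ centralizer (T : Set (Qt x)), p * c = nb :=
    Subgroup.mem_sup_of_normal_left.1 (show nb ∈ _ by rw [hM.fm.cover]; exact mem_top _)
  obtain ⟨z, hz, σ, hσ, hzσ⟩ := Subgroup.mem_sup_of_normal_right.1 hp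
  obtain ⟨k, hk⟩ := mem_zpowers_iff.1 hz
  have hσT : ∀ t ∈ T, σ * t * σ⁻¹ = nb * t * nb⁻¹ := fun t ht => by
    have h1 : c * t * c⁻¹ = t := by rw [← mem_centralizer_iff.1 hc t ht, mul_inv_cancel_right]
    have h2 : ∀ w, z * w = w * z := fun w => by
      rw [← hk]; exact (Commute.zpow_right (h.xbar_central w : Commute w (pr x ⟨x, hxC⟩)) k).symm
    calc σ * t * σ⁻¹ = σ * (c * t * c⁻¹) * σ⁻¹ * (z * z⁻¹) := by rw [h1, mul_inv_cancel, mul_one]
      _ = z * (σ * (c * t * c⁻¹) * σ⁻¹) * z⁻¹ := by rw [← mul_assoc, ← h2]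
      _ = z * σ * c * t * (z * σ * c)⁻¹ := by group
      _ = nb * t * nb⁻¹ := by rw [hzσ, hpc]
  have hnT : ∀ t ∈ T, nb * t * nb⁻¹ ∈ T ∧ nb⁻¹ * t * nb ∈ T := by
    rintro _ ⟨t, ht, rfl⟩
    refine ⟨⟨⟨n, hnC⟩ * t * ⟨n, hnC⟩⁻¹, mem_subgroupOf.2 ?_, by rw [map_mul, map_mul, map_inv]⟩,
      ⟨⟨n, hnC⟩⁻¹ * t * ⟨n, hnC⟩, mem_subgroupOf.2 ?_, by rw [map_mul, map_mul, map_inv]⟩⟩
    · exact (mem_normalizer_iff.1 hn.norm _).1 (mem_subgroupOf.1 ht)
    · simpa [mul_assoc] using (mem_normalizer_iff.1 (inv_mem hn.norm) _).1 (mem_subgroupOf.1 ht)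
  -- `yb` centralizes `σ`
  have hyσ : σ * yb = yb * σ := by
    set u := yb * σ * yb⁻¹ * σ⁻¹ with hu
    have huL : u ∈ L := L.mul_mem (hM.fm.normal.conj_mem σ hσ _) (L.inv_mem hσ)
    have hs1 : σ * yb⁻¹ * σ⁻¹ ∈ centralizer (T : Set (Qt x)) := by
      refine mem_centralizer_iff.2 fun t ht => ?_
      have hmem : σ⁻¹ * t * σ ∈ T := by
        have h3 := (hnT t ht).2
        have h4 := hσT _ h3
        rw [show nb * (nb⁻¹ * t * nb) * nb⁻¹ = t by group] at h4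
        rwa [show σ⁻¹ * t * σ = nb⁻¹ * t * nb by
          conv_lhs => rw [← h4]
          group]
      have h5 := mem_centralizer_iff.1 ((centralizer (T : Set (Qt x))).inv_mem hyT) _ hmem
      calc t * (σ * yb⁻¹ * σ⁻¹) = σ * (σ⁻¹ * t * σ * yb⁻¹) * σ⁻¹ := by group
        _ = σ * (yb⁻¹ * (σ⁻¹ * t * σ)) * σ⁻¹ := by rw [h5]
        _ = σ * yb⁻¹ * σ⁻¹ * t := by group
    have huT : u ∈ T := hM.fm.selfCent (mem_inf.2 ⟨mem_sup_right huL, by
      rw [hu, mul_assoc, mul_assoc, ← mul_assoc σ]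
      exact (centralizer (T : Set (Qt x))).mul_mem hyT hs1⟩)
    have huy : yb * u * yb⁻¹ = u := by rw [← mem_centralizer_iff.1 hyT u huT, mul_inv_cancel_right]
    have hpow : ∀ m : ℕ, yb ^ m * σ * (yb ^ m)⁻¹ = u ^ m * σ := by
      intro m
      induction m with
      | zero => simp
      | succ m ih =>
        calc yb ^ (m + 1) * σ * (yb ^ (m + 1))⁻¹ = yb * (yb ^ m * σ * (yb ^ m)⁻¹) * yb⁻¹ := by
              rw [pow_succ']; group
          _ = (yb * u ^ m * yb⁻¹) * (yb * σ * yb⁻¹) := by rw [ih]; group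
          _ = (yb * u * yb⁻¹) ^ m * (u * σ) := by rw [conj_pow, hu]; group
          _ = u ^ (m + 1) * σ := by rw [huy, pow_succ]; group
    have hu1 : u = 1 := by
      have h6 := hpow (orderOf yb)
      rw [pow_orderOf_eq_one, one_mul, inv_one, mul_one] at h6
      have h7 : u ^ orderOf yb = 1 := mul_right_cancel (b := σ) (by rw [one_mul, ← h6])
      obtain ⟨m, hm⟩ := hyo
      rwa [hm, pow_succ, pow_mul, pow_two, h.pr_sq huT, one_pow, one_mul] at h7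
    have h8 : yb * σ * yb⁻¹ = σ := mul_inv_eq_one.1 hu1
    exact (mul_inv_eq_iff_eq_mul.1 h8).symm
  -- the involution of the line
  obtain ⟨s, hsH, s1, hsx⟩ := h.line_exists_pts hH hxH
  have hs : Pt S s := ⟨hH.le hsH, s1⟩
  have hsC : s ∈ Cg x := h.le_Cg hx.1 hs.1
  obtain ⟨v, hvT, hvL, hv1, hve⟩ := h.line_part hM hx hs hsx hsC
  set w := σ * v * σ⁻¹ with hw
  have hwT : w ∈ T := by rw [hw, hσT v hvT]; exact (hnT v hvT).1
  have hwL : w ∈ L := L.mul_mem (L.mul_mem hσ hvL) (L.inv_mem hσ)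
  have hw1 : w ≠ 1 := fun e1 => hv1 (conj_eq_one_iff.1 e1)
  have hwv : w ≠ v := by
    intro e1
    rw [hw, hσT v hvT] at e1
    have hns : n * s * n⁻¹ ∈ (S : Subgroup G) := (mem_normalizer_iff.1 hn.norm s).1 hs.1
    have hfix : pr x (⟨n, hnC⟩ * ⟨s, hsC⟩ * ⟨n, hnC⟩⁻¹) = pr x ⟨s, hsC⟩ := by
      rw [map_mul, map_mul, map_inv, ← hnb]
      rcases hve with e2 | e2 <;> rw [e2]
      · exact e1
      · rw [← mul_assoc, h.xbar_central nb, mul_assoc (pr x _) nb, mul_assoc (pr x _), e1]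
    have h9 := h.pr_inj (a := (⟨n, hnC⟩ * ⟨s, hsC⟩ * ⟨n, hnC⟩⁻¹)⁻¹ * ⟨s, hsC⟩)
      ((S : Subgroup G).mul_mem ((S : Subgroup G).inv_mem hns) hs.1)
      (by rw [map_mul, map_inv, hfix, inv_mul_cancel])
    exact hn.move (h.fix_two hn.norm hx hs (Ne.symm hsx) hn.fix
      (congrArg Subtype.val (inv_mul_eq_one.1 h9)))
  have hv2 := h.pr_sq hvT
  have hw2 := h.pr_sq hwT
  have hwvc : w * v = v * w := by
    obtain ⟨a, ha, hae⟩ := hwT
    obtain ⟨b, hb, hbe⟩ := hvT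
    rw [← hae, ← hbe, ← map_mul, ← map_mul,
      show a * b = b * a from Subtype.ext (h.comm (mem_subgroupOf.1 ha) (mem_subgroupOf.1 hb))]
  have hDC : cor (centralizer (H : Set G)) ≤ Cg x := (cor_le _).trans (centralizer_line_le hxH)
  -- odd elements of `L` centralizing `v`
  have hodd : ∀ l ∈ L, Odd (orderOf l) → l * v = v * l → l * yb = yb * l := by
    intro l hlL hlo hlv
    haveI : Fact (Nat.Prime 2) := ⟨Nat.prime_two⟩
    have hls : l * pr x ⟨s, hsC⟩ = pr x ⟨s, hsC⟩ * l := (h.commute_of_part hve).2 hlv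
    set sC : ↥(Cg x) := ⟨s, hsC⟩ with hsCdef
    have hcent := Sig.centralizer_map_mk' (p := 2) (Cfsg.oddCore ↥(Cg x))
      (Nat.coprime_two_right.2 AbTwo.odd_oddCore) (P := zpowers sC) (IsPGroup.of_card (n := 1) (by
        rw [Nat.card_zpowers, ← Subgroup.orderOf_coe, pow_one]; exact h.orderOf_pt hs))
    rw [MonoidHom.map_zpowers, zpowers_eq_closure, zpowers_eq_closure, centralizer_closure,
      centralizer_closure] at hcent
    obtain ⟨c₀, hc₀, hc₀l⟩ : l ∈ (centralizer ({sC} : Set ↥(Cg x))).map (pr x) :=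
      hcent ▸ mem_centralizer_singleton_iff.2 hls
    have hcs : (c₀ : G) * s = s * c₀ := congrArg Subtype.val (mem_centralizer_singleton_iff.1 hc₀)
    have hcH : (c₀ : G) ∈ centralizer (H : Set G) := mem_centralizer_iff.2 fun t ht => by
      have h1 : (c₀ : G) * x = x * c₀ := mem_Cg.1 c₀.2
      rcases (h.line_pts hH hxH hsH hx.2 s1 (Ne.symm hsx)).1 ht with r | r | r | r <;> rw [r]
      · rw [one_mul, mul_one]
      · exact h1.symm
      · exact hcs.symm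
      · rw [mul_assoc, ← hcs, ← mul_assoc, ← h1, mul_assoc]
    obtain ⟨o, ho, s', hs', ec⟩ := h.two_nilp (h.sylow_le_centralizer_line hH.le) (h.fix_centralizer_line hH) hcH
    have hc2 : (c₀ : G) * c₀ ∈ cor (centralizer (H : Set G)) := by
      rw [ec, show o * s' * (o * s') = o * (s' * o * s'⁻¹) * (s' * s') by group, h.sq s' hs', mul_one]
      exact Subgroup.mul_mem _ ho
        ((mem_normalizer_iff.1 (le_normalizer_cor _ (h.sylow_le_centralizer_line hH.le hs')) o).1 ho)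
    obtain ⟨m, hm⟩ := hlo
    set d₀ : ↥(Cg x) := (c₀ * c₀) ^ (m + 1) with hd₀
    have hd₀D : (d₀ : G) ∈ cor (centralizer (H : Set G)) := by
      rw [hd₀, Subgroup.coe_pow, Subgroup.coe_mul]; exact Subgroup.pow_mem _ hc2 _
    have hd₀l : pr x d₀ = l := by
      rw [hd₀, map_pow, map_mul, hc₀l, ← pow_two, ← pow_mul, show 2 * (m + 1) = (2 * m + 1) + 1 by ring,
        pow_succ, ← hm, pow_orderOf_eq_one, one_mul]
    have hwl : (⟨w, hwL⟩ : L) * ⟨l, hlL⟩ * (⟨w, hwL⟩ : L)⁻¹ = (⟨l, hlL⟩ : L)⁻¹ :=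
      inverted e h38 h5 (v := ⟨v, hvL⟩) (Subtype.ext hv2) (fun he => hv1 (congrArg Subtype.val he))
        (Subtype.ext hw2) (fun he => hw1 (congrArg Subtype.val he))
        (fun he => hwv (congrArg Subtype.val he)) (Subtype.ext hwvc)
        (by rw [← Subgroup.orderOf_coe]; exact ⟨m, hm⟩) (Subtype.ext hlv)
    have hwl' : w * l * w⁻¹ = l⁻¹ := congrArg Subtype.val hwl
    obtain ⟨s₂, hs₂, hs₂w⟩ := hwT
    have hd : ⁅(d₀ : G), (s₂ : G)⁆ ∈ ⁅cor (centralizer (H : Set G)), (S : Subgroup G)⁆ :=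
      commutator_mem_commutator hd₀D (mem_subgroupOf.1 hs₂)
    have h10 : pr x ⁅⁅d₀, s₂⁆, ⟨y, hyC⟩⁆ = 1 := pr_eq_one.2 (hyd _ hd)
    rw [map_commutatorElement, map_commutatorElement, hd₀l, hs₂w,
      commutatorElement_eq_one_iff_mul_comm, ← hyb] at h10
    have hl2 : ⁅l, w⁆ = l * l := by
      rw [commutatorElement_def, show l * w * l⁻¹ * w⁻¹ = l * (w * l * w⁻¹)⁻¹ by group, hwl', inv_inv]
    rw [hl2] at h10
    have h11' : Commute (l * l) yb := h10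
    have e3 : (l * l) ^ (m + 1) = l := by
      rw [← pow_two, ← pow_mul, show 2 * (m + 1) = (2 * m + 1) + 1 by ring, pow_succ, ← hm,
        pow_orderOf_eq_one, one_mul]
    exact e3 ▸ (h11'.pow_left (m + 1)).eq
  intro l hlL
  set K := (centralizer ({yb} : Set (Qt x))).subgroupOf L with hK
  have hKmem : ∀ a : L, a ∈ K ↔ (a : Qt x) * yb = yb * a := fun a => by
    rw [hK, mem_subgroupOf, mem_centralizer_singleton_iff]
  have hKtop : K = ⊤ := by
    refine eq_top_of_cent e h38 h5 h11 (v := ⟨v, hvL⟩) (Subtype.ext hv2)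
      (fun he => hv1 (congrArg Subtype.val he)) (fun a ha => ?_) (r := ⟨σ, hσ⟩) ((hKmem _).2 hyσ) ?_
    · refine mem_of_cent e h38 h5 h11 (v := ⟨v, hvL⟩) (w := ⟨w, hwL⟩) (Subtype.ext hv2)
        (fun he => hv1 (congrArg Subtype.val he)) (Subtype.ext hw2)
        (fun he => hw1 (congrArg Subtype.val he)) (fun he => hwv (congrArg Subtype.val he))
        (Subtype.ext hwvc) ((hKmem _).2 (mem_centralizer_iff.1 hyT v hvT))
        ((hKmem _).2 (mem_centralizer_iff.1 hyT w hwT)) (fun b hb hbv => ?_) ha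
      exact (hKmem _).2 (hodd _ b.2 (by rwa [Subgroup.orderOf_coe]) (congrArg Subtype.val hbv))
    · intro he
      have h12 : σ * v = v * σ := congrArg Subtype.val he
      exact hwv (by rw [hw, h12, mul_inv_cancel_right])
  exact (hKmem ⟨l, hlL⟩).1 (by rw [hKtop]; exact mem_top _)

/-- If one point has a nonsolvable centralizer all have. -/
theorem not_solvable_all {t : G} (ht : Pt S t) (hns : ¬ Group.IsSolvable ↥(Cg t)) {a : G} (ha : Pt S a) :
    ¬ Group.IsSolvable ↥(Cg a) := by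
  obtain ⟨n, -, hn⟩ := h.trans ht ha
  intro hs
  haveI := hs
  refine hns ?_
  let e := (Cg t).equivMapOfInjective (MulAut.conj n).toMonoidHom (MulAut.conj n).injective
  have he : cj n (Cg t) = Cg a := by rw [cj_Cg, hn]
  exact Group.isSolvable_of_isSolvable_injective
    (f := ((MulEquiv.subgroupCongr he).toMonoidHom.comp e.toMonoidHom))
    ((MulEquiv.subgroupCongr he).injective.comp e.injective)

theorem torus {t : G} (ht : Pt S t) (hns : ¬ Group.IsSolvable ↥(Cg t)) : Torus S := by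
  intro p hp hp2 x hx Q hQ hQp hQS
  obtain ⟨hxC, L, hM⟩ := h.exists_centModel hx (h.not_solvable_all ht hns hx)
  exact h.torus_at hM hx hp hp2 hQ hQp hQS

theorem torusFix {t : G} (ht : Pt S t) (hns : ¬ Group.IsSolvable ↥(Cg t)) : TorusFix S := by
  intro x hx H hH hxH
  obtain ⟨hxC, L, hM⟩ := h.exists_centModel hx (h.not_solvable_all ht hns hx)
  exact h.torusFix_at hM hx hH hxH

theorem faithful {t : G} (ht : Pt S t) (hns : ¬ Group.IsSolvable ↥(Cg t)) : Faithful S := by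
  intro x hx H hH hxH y hy hyd
  obtain ⟨hxC, L, hM⟩ := h.exists_centModel hx (h.not_solvable_all ht hns hx)
  exact h.faithful_at hM hx hH hxH hy hyd

end Hyp

end Cfsg.Lib.Walter3
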