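import Cfsg.Agent.Lib.Walter3.Coprime
import Cfsg.Agent.Lib.ZStar.Main

/-!
# Subgroups whose normalizing elements fix a point

If the elements of `Y ≥ S` normalizing `S` fix `w`, then `Y = O(Y) C_Y(w)` and every invariant
`p`-subgroup lies in one of three odd subgroups attached to the lines through `w`.
-/

set_option autoImplicit false
set_option linter.unusedSectionVars false
set_option linter.style.haveILetI false

namespace Cfsg.Lib.Walter3

open Subgroup Cfsg
open scoped commutatorElement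

universe u

variable {G : Type u} [Group G] [Finite G] {S : Sylow 2 G}

/-- The odd subgroup attached to a line. -/
noncomputable def OH (Y H : Subgroup G) : Subgroup G := cor Y ⊔ (cor (centralizer (H : Set G)) ⊓ Y)

theorem OH_le (Y H : Subgroup G) : OH Y H ≤ Y := sup_le (cor_le Y) inf_le_right

theorem odd_OH (Y H : Subgroup G) : Odd (Nat.card (OH Y H)) :=
  odd_sup (inf_le_right.trans (le_normalizer_cor Y)) (odd_cor Y)
    (odd_of_le inf_le_left (odd_cor _))

namespace Hyp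

variable (h : Hyp S)
include h

theorem norm_OH {Y H : Subgroup G} (hSY : (S : Subgroup G) ≤ Y) (hH : H ≤ (S : Subgroup G)) :
    (S : Subgroup G) ≤ normalizer (OH Y H : Set G) :=
  (le_inf (hSY.trans (le_normalizer_cor Y))
    (le_normalizer_inf ((h.sylow_le_centralizer_line hH).trans (le_normalizer_cor _))
      (hSY.trans le_normalizer))).trans (Subgroup.normalizer_inf_normalizer_le_normalizer_sup _ _)

theorem cor_commutator {Y : Subgroup G} (hSY : (S : Subgroup G) ≤ Y) {w : G} (hw : Pt S w)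
    (hfix : FixAt S Y w) {y : G} (hy : y ∈ Y) : w * y * w⁻¹ * y⁻¹ ∈ cor Y := by
  haveI : Fact (Nat.Prime 2) := ⟨Nat.prime_two⟩
  have hwY : w ∈ Y := hSY hw.1
  have hiso : IsIsolatedInvolution (⟨w, hwY⟩ : Y) := by
    refine ⟨by rw [← Subgroup.orderOf_coe]; exact h.orderOf_pt hw, ?_⟩
    intro g hg
    set x := (g : G) * w * (g : G)⁻¹ with hx
    have hxw : w * x = x * w := congrArg Subtype.val hg
    have hxY : x ∈ Y := mul_mem (mul_mem g.2 hwY) (inv_mem g.2)
    have hxsq : x * x = 1 := by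
      rw [hx, show (g : G) * w * (g : G)⁻¹ * (g * w * (g : G)⁻¹) = g * (w * w) * (g : G)⁻¹ by group,
        h.sq w hw.1]; group
    -- move `x` into `S` inside the centralizer of `w`
    set C := Y ⊓ Cg w with hC
    have hSC : (S : Subgroup G) ≤ C := le_inf hSY (h.le_Cg hw.1)
    let xC : C := ⟨x, hxY, mem_Cg.2 hxw.symm⟩
    have hxp : IsPGroup 2 (zpowers xC) := by
      refine fun z => ⟨1, ?_⟩
      obtain ⟨k, hk⟩ := z.2
      refine Subtype.ext ?_
      show (z : C) ^ (2 ^ 1) = 1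
      rw [← hk, pow_one, ← zpow_natCast, ← zpow_mul, mul_comm, zpow_mul, zpow_natCast]
      have : xC ^ 2 = 1 := Subtype.ext (by show x ^ 2 = 1; rw [pow_two, hxsq])
      rw [this, one_zpow]
    obtain ⟨T, hT⟩ := hxp.exists_le_sylow
    obtain ⟨c, hc⟩ := MulAction.exists_smul_eq C T (S.subtype hSC)
    have hcx : (c : G) * x * (c : G)⁻¹ ∈ (S : Subgroup G) := by
      have h1 : c * xC * c⁻¹ ∈ ((c • T : Sylow 2 C) : Subgroup C) := by
        rw [Sylow.coe_subgroup_smul]; exact ⟨xC, hT (mem_zpowers xC), rfl⟩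
      rw [hc] at h1
      exact mem_subgroupOf.1 h1
    have hcgY : (c : G) * g ∈ Y := mul_mem c.2.1 g.2
    obtain ⟨n, hnY, hnS, e⟩ := h.conj_in hSY hw.1 hcgY (by
      have : (c : G) * g * w * ((c : G) * g)⁻¹ = c * x * (c : G)⁻¹ := by rw [hx]; group
      rwa [this])
    have e2 : (c : G) * g * w * ((c : G) * g)⁻¹ = w := e.symm.trans (hfix n hnY hnS)
    refine Subtype.ext ?_
    show x = w
    have hcw : (c : G) * w = w * c := mem_Cg.1 c.2.2
    calc x = (c : G)⁻¹ * ((c : G) * g * w * ((c : G) * g)⁻¹) * c := by rw [hx]; group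
      _ = (c : G)⁻¹ * (w * c) := by rw [e2]; group
      _ = w := by rw [← hcw]; group
  exact ⟨_, ZStar.zStarHolds Y ⟨w, hwY⟩ hiso ⟨y, hy⟩, rfl⟩

theorem factor {Y : Subgroup G} (hSY : (S : Subgroup G) ≤ Y) {w : G} (hw : Pt S w)
    (hfix : FixAt S Y w) {y : G} (hy : y ∈ Y) :
    ∃ o ∈ cor Y, ∃ c ∈ Y ⊓ Cg w, y = o * c := by
  have hu : y * w * y⁻¹ * w⁻¹ ∈ cor Y := by
    have := inv_mem (h.cor_commutator hSY hw hfix hy)
    simpa [mul_assoc] using this
  have hw2 := h.sq w hw.1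
  have h1 : (y * w * y⁻¹ * w⁻¹) * w * ((y * w * y⁻¹ * w⁻¹) * w) = 1 := by
    calc (y * w * y⁻¹ * w⁻¹) * w * ((y * w * y⁻¹ * w⁻¹) * w) = y * (w * w) * y⁻¹ := by group
      _ = 1 := by rw [hw2]; group
  obtain ⟨o, ho, e⟩ := exists_conj_inverted (odd_cor Y) hu hw2 h1
  refine ⟨o, ho, o⁻¹ * y, ⟨Y.mul_mem (Y.inv_mem (cor_le Y ho)) hy, mem_Cg.2 ?_⟩, by group⟩
  have e' : o * w * o⁻¹ = y * w * y⁻¹ := e.trans (by group)
  calc o⁻¹ * y * w = o⁻¹ * (y * w * y⁻¹) * y := by group
    _ = o⁻¹ * (o * w * o⁻¹) * y := by rw [e']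
    _ = w * (o⁻¹ * y) := by group

/-- The odd core of the centralizer of the fixed point lies in the odd core. -/
theorem Og_inf_le {Y : Subgroup G} (hSY : (S : Subgroup G) ≤ Y) {w : G} (hw : Pt S w)
    (hfix : FixAt S Y w) : Og w ⊓ Y ≤ cor Y := by
  set K := cor Y ⊔ (Og w ⊓ Y) with hK
  have hKY : K ≤ Y := sup_le (cor_le Y) inf_le_right
  have hodd : Odd (Nat.card K) := odd_sup (inf_le_right.trans (le_normalizer_cor Y)) (odd_cor Y)
    (odd_of_le inf_le_left (odd_cor _))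
  refine le_sup_right.trans (le_cor hKY hodd fun y hy => ?_)
  obtain ⟨o, ho, c, hc, rfl⟩ := h.factor hSY hw hfix hy
  refine mul_mem (le_normalizer (mem_sup_left ho)) ((Subgroup.normalizer_inf_normalizer_le_normalizer_sup _ _) ?_)
  exact ⟨le_normalizer_cor Y hc.1, Subgroup.inf_normalizer_le_normalizer_inf
    ⟨le_normalizer_cor _ hc.2, le_normalizer hc.1⟩⟩

/-- Modulo the odd core an invariant `p`-subgroup is centralized by a line through `w`. -/
theorem cover (hT : Torus S) {Y : Subgroup G} (hSY : (S : Subgroup G) ≤ Y) {w : G} (hw : Pt S w)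
    (hfix : FixAt S Y w) {p : ℕ} [hp : Fact p.Prime] (hp2 : p ≠ 2) {Q : Subgroup G}
    (hQ : Inv p S Y Q) :
    ∃ H, IsLine (S : Subgroup G) H ∧ w ∈ H ∧ ⁅Q, H⁆ ≤ cor Y := by
  have hodd := odd_of_pGroup hp.out hp2 hQ.pgrp
  set Q' := Q ⊓ Cg w with hQ'
  obtain ⟨H, hH, hwH, hQH⟩ := hT p hp.out hp2 w hw Q' inf_le_right (hQ.pgrp.to_le inf_le_left)
    (le_normalizer_inf hQ.norm ((h.le_Cg hw.1).trans le_normalizer))
  refine ⟨H, hH, hwH, commutator_le.2 fun q hq x hx => ?_⟩
  have hA : zpowers w ≤ (S : Subgroup G) := zpowers_le.2 hw.1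
  have hcm : ∀ a ∈ zpowers w, ⁅q, a⁆ ∈ Q ⊓ cor Y := by
    intro a ha
    refine ⟨?_, ?_⟩
    · exact Coprime.commutator_le_of_le_normalizer (hA.trans hQ.norm)
        (commutator_mem_commutator hq ha)
    · have hle : zpowers w ≤ ({ carrier := {a | a ∈ Y ∧ ⁅q, a⁆ ∈ cor Y}
                                one_mem' := ⟨one_mem _, by simp⟩
                                mul_mem' := by
                                  rintro a b ⟨ha, ha'⟩ ⟨hb, hb'⟩
                                  refine ⟨mul_mem ha hb, ?_⟩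
                                  rw [show ⁅q, a * b⁆ = ⁅q, a⁆ * (a * ⁅q, b⁆ * a⁻¹) by
                                    simp only [commutatorElement_def]; group]
                                  exact mul_mem ha'
                                    ((mem_normalizer_iff.1 (le_normalizer_cor Y ha) _).1 hb')
                                inv_mem' := by
                                  rintro a ⟨ha, ha'⟩
                                  refine ⟨inv_mem ha, ?_⟩
                                  rw [show ⁅q, a⁻¹⁆ = a⁻¹ * ⁅q, a⁆⁻¹ * (a⁻¹)⁻¹ by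
                                    simp only [commutatorElement_def]; group]
                                  exact (mem_normalizer_iff.1 (le_normalizer_cor Y (inv_mem ha)) _).1
                                    (inv_mem ha') } : Subgroup G) := by
        rw [zpowers_le]
        refine ⟨hSY hw.1, ?_⟩
        have := inv_mem (h.cor_commutator hSY hw hfix (hQ.le hq))
        simpa [commutatorElement_def, mul_assoc] using this
      exact (hle ha).2
  obtain ⟨n, hn, c, hc, rfl⟩ := Coprime.exists_mul_centralizer_of_commutator_mem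
    (G := Q) (A := zpowers w) (hA.trans hQ.norm)
    ((h.coprime_odd hodd).coprime_dvd_left (card_dvd_of_le hA))
    (Or.inl (Group.isSolvable_of_comm fun a b => Subtype.ext (h.comm (hA a.2) (hA b.2))))
    inf_le_left
    ((le_inf (hA.trans hQ.norm) ((hA.trans hSY).trans (le_normalizer_cor Y))).trans
      inf_normalizer_le_normalizer_inf) hq hcm
  have hc' : c ∈ Q' := ⟨hc.1, mem_centralizer_iff.2 fun y hy => by
    rw [Set.mem_singleton_iff.1 hy]; exact mem_centralizer_iff.1 hc.2 w (mem_zpowers w)⟩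
  have h1 : ⁅c, x⁆ ∈ cor Y := h.Og_inf_le hSY hw hfix ⟨hQH (commutator_mem_commutator hc' hx),
    by
      rw [commutatorElement_def]
      exact Y.mul_mem (Y.mul_mem (Y.mul_mem (hQ.le hc.1) (hSY (hH.le hx))) (Y.inv_mem (hQ.le hc.1)))
        (Y.inv_mem (hSY (hH.le hx)))⟩
  rw [show ⁅n * c, x⁆ = n * ⁅c, x⁆ * n⁻¹ * (n * (x * n⁻¹ * x⁻¹)) by
    simp only [commutatorElement_def]; group]
  exact (cor Y).mul_mem ((cor Y).mul_mem ((cor Y).mul_mem hn.2 h1) ((cor Y).inv_mem hn.2))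
    ((cor Y).mul_mem hn.2
      ((mem_normalizer_iff.1 (le_normalizer_cor Y (hSY (hH.le hx))) _).1 ((cor Y).inv_mem hn.2)))

theorem le_OH {Y H Q : Subgroup G} (hSY : (S : Subgroup G) ≤ Y) (hH : H ≤ (S : Subgroup G))
    (hHfix : ∀ n ∈ centralizer (H : Set G), n ∈ normalizer ((S : Subgroup G) : Set G) →
      n ∈ centralizer ((S : Subgroup G) : Set G)) (hodd : Odd (Nat.card Q)) (hQY : Q ≤ Y) (hQ : (S : Subgroup G) ≤ normalizer (Q : Set G))
    (hQH : ⁅Q, H⁆ ≤ cor Y) : Q ≤ OH Y H := by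
  intro q hq
  obtain ⟨n, hn, c, hc, rfl⟩ := Coprime.exists_mul_centralizer_of_commutator_mem
    (G := Q) (A := H) (hH.trans hQ) ((h.coprime_odd hodd).coprime_dvd_left (card_dvd_of_le hH))
    (Or.inl (Group.isSolvable_of_comm fun a b => Subtype.ext (h.comm (hH a.2) (hH b.2))))
    inf_le_left
    ((le_inf (hH.trans hQ) ((hH.trans hSY).trans (le_normalizer_cor Y))).trans
      inf_normalizer_le_normalizer_inf) hq
    (fun a ha => ⟨Coprime.commutator_le_of_le_normalizer (hH.trans hQ)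
      (commutator_mem_commutator hq ha), hQH (commutator_mem_commutator hq ha)⟩)
  refine mul_mem (mem_sup_left hn.2) (mem_sup_right ⟨?_, hQY hc.1⟩)
  exact h.le_cor_of_two_nilp (h.sylow_le_centralizer_line hH) hHfix
    (K := Q ⊓ centralizer (H : Set G)) inf_le_right (odd_of_le inf_le_left hodd) hc

theorem cj_OH {Y H : Subgroup G} {n : G} (hn : n ∈ Y) : cj n (OH Y H) = OH Y (cj n H) := by
  rw [OH, OH, cj, Subgroup.map_sup, map_inf _ _ _ (MulAut.conj n).injective]
  change cj n (cor Y) ⊔ cj n (cor (centralizer (H : Set G))) ⊓ cj n Y = _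
  rw [cj_eq_self (le_normalizer hn), cj_eq_self (le_normalizer_cor Y hn), cj_cor, cj_centralizer]

theorem maxIn_cj {p : ℕ} {K Q : Subgroup G} {n : G}
    (hn : n ∈ normalizer ((S : Subgroup G) : Set G)) (hQ : MaxIn p S K Q) :
    MaxIn p S (cj n K) (cj n Q) := by
  refine ⟨⟨cj_mono hQ.le, pGroup_cj hQ.pgrp n, norm_cj hn hQ.norm⟩, fun R hR hle => ?_⟩
  have h1 : Inv p S K (cj n⁻¹ R) := ⟨(cj_mono hR.le).trans (cj_inv_cj n K).le, pGroup_cj hR.pgrp _,
    norm_cj (inv_mem hn) hR.norm⟩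
  have h2 := hQ.max _ h1 (by rw [← cj_inv_cj n Q]; exact cj_mono hle)
  rw [← h2, cj_cj, mul_inv_cancel, cj_one]

/-- Maximal invariant `p`-subgroups are conjugate by elements of `Y` normalizing `S`. -/
theorem conj_maxIn_fix (hT : Torus S) {Y : Subgroup G} (hSY : (S : Subgroup G) ≤ Y) {w : G}
    (hw : Pt S w) (hfix : FixAt S Y w) {p : ℕ} [hp : Fact p.Prime] (hp2 : p ≠ 2) {Q R : Subgroup G}
    (hQ : MaxIn p S Y Q) (hR : MaxIn p S Y R) :
    ∃ γ ∈ Y, γ ∈ normalizer ((S : Subgroup G) : Set G) ∧ cj γ Q = R := by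
  by_cases hrot : ∀ n ∈ Y, n ∈ normalizer ((S : Subgroup G) : Set G) →
      n ∈ centralizer ((S : Subgroup G) : Set G)
  · have hle : ∀ {T : Subgroup G}, MaxIn p S Y T → MaxIn p S (cor Y) T := fun {T} hT' =>
      ⟨⟨h.le_cor_of_two_nilp hSY hrot hT'.le (odd_of_pGroup hp.out hp2 hT'.pgrp), hT'.pgrp, hT'.norm⟩,
        fun U hU => hT'.max U (hU.mono (cor_le Y))⟩
    obtain ⟨c, hc, hcS, e⟩ := h.conj_maxIn (odd_cor Y) (hSY.trans (le_normalizer_cor Y)) (hle hQ) (hle hR)
    exact ⟨c, cor_le Y hc, centralizer_le_normalizer_S hcS, e⟩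
  push Not at hrot
  obtain ⟨n, hnY, hnS, hnc⟩ := hrot
  have hn : Rot S n w := ⟨hnS, hfix n hnY hnS, hnc⟩
  obtain ⟨H, hH, hwH, hQH⟩ := h.cover hT hSY hw hfix hp2 hQ.toInv
  obtain ⟨K, hK, hwK, hRK⟩ := h.cover hT hSY hw hfix hp2 hR.toInv
  obtain ⟨k, hk⟩ := h.lines_through hn hw hH hK hwH hwK
  have hnkY : n ^ k ∈ Y := pow_mem hnY k
  have hnkS := pow_mem hnS k
  have hQ1 : MaxIn p S Y (cj (n ^ k) Q) :=
    cj_eq_self (le_normalizer hnkY) ▸ h.maxIn_cj hnkS hQ
  have hle1 : cj (n ^ k) Q ≤ OH Y K := by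
    rw [← hk, ← h.cj_OH hnkY]
    exact cj_mono (h.le_OH hSY hH.le (h.fix_centralizer_line hH) (odd_of_pGroup hp.out hp2 hQ.pgrp) hQ.le hQ.norm hQH)
  have m1 : MaxIn p S (OH Y K) (cj (n ^ k) Q) :=
    ⟨⟨hle1, hQ1.pgrp, hQ1.norm⟩, fun U hU => hQ1.max U (hU.mono (OH_le Y K))⟩
  have m2 : MaxIn p S (OH Y K) R :=
    ⟨⟨h.le_OH hSY hK.le (h.fix_centralizer_line hK) (odd_of_pGroup hp.out hp2 hR.pgrp) hR.le hR.norm hRK, hR.pgrp, hR.norm⟩,
      fun U hU => hR.max U (hU.mono (OH_le Y K))⟩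
  obtain ⟨c, hc, hcS, e⟩ := h.conj_maxIn (odd_OH Y K) (h.norm_OH hSY hK.le) m1 m2
  exact ⟨c * n ^ k, mul_mem (OH_le Y K hc) hnkY, mul_mem (centralizer_le_normalizer_S hcS) hnkS,
    by rw [← cj_cj, e]⟩

end Hyp

end Cfsg.Lib.Walter3
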