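import Cfsg.Agent.Lib.Walter3.Pieces
import Cfsg.Agent.Lib.Walter3.Local
import Cfsg.Agent.S0217

/-!
# The completion of the functor `a ↦ O(C(a))`

Given balance, the group `W` generated by the `O(C(a))` has odd order, meets `C(a)` in `O(C(a))` and
is normalized by `N(S)` and the centralizers of the lines. If every odd `S`-invariant subgroup of
each `C(a)` lies in `O(C(a))`, it is normalized by every `C(t)`.
-/

set_option autoImplicit false
set_option linter.unusedSectionVars false
set_option linter.style.haveILetI false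

namespace Cfsg.Lib.Walter3

open Subgroup Cfsg

universe u

variable {G : Type u} [Group G] [Finite G]

/-- The completion. -/
noncomputable def compl3 (S : Sylow 2 G) : Subgroup G :=
  ⨆ a : {a : G // a ∈ (S : Subgroup G) ∧ a ≠ 1}, Og (a : G)

/-- Balance of the odd cores. -/
def Balanced (S : Sylow 2 G) : Prop := ∀ a b, Pt S a → Pt S b → Og a ⊓ Cg b ≤ Og b

variable {S : Sylow 2 G}

namespace Hyp

variable (h : Hyp S) (hbal : Balanced S)
include h hbal

theorem compl3_facts :
    Odd (Nat.card (compl3 S)) ∧ ∀ a, Pt S a → compl3 S ⊓ Cg a = Og a := by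
  haveI : Fact (Nat.Prime 2) := ⟨Nat.prime_two⟩
  have hodd : ∀ a : G, ¬ 2 ∣ Nat.card (Og a) := fun a h2 => by
    have h1 := odd_cor (Cg a)
    obtain ⟨k, hk⟩ := h1
    have h3 : Nat.card (Og a) = 2 * k + 1 := hk
    omega
  obtain ⟨h1, h2⟩ := Cfsg.Agent.S0217.result (S : Subgroup G) (fun a ha b hb => h.comm ha hb)
    (fun a ha => by rw [pow_two]; exact h.sq a ha) (by rw [h.card]; norm_num) (fun a => Og a)
    (fun a _ _ => cor_le _) (fun a _ _ => hodd a)
    (fun a ha _ b hb x hx => (mem_normalizer_iff.1 (le_normalizer_cor (Cg a) (h.le_Cg ha hb)) x).1 hx)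
    (fun a _ _ => WalterBig.isSolvable_of_odd_card (odd_cor _))
    (fun a ha a1 b hb b1 => hbal a b ⟨ha, a1⟩ ⟨hb, b1⟩)
  exact ⟨Nat.odd_iff.2 (by
    have h1' : ¬ 2 ∣ Nat.card (compl3 S) := h1
    omega), fun a ha => h2 a ha.1 ha.2⟩

omit h hbal in
theorem Og_le_compl3 {a : G} (ha : Pt S a) : Og a ≤ compl3 S :=
  le_iSup (fun a : {a : G // a ∈ (S : Subgroup G) ∧ a ≠ 1} => Og (a : G)) ⟨a, ha⟩

omit hbal in
theorem normalizer_le_compl3 :
    normalizer ((S : Subgroup G) : Set G) ≤ normalizer (compl3 S : Set G) := by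
  intro n hn
  refine mem_normalizer_of_cj_eq (eq_of_le_of_card_ge ?_ (by rw [card_cj]))
  rw [cj, compl3, Subgroup.map_iSup]
  refine iSup_le fun a => ?_
  rw [show (Og (a : G)).map (MulAut.conj n).toMonoidHom = cj n (Og a) from rfl, cj_Og]
  exact Og_le_compl3 (h.conj_pt hn a.2)

omit hbal in
theorem sylow_le_compl3 : (S : Subgroup G) ≤ normalizer (compl3 S : Set G) :=
  (le_normalizer).trans h.normalizer_le_compl3

omit hbal in
/-- An odd invariant subgroup is generated by its fixed points at the points. -/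
theorem le_of_pieces {Q K : Subgroup G} (hn : (S : Subgroup G) ≤ normalizer (Q : Set G))
    (hQ : Odd (Nat.card Q)) (hK : ∀ a, Pt S a → Q ⊓ Cg a ≤ K) : Q ≤ K := by
  haveI := h.isMulCommutative
  have hcyc : ¬ IsCyclic (S : Subgroup G) := fun hc => by
    obtain ⟨g, hg⟩ := hc.exists_generator
    have h1 := orderOf_eq_card_of_forall_mem_zpowers hg
    have h2 : orderOf g ∣ 2 := orderOf_dvd_of_pow_eq_one (by rw [pow_two]; exact Subtype.ext (h.sq g g.2))
    rw [h1, h.card] at h2
    norm_num at h2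
  exact (Cfsg.Lib.Coprime.le_iSup_centralizer_of_not_isCyclic hcyc hn (h.coprime_odd hQ)).trans
    (iSup_le fun a => hK a a.2)

omit hbal in
theorem le_compl3 {Q : Subgroup G} (hn : (S : Subgroup G) ≤ normalizer (Q : Set G)) (hQ : Odd (Nat.card Q))
    (hK : ∀ a, Pt S a → Q ⊓ Cg a ≤ Og a) : Q ≤ compl3 S :=
  h.le_of_pieces hn hQ fun a ha => (hK a ha).trans (Og_le_compl3 ha)

theorem cent_line_le {H : Subgroup G} (hH : IsLine (S : Subgroup G) H) :
    centralizer (H : Set G) ≤ normalizer (compl3 S : Set G) := by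
  obtain ⟨hodd, hfix⟩ := h.compl3_facts hbal
  haveI : IsMulCommutative H := ⟨⟨fun a b => Subtype.ext (h.comm (hH.le a.2) (hH.le b.2))⟩⟩
  have hcyc : ¬ IsCyclic H := fun hc => by
    obtain ⟨g, hg⟩ := hc.exists_generator
    have h1 := orderOf_eq_card_of_forall_mem_zpowers hg
    have h2 : orderOf g ∣ 2 := orderOf_dvd_of_pow_eq_one
      (by rw [pow_two]; exact Subtype.ext (h.sq g (hH.le g.2)))
    rw [h1, hH.card] at h2
    norm_num at h2
  have hgen := Cfsg.Lib.Coprime.le_iSup_centralizer_of_not_isCyclic (A := H) (G := compl3 S) hcyc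
    (hH.le.trans h.sylow_le_compl3)
    (by rw [hH.card, show (4 : ℕ) = 2 ^ 2 by norm_num]; exact (Nat.coprime_two_left.2 hodd).pow_left 2)
  intro c hc
  refine mem_normalizer_of_cj_eq (eq_of_le_of_card_ge ?_ (by rw [card_cj]))
  refine (cj_mono hgen).trans ?_
  rw [cj, Subgroup.map_iSup]
  refine iSup_le fun a => ?_
  have hp : Pt S (a : G) := ⟨hH.le a.2.1, a.2.2⟩
  rw [show (compl3 S ⊓ Cg (a : G)).map (MulAut.conj c).toMonoidHom = cj c (compl3 S ⊓ Cg (a : G)) from rfl,
    hfix a hp, cj_eq_self (le_normalizer_cor (Cg (a : G))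
      (mem_Cg.2 (mem_centralizer_iff.1 hc a a.2.1).symm))]
  exact Og_le_compl3 hp

theorem compl3_ne_top : compl3 S ≠ ⊤ := fun e => by
  obtain ⟨k, hk⟩ := (h.compl3_facts hbal).1
  have h8 := card_subgroup_dvd_card (S : Subgroup G)
  rw [h.card, ← Subgroup.card_top (G := G), ← e] at h8
  omega

/-- If odd invariant subgroups of the centralizers lie in the cores, `W` is normalized by `C(t)`. -/
theorem cent_le_of_small (ih : CentBelow.{u} (Nat.card G))
    (hsmall : ∀ a, Pt S a → ∀ R : Subgroup G, R ≤ Cg a → (S : Subgroup G) ≤ normalizer (R : Set G) →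
      Odd (Nat.card R) → R ≤ Og a)
    {t : G} (ht : Pt S t) (hns : ¬ Group.IsSolvable ↥(Cg t)) : Cg t ≤ normalizer (compl3 S : Set G) := by
  classical
  haveI := h.simple
  obtain ⟨hWodd, hWfix⟩ := h.compl3_facts hbal
  set W := compl3 S with hW
  have hSW : (S : Subgroup G) ≤ normalizer (W : Set G) := h.sylow_le_compl3
  -- every odd invariant subgroup lies in `W`
  have hall : ∀ Q : Subgroup G, (S : Subgroup G) ≤ normalizer (Q : Set G) → Odd (Nat.card Q) → Q ≤ W :=
    fun Q hn hQ => h.le_compl3 hn hQ fun a ha => hsmall a ha _ inf_le_right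
      (Cfsg.Lib.Walter3.Hyp.le_normalizer_inf hn ((h.le_Cg ha.1).trans le_normalizer))
      (odd_of_le inf_le_left hQ)
  intro g hg
  refine mem_normalizer_of_cj_eq ?_
  suffices hle : W ≤ cj g W from (eq_of_le_of_card_ge hle (by rw [card_cj])).symm
  -- it suffices to find a Sylow subgroup of `W` in `cj g W` for each prime
  have hp : ∀ p : ℕ, p.Prime → p ∣ Nat.card W →
      p ^ (Nat.card W).factorization p ∣ Nat.card ↥(W ⊓ cj g W) := by
    intro p hp hpd
    haveI := Fact.mk hp
    let Good : Subgroup G → Prop := fun X => IsPGroup p X ∧ X ≠ ⊥ ∧ X ≤ W ∧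
      (S : Subgroup G) ≤ normalizer (X : Set G) ∧
      ∀ c ∈ Cg t, ∃ n ∈ normalizer (X : Set G), n ∈ Cg t ∧ ∃ o ∈ Og t, c = n * o
    have hST : (S : Subgroup G) ≤ normalizer (Og t : Set G) :=
      (h.le_Cg ht.1).trans (le_normalizer_cor _)
    -- the start: a Sylow subgroup of `O_t`
    obtain ⟨P, hP⟩ := Cfsg.Lib.Coprime.exists_invariant_sylow hST (h.coprime_odd (odd_cor _))
      (Or.inl h.solvable_S) p
    set X₀ := (P : Subgroup (Og t)).map (Og t).subtype with hX₀
    have hzt : zpowers t ≤ (S : Subgroup G) := zpowers_le.2 ht.1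
    have hztC : ∀ {c : G}, c ∈ centralizer ((zpowers t : Subgroup G) : Set G) → c ∈ Cg t := fun {c} hc =>
      mem_Cg.2 (mem_centralizer_iff.1 hc t (mem_zpowers t)).symm
    have hcop : ∀ {K : Subgroup G}, Odd (Nat.card K) → (Nat.card (zpowers t)).Coprime (Nat.card K) :=
      fun {K} hK => by rw [Nat.card_zpowers, h.orderOf_pt ht]; exact Nat.coprime_two_left.2 hK
    have hinvt : ∀ {n : G} {X : Subgroup G}, n ∈ Cg t → (S : Subgroup G) ≤ normalizer (X : Set G) →
        zpowers t ≤ normalizer (cj n X : Set G) := by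
      intro n X hn hX
      rw [zpowers_le]
      refine mem_normalizer_of_cj_eq ?_
      rw [cj_cj, show t * n = n * t from (mem_Cg.1 hn).symm, ← cj_cj, cj_eq_self (hX ht.1)]
    have hstep : ∀ {K : Subgroup G}, Odd (Nat.card K) → K ⊓ Cg t ≤ Og t →
        (S : Subgroup G) ≤ normalizer (K : Set G) → ∀ Q : Sylow p K,
        (S : Subgroup G) ≤ normalizer (((Q : Subgroup K).map K.subtype : Subgroup G) : Set G) →
        ∀ n ∈ Cg t, n ∈ normalizer (K : Set G) →
          ∃ m ∈ normalizer (((Q : Subgroup K).map K.subtype : Subgroup G) : Set G), m ∈ Cg t ∧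
            ∃ o ∈ Og t, n = m * o := by
      intro K hK hKt hSK Q hQ n hnC hnK
      obtain ⟨Q', hQ'⟩ := Cfsg.Lib.Coprime.exists_sylow_eq_conj Q hnK
      obtain ⟨k, hk, e⟩ := Cfsg.Lib.Coprime.exists_centralizer_conj_sylow (hzt.trans hSK) (hcop hK)
        (Or.inl inferInstance) Q Q' (hzt.trans hQ) (hQ' ▸ hinvt hnC hQ)
      rw [hQ'] at e
      have hk' : k ∈ Og t := hKt ⟨hk.1, hztC hk.2⟩
      refine ⟨k⁻¹ * n, mem_normalizer_of_cj_eq ?_, mul_mem (inv_mem (cor_le _ hk')) hnC,
        n⁻¹ * k * n, ?_, by group⟩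
      · rw [← cj_cj]
        show cj k⁻¹ (((Q : Subgroup K).map K.subtype).map (MulAut.conj n).toMonoidHom) = _
        rw [e]
        exact cj_inv_cj k _
      · have := (mem_normalizer_iff.1 (le_normalizer_cor (Cg t) (inv_mem hnC)) k).1 hk'
        rwa [inv_inv] at this
    have hX₀ne : X₀ ≠ ⊥ := by
      intro e0
      have hpO : ∀ a, Pt S a → ¬ p ∣ Nat.card (Og a) := by
        intro a ha hd
        obtain ⟨n, hn, e⟩ := h.trans ht ha
        rw [← e, ← cj_Og, card_cj] at hd
        have := P.dvd_card_of_dvd_card hd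
        rw [← Subgroup.card_map_of_injective (Og t).subtype_injective, ← hX₀, e0, card_bot] at this
        exact hp.not_dvd_one this
      obtain ⟨R, hR⟩ := Cfsg.Lib.Coprime.exists_invariant_sylow hSW (h.coprime_odd hWodd)
        (Or.inl h.solvable_S) p
      set R' := (R : Subgroup W).map W.subtype with hR'
      have hRbot : R' ≤ ⊥ := h.le_of_pieces hR (odd_of_le (map_subtype_le _) hWodd) fun a ha => by
        have h1 : R' ⊓ Cg a ≤ Og a := (inf_le_inf_right _ (map_subtype_le _)).trans (hWfix a ha).le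
        rw [le_bot_iff]
        obtain ⟨j, hj⟩ := IsPGroup.iff_card.1 ((R.2.map W.subtype).to_le (inf_le_left : R' ⊓ Cg a ≤ R'))
        refine eq_bot_of_card_eq _ ?_
        rcases Nat.eq_zero_or_pos j with rfl | hj0
        · simpa using hj
        · exact absurd ((dvd_pow_self p hj0.ne').trans (hj ▸ card_dvd_of_le h1)) (hpO a ha)
      have := R.dvd_card_of_dvd_card hpd
      rw [← Subgroup.card_map_of_injective W.subtype_injective, ← hR', le_bot_iff.1 hRbot, card_bot] at this
      exact hp.not_dvd_one this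
    have hgood₀ : Good X₀ := by
      refine ⟨P.2.map _, hX₀ne, (map_subtype_le _).trans (Og_le_compl3 ht), hP, fun c hc => ?_⟩
      exact hstep (odd_cor _) inf_le_left hST P hP c hc (le_normalizer_cor _ hc)
    obtain ⟨X, hX, hmax⟩ := (Set.toFinite {X : Subgroup G | Good X}).exists_maximalFor
      (fun X : Subgroup G => Nat.card X) _ ⟨X₀, hgood₀⟩
    obtain ⟨hXp, hXne, hXW, hSX, hXcov⟩ := hX
    -- `X` is a Sylow subgroup of `W`
    have hXcard : Nat.card X = p ^ (Nat.card W).factorization p := by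
      obtain ⟨k, hk⟩ := IsPGroup.iff_card.1 hXp
      have hkle : k ≤ (Nat.card W).factorization p :=
        (hp.pow_dvd_iff_le_factorization Nat.card_pos.ne').1 (hk ▸ card_dvd_of_le hXW)
      rw [hk]
      by_contra hne
      have hklt : k < (Nat.card W).factorization p := lt_of_le_of_ne hkle fun e => hne (by rw [e])
      set Y := normalizer (X : Set G) with hY
      have hYtop : Y ≠ ⊤ := fun e => by
        haveI : X.Normal := normalizer_eq_top_iff.1 e
        rcases IsSimpleGroup.eq_bot_or_eq_top_of_normal X inferInstance with e1 | e1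
        · exact hXne e1
        · exact h.compl3_ne_top hbal (eq_top_iff.2 (e1 ▸ hXW))
      have hSY : (S : Subgroup G) ≤ Y := hSX
      have hcorW : cor Y ≤ W := hall _ (hSY.trans (le_normalizer_cor Y)) (odd_cor Y)
      have hcovY : ∀ c ∈ Cg t, ∃ n ∈ Y ⊓ Cg t, ∃ o ∈ Og t, c = n * o := fun c hc => by
        obtain ⟨n, hn, hnC, o, ho, e⟩ := hXcov c hc
        exact ⟨n, ⟨hn, hnC⟩, o, ho, e⟩
      have hnsY : ¬ Group.IsSolvable ↥(Y ⊓ Cg t) := by
        intro hs
        haveI := hs
        apply hns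
        haveI hOn : ((Og t).subgroupOf (Cg t)).Normal :=
          (normal_subgroupOf_iff_le_normalizer (cor_le _)).2 (le_normalizer_cor _)
        set π := QuotientGroup.mk' ((Og t).subgroupOf (Cg t)) with hπ
        have hsurj : Function.Surjective (π.comp (inclusion (inf_le_right : Y ⊓ Cg t ≤ Cg t))) := by
          intro z
          obtain ⟨c, rfl⟩ := QuotientGroup.mk'_surjective _ z
          obtain ⟨n, hn, o, ho, e⟩ := hcovY c c.2
          refine ⟨⟨n, hn⟩, ?_⟩
          show π ⟨n, hn.2⟩ = π c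
          rw [hπ, QuotientGroup.mk'_eq_mk']
          exact ⟨⟨o, cor_le _ ho⟩, mem_subgroupOf.2 ho, Subtype.ext e.symm⟩
        haveI : Group.IsSolvable (Cg t ⧸ (Og t).subgroupOf (Cg t)) := Group.isSolvable_of_surjective hsurj
        haveI : Group.IsSolvable ((Og t).subgroupOf (Cg t)) := WalterBig.isSolvable_of_odd_card (by
          rw [Nat.card_congr (subgroupOfEquivOfLe (cor_le _)).toEquiv]; exact odd_cor _)
        exact Group.isSolvable_of_ker_le_range ((Og t).subgroupOf (Cg t)).subtype π (by simp [hπ])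
      have hWY : W ⊓ Y ≤ cor Y := by
        have hSQ : (S : Subgroup G) ≤ normalizer ((W ⊓ Y : Subgroup G) : Set G) :=
          Cfsg.Lib.Walter3.Hyp.le_normalizer_inf hSW (hSY.trans le_normalizer)
        -- a rotation at `t` inside `Y`
        obtain ⟨r, hrY, hrC, hrS⟩ : ∃ r ∈ Y, r ∈ Cg t ∧ r ∈ normalizer ((S : Subgroup G) : Set G) ∧
            r ∉ centralizer ((S : Subgroup G) : Set G) := by
          by_contra hcon
          push Not at hcon
          refine hnsY ?_
          have hSle : (S : Subgroup G) ≤ Y ⊓ Cg t := le_inf hSY (h.le_Cg ht.1)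
          have hn2 := fun {y} (hy : y ∈ Y ⊓ Cg t) => h.two_nilp hSle
            (fun n hn hnS => hcon n hn.1 hn.2 hnS) hy
          set O := (cor (Y ⊓ Cg t)).subgroupOf (Y ⊓ Cg t) with hO
          haveI : O.Normal := (normal_subgroupOf_iff_le_normalizer (cor_le _)).2 (le_normalizer_cor _)
          haveI : Group.IsSolvable O := WalterBig.isSolvable_of_odd_card (by
            rw [hO, Nat.card_congr (subgroupOfEquivOfLe (cor_le _)).toEquiv]; exact odd_cor _)
          haveI := h.solvable_S
          haveI : Group.IsSolvable (↥(Y ⊓ Cg t) ⧸ O) := Group.isSolvable_of_surjective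
            (f := (QuotientGroup.mk' O).comp (inclusion hSle)) fun z => by
              obtain ⟨y, rfl⟩ := QuotientGroup.mk'_surjective O z
              obtain ⟨o, ho, s, hs, e⟩ := hn2 y.2
              refine ⟨⟨s, hs⟩, ?_⟩
              show (QuotientGroup.mk' O) ⟨s, hSle hs⟩ = _
              rw [QuotientGroup.mk'_eq_mk']
              refine ⟨⟨s⁻¹ * o * s, ?_⟩, ?_, Subtype.ext (by show s * (s⁻¹ * o * s) = y; rw [e]; group)⟩
              · exact mul_mem (mul_mem (inv_mem (hSle hs)) (cor_le _ ho)) (hSle hs)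
              · have := (mem_normalizer_iff.1 (le_normalizer_cor _ (inv_mem (hSle hs))) o).1 ho
                rw [inv_inv] at this
                exact mem_subgroupOf.2 this
          exact Group.isSolvable_of_ker_le_range O.subtype (QuotientGroup.mk' O) (by simp)
        have hrot : Rot S r t := ⟨hrS.1, by rw [mem_Cg.1 hrC, mul_inv_cancel_right], hrS.2⟩
        by_cases hfixY : FixAt S Y t
        · intro q hq
          obtain ⟨o, ho, c, hc, e⟩ := h.factor hSY ht hfixY hq.2
          have hcW : c ∈ W := by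
            have : c = o⁻¹ * q := by rw [e]; group
            rw [this]
            exact mul_mem (inv_mem (hcorW ho)) hq.1
          have hcO : c ∈ Og t := (hWfix t ht).le ⟨hcW, hc.2⟩
          rw [e]
          exact mul_mem ho (h.Og_inf_le hSY ht hfixY ⟨hcO, hc.1⟩)
        · unfold FixAt at hfixY
          push Not at hfixY
          obtain ⟨m, hmY, hmS, em⟩ := hfixY
          have htr : TransAt S Y := h.transAt_of ht hrot hrY hmY hmS em
          refine h.le_of_pieces hSQ (odd_of_le inf_le_left hWodd) fun a ha => ?_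
          refine le_trans (show (W ⊓ Y) ⊓ Cg a ≤ Og a ⊓ Y from fun x hx =>
            ⟨(hWfix a ha).le ⟨hx.1.1, hx.2⟩, hx.1.2⟩) ?_
          obtain ⟨n, hnY, hnS, e⟩ := htr t a ht ha
          calc Og a ⊓ Y = cj n (Og t ⊓ Y) := by
                rw [cj_inf, cj_Og, e, cj_eq_self (le_normalizer hnY)]
            _ ≤ cj n (cor Y) := cj_mono (h.pieces_le_cor ih hSY hYtop htr ht hnsY)
            _ = cor Y := cj_eq_self (le_normalizer_cor Y hnY)
      have hXY : X ≤ W ⊓ Y := le_inf hXW le_normalizer
      obtain ⟨Q, hXQ, hQ⟩ := Cfsg.Lib.Coprime.exists_invariant_sylow_ge (hSY.trans (le_normalizer_cor Y))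
        (h.coprime_odd (odd_cor Y)) (Or.inl h.solvable_S) (hXY.trans hWY) hXp hSX
      set Q' := (Q : Subgroup (cor Y)).map (cor Y).subtype with hQ'
      have hgood : Good Q' := by
        refine ⟨Q.2.map _, fun e => hXne (le_bot_iff.1 (e ▸ hXQ)), (map_subtype_le _).trans hcorW, hQ,
          fun c hc => ?_⟩
        obtain ⟨n, hn, o, ho, rfl⟩ := hcovY c hc
        have hK : cor Y ⊓ Cg t ≤ Og t := (inf_le_inf_right _ hcorW).trans (hWfix t ht).le
        obtain ⟨m, hm, hmC, o', ho', rfl⟩ := hstep (odd_cor Y) hK (hSY.trans (le_normalizer_cor Y)) Q hQ n hn.2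
          (le_normalizer_cor Y hn.1)
        exact ⟨m, hm, hmC, o' * o, mul_mem ho' ho, by group⟩
      -- `Q'` is bigger
      have hbig : p ^ (k + 1) ∣ Nat.card Q' := by
        have h1 : p ^ (k + 1) ∣ Nat.card ↥(normalizer ((X.subgroupOf W : Subgroup W) : Set W)) :=
          Sylow.prime_pow_dvd_card_normalizer ((hp.pow_dvd_iff_le_factorization Nat.card_pos.ne').2 hklt)
            ((Nat.card_congr (subgroupOfEquivOfLe hXW).toEquiv).trans hk)
        have h2 : Nat.card ↥(normalizer ((X.subgroupOf W : Subgroup W) : Set W)) ∣ Nat.card ↥(cor Y) := by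
          refine Subgroup.card_dvd_of_injective
            ((W.subtype.comp (normalizer ((X.subgroupOf W : Subgroup W) : Set W)).subtype).codRestrict _
              fun w => hWY ⟨(w : W).2, ?_⟩) fun a b e => Subtype.ext (Subtype.ext ?_)
          · show ((w : W) : G) ∈ normalizer (X : Set G)
            rw [mem_normalizer_iff]
            intro x
            constructor
            · intro hx
              exact mem_subgroupOf.1 ((mem_normalizer_iff.1 w.2 ⟨x, hXW hx⟩).1 (mem_subgroupOf.2 hx))
            · intro hx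
              have hxW : x ∈ W := by
                have := mul_mem (mul_mem (inv_mem (w : W).2) (hXW hx)) (w : W).2
                simpa [mul_assoc] using this
              exact mem_subgroupOf.1 ((mem_normalizer_iff.1 w.2 ⟨x, hxW⟩).2 (mem_subgroupOf.2 hx))
          · exact (congrArg (fun z : ↥(cor Y) => (z : G)) e :)
        rw [hQ', Subgroup.card_map_of_injective (cor Y).subtype_injective]
        exact Q.pow_dvd_card_of_pow_dvd_card (h1.trans h2)
      have hlt : Nat.card X < Nat.card Q' := by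
        rw [hk]
        exact lt_of_lt_of_le (Nat.pow_lt_pow_right hp.one_lt (Nat.lt_succ_self k))
          (Nat.le_of_dvd Nat.card_pos hbig)
      exact absurd (hmax hgood hlt.le) (not_le.2 hlt)
    rw [← hXcard]
    refine card_dvd_of_le (le_inf hXW ?_)
    obtain ⟨n, hn, hnC, o, ho, e⟩ := hXcov g hg
    rw [e, ← cj_cj, cj_eq_self (le_normalizer (Og_le_compl3 ht ho))]
    calc X = cj n X := (cj_eq_self hn).symm
      _ ≤ cj n W := cj_mono hXW
  refine inf_eq_left.1 (eq_of_le_of_card_ge inf_le_left (Nat.le_of_dvd Nat.card_pos ?_))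
  refine (Nat.dvd_iff_prime_pow_dvd_dvd _ _).2 fun p k hp' hk => ?_
  rcases Nat.eq_zero_or_pos k with rfl | hk0
  · simp
  · exact (pow_dvd_pow p ((hp'.pow_dvd_iff_le_factorization Nat.card_pos.ne').1 hk)).trans
      (hp p hp' ((dvd_pow_self p hk0.ne').trans hk))

end Hyp

end Cfsg.Lib.Walter3
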