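import Cfsg.Agent.Lib.Walter8.Main
import Cfsg.Agent.Lib.MEleven.Basic
import Cfsg.Agent.Lib.Solv.Hall
import Cfsg.Agent.Lib.Core.Layer

/-!
# Odd subgroups of a simple group of Ree order

With `q = 3^f` and `Φ = q² - q + 1`, an element of prime order dividing `Φ` commutes with no element
of order three, and no odd subgroup `D` has `q² Φ` dividing `f |D|`.
-/

set_option autoImplicit false
set_option linter.unusedSectionVars false
set_option linter.style.haveILetI false

namespace Cfsg.Lib.Walter3.ReeSub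

open Subgroup Cfsg

universe u v

section Arith

variable {f : ℕ}

/-- `q² - q + 1` at `q = 3^f`. -/
def phi6 (f : ℕ) : ℕ := (3 ^ f) ^ 2 - 3 ^ f + 1

theorem phi6_add (f : ℕ) : phi6 f + 3 ^ f = (3 ^ f) ^ 2 + 1 := by
  have h : 3 ^ f ≤ (3 ^ f) ^ 2 := Nat.le_self_pow two_ne_zero _
  simp only [phi6]
  omega

theorem card_eq (f : ℕ) :
    (3 ^ f) ^ 3 * ((3 ^ f) ^ 3 + 1) * (3 ^ f - 1) =
      phi6 f * ((3 ^ f) ^ 3 * ((3 ^ f + 1) * (3 ^ f - 1))) := by
  have h : (3 ^ f) ^ 3 + 1 = (3 ^ f + 1) * phi6 f := by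
    have := phi6_add f
    have h2 : (3 ^ f + 1) * phi6 f + (3 ^ f + 1) * 3 ^ f = (3 ^ f + 1) * ((3 ^ f) ^ 2 + 1) := by
      rw [← Nat.mul_add, this]
    nlinarith [h2]
  rw [h]
  ring

/-- A prime divisor of `Φ` is not three and does not divide `q² - 1`. -/
theorem prime_facts (hf : 1 ≤ f) {r : ℕ} (hr : r.Prime) (hd : r ∣ phi6 f) :
    r ≠ 3 ∧ ¬ r ∣ (3 ^ f + 1) * (3 ^ f - 1) := by
  set q := 3 ^ f with hq
  have h3 : 3 ∣ q := dvd_pow_self 3 (by omega)
  have hsum : phi6 f + q = q ^ 2 + 1 := phi6_add f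
  have hne : r ≠ 3 := by
    rintro rfl
    have h1 : 3 ∣ q ^ 2 + 1 := hsum ▸ dvd_add hd h3
    have h2 : 3 ∣ q ^ 2 := dvd_pow h3 two_ne_zero
    omega
  refine ⟨hne, fun h => ?_⟩
  rcases (Nat.Prime.dvd_mul hr).1 h with h | h
  · have h1 : r ∣ (q + 1) * (q + 1) := h.mul_right _
    have e : (q + 1) * (q + 1) = phi6 f + 3 * q := by nlinarith
    have h2 : r ∣ 3 * q := (Nat.dvd_add_right hd).1 (e ▸ h1)
    rcases (Nat.Prime.dvd_mul hr).1 h2 with h2 | h2
    · exact hne ((Nat.prime_dvd_prime_iff_eq hr Nat.prime_three).1 h2)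
    · exact hne ((Nat.prime_dvd_prime_iff_eq hr Nat.prime_three).1 (hr.dvd_of_dvd_pow h2))
  · have h1 : r ∣ q * (q - 1) := h.mul_left _
    have e : q * (q - 1) + 1 = phi6 f := by
      have hq2 : q * (q - 1) + q = q ^ 2 := by
        rw [Nat.mul_sub, mul_one, pow_two, Nat.sub_add_cancel (Nat.le_mul_self q)]
      omega
    exact hr.not_dvd_one ((Nat.dvd_add_right h1).1 (e ▸ hd))

theorem phi6_not_dvd_three (hf : 1 ≤ f) : Nat.Coprime (phi6 f) 3 :=
  Nat.coprime_of_dvd fun r hr h1 h2 =>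
    (prime_facts hf hr h1).1 ((Nat.prime_dvd_prime_iff_eq hr Nat.prime_three).1 h2)

theorem nine_le {f : ℕ} (hf : 3 ≤ f) : 27 ≤ 3 ^ f :=
  (by norm_num : 27 ≤ 3 ^ 3).trans (Nat.pow_le_pow_right (by norm_num) hf)

theorem lin_lt_pow {f : ℕ} (hf : 3 ≤ f) : 3 * f < 3 ^ f := by
  induction f with
  | zero => omega
  | succ n ih =>
    rcases Nat.lt_or_ge n 3 with h | h
    · obtain rfl : n = 2 := by omega
      norm_num
    · have := ih h
      rw [pow_succ]
      omega

/-- No large divisor of `Φ` divides `3^j - 1` for `1 ≤ j ≤ 3f`. -/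
theorem no_fixed_three (hf : Odd f) (hf3 : 3 ≤ f) {a j : ℕ} (hj : 1 ≤ j) (hj' : j ≤ 3 * f)
    (ha : a ∣ phi6 f) (hbig : phi6 f ≤ a * f) : ¬ a ∣ 3 ^ j - 1 := by
  intro hd
  set q := 3 ^ f with hq
  have h27 : 27 ≤ q := nine_le hf3
  have hlin : 3 * f < q := lin_lt_pow hf3
  have hsum : phi6 f + q = q ^ 2 + 1 := phi6_add f
  have hqq : q ≤ q ^ 2 := Nat.le_self_pow two_ne_zero q
  have ha0 : a ≠ 0 := fun h => by rw [h, zero_mul] at hbig; omega
  -- `a` is large
  have hbound : ∀ b, a ≤ b → b ≤ q + 1 → False := by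
    intro b hab hb
    have h1 : phi6 f ≤ (q + 1) * f := hbig.trans (Nat.mul_le_mul_right f (hab.trans hb))
    have h2 : 3 * ((q + 1) * f) ≤ (q + 1) * q := by
      rw [← mul_assoc, mul_comm 3 (q + 1), mul_assoc]
      exact Nat.mul_le_mul_left _ hlin.le
    nlinarith
  have ha2 : 2 < a := by
    by_contra h
    exact hbound 2 (by omega) (by omega)
  -- in `ZMod a`
  have h1 : (3 : ZMod a) ^ (3 * f) = -1 := by
    have : a ∣ q ^ 3 + 1 := ha.trans ⟨q + 1, by nlinarith⟩
    have h := (ZMod.natCast_eq_zero_iff _ a).2 this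
    rw [hq, ← pow_mul, mul_comm f 3] at h
    push_cast at h
    exact eq_neg_of_add_eq_zero_left h
  have h2 : (3 : ZMod a) ^ j = 1 := by
    have h := (ZMod.natCast_eq_zero_iff _ a).2 hd
    rw [Nat.cast_sub (Nat.one_le_pow _ _ (by norm_num : 0 < 3))] at h
    push_cast at h
    exact sub_eq_zero.1 h
  haveI : Fact (2 < a) := ⟨ha2⟩
  set o := orderOf (3 : ZMod a) with ho
  have hoj : o ∣ j := orderOf_dvd_of_pow_eq_one h2
  have ho6 : o ∣ 2 * (3 * f) := orderOf_dvd_of_pow_eq_one (by rw [mul_comm, pow_mul, h1]; ring)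
  have hne : ¬ o ∣ 3 * f := fun h => by
    rw [orderOf_dvd_iff_pow_eq_one.1 h] at h1
    exact ZMod.neg_one_ne_one h1.symm
  -- the order is twice a proper divisor of `3 f`
  have heven : 2 ∣ o := by
    by_contra h
    exact hne (((Nat.prime_two.coprime_iff_not_dvd).2 h).symm.dvd_of_dvd_mul_left ho6)
  obtain ⟨h, hh⟩ := heven
  have hh3 : h ∣ 3 * f := Nat.dvd_of_mul_dvd_mul_left two_pos (hh ▸ ho6)
  obtain ⟨c, hc⟩ := hh3
  have hoddc : Odd c := (Odd.of_dvd_nat (show Odd (3 * f) from (by decide : Odd 3).mul hf) (hc ▸ dvd_mul_left _ _))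
  have hle : o ≤ j := Nat.le_of_dvd (by omega) hoj
  have hc3 : 3 ≤ c := by
    obtain ⟨k, hk⟩ := hoddc
    rcases Nat.eq_zero_or_pos k with rfl | hk0
    · rw [hk] at hc; omega
    · omega
  have hhf : h ≤ f := by nlinarith
  have h4 : (3 : ZMod a) ^ h = -1 := by
    obtain ⟨k, hk⟩ := hoddc
    rw [hc, hk, show h * (2 * k + 1) = o * k + h by rw [hh]; ring, pow_add, pow_mul, ho, pow_orderOf_eq_one,
      one_pow, one_mul] at h1
    exact h1
  have h5 : a ∣ 3 ^ h + 1 := by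
    rw [← ZMod.natCast_eq_zero_iff]
    push_cast
    rw [h4]; ring
  exact hbound (3 ^ h + 1) (Nat.le_of_dvd (Nat.succ_pos _) h5)
    (Nat.add_le_add_right (Nat.pow_le_pow_right (by norm_num) hhf) 1)

/-- No divisor `R ≠ 1` of `Φ` is `1` modulo a power of three above `q² / f`. -/
theorem no_fixed_phi (hf3 : 3 ≤ f) {R b : ℕ} (hR : 1 < R) (hRd : R ∣ phi6 f) (hb : 3 ^ b ∣ R - 1)
    (hbig : (3 ^ f) ^ 2 ≤ 3 ^ b * f) : False := by
  set q := 3 ^ f with hq
  have h27 : 27 ≤ q := nine_le hf3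
  have hlin : 3 * f < q := lin_lt_pow hf3
  have hsum : phi6 f + q = q ^ 2 + 1 := phi6_add f
  have hbf : f < b := by
    by_contra h
    have h1 : 3 ^ b * f ≤ q * f := Nat.mul_le_mul_right f (Nat.pow_le_pow_right (by norm_num) (by omega))
    nlinarith
  have hqb : q ∣ R - 1 := (pow_dvd_pow 3 hbf.le).trans hb
  obtain ⟨k, hk⟩ := hqb
  have hk0 : k ≠ 0 := fun h => by rw [h, mul_zero] at hk; omega
  have hR' : R = q * k + 1 := by omega
  obtain ⟨c, hc⟩ := hRd
  -- the cofactor is one modulo `q`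
  have hc1 : c = 1 := by
    by_contra hne
    have hmod : c % q = 1 := by
      have h1 : (q * k + 1) * c % q = c % q := by
        rw [show (q * k + 1) * c = c + q * (k * c) by ring, Nat.add_mul_mod_self_left]
      have h2 : phi6 f % q = 1 := by
        have h3 : phi6 f = 1 + q * (q - 1) := by
          have : q * (q - 1) + q = q ^ 2 := by
            rw [Nat.mul_sub, mul_one, pow_two, Nat.sub_add_cancel (Nat.le_mul_self q)]
          omega
        rw [h3, Nat.add_mul_mod_self_left, Nat.mod_eq_of_lt (by omega)]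
      rw [← h1, ← hR', ← hc, h2]
    have hcq : q + 1 ≤ c := by
      have hdm := Nat.div_add_mod c q
      rw [hmod] at hdm
      rcases Nat.eq_zero_or_pos (c / q) with h0 | h0
      · rw [h0] at hdm; omega
      · nlinarith
    have hk1 : 1 ≤ k := Nat.one_le_iff_ne_zero.2 hk0
    nlinarith [Nat.mul_le_mul (show q + 1 ≤ R by nlinarith) hcq]
  rw [hc1, mul_one] at hc
  have h1 : 3 ^ b ∣ q * (q - 1) := by
    have : q * (q - 1) + q = q ^ 2 := by
      rw [Nat.mul_sub, mul_one, pow_two, Nat.sub_add_cancel (Nat.le_mul_self q)]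
    rwa [show R - 1 = q * (q - 1) by omega] at hb
  have h2 : Nat.Coprime (3 ^ b) (q - 1) := by
    refine Nat.Coprime.pow_left b ((Nat.prime_three.coprime_iff_not_dvd).2 fun h => ?_)
    have : 3 ∣ q := dvd_pow_self 3 (by omega)
    omega
  have h3 := Nat.le_of_dvd (by omega) (h2.dvd_of_dvd_mul_right h1)
  have h4 : q < 3 ^ b := Nat.pow_lt_pow_right (by norm_num) hbf
  omega

end Arith

section Free

variable {N : Type u} [Group N] [Finite N] [IsSimpleGroup N]

/-- A character of full `r`-part vanishes on the `r`-singular elements. -/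
theorem vanish [Fintype N] (χ : IrrCharacter N) {d e r : ℕ} (hr : r.Prime)
    (hd : charDegree (χ : N → ℂ) = d) (hg : Nat.card N = d * e) (he : ¬ r ∣ e) {z : N}
    (hz : r ∣ orderOf z) : (χ : N → ℂ) z = 0 := by
  haveI : Fact r.Prime := ⟨hr⟩
  refine MEleven.apply_eq_zero_of_defectZero χ ?_ hz
  have hne : d * e ≠ 0 := hg ▸ Nat.card_pos.ne'
  rw [show MEleven.deg χ = d from hd, hg, Nat.factorization_mul (left_ne_zero_of_mul hne)
    (right_ne_zero_of_mul hne), Finsupp.add_apply, Nat.factorization_eq_zero_of_not_dvd he, add_zero]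

/-- In the Ree case an element of prime order dividing `Φ` commutes with no element of order three. -/
theorem not_commute {f : ℕ} (hf : 1 ≤ f)
    (hcard : Nat.card N = (3 ^ f) ^ 3 * ((3 ^ f) ^ 3 + 1) * (3 ^ f - 1))
    {χ χ₁ χ₆ : IrrCharacter N} {a b c : ℤ} (hχ : charDegree (χ : N → ℂ) = (3 ^ f) ^ 3)
    (h₁ : charDegree (χ₁ : N → ℂ) = phi6 f) (h₆ : charDegree (χ₆ : N → ℂ) = 3 ^ f * phi6 f)
    (hrel : ∀ g : N, ¬ 2 ∣ orderOf g →
      1 + (a : ℂ) * (χ₁ : N → ℂ) g + (b : ℂ) * (χ₆ : N → ℂ) g + (c : ℂ) * (χ : N → ℂ) g = 0)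
    {r : ℕ} (hr : r.Prime) (hrd : r ∣ phi6 f) {y u : N} (hy : orderOf y = r) (hu : orderOf u = 3) :
    y * u ≠ u * y := by
  intro hcomm
  classical
  haveI := Fintype.ofFinite N
  obtain ⟨hr3, hrq⟩ := prime_facts hf hr hrd
  have hr2 : r ≠ 2 := by
    rintro rfl
    obtain ⟨k, hk⟩ : 2 ∣ 3 ^ f + 1 := by
      have : 3 ^ f % 2 = 1 := by rw [Nat.pow_mod]; simp
      omega
    exact hrq ⟨k * (3 ^ f - 1), by rw [hk, mul_assoc]⟩
  have hord : orderOf (y * u) = r * 3 := by
    rw [(show Commute y u from hcomm).orderOf_mul_eq_mul_orderOf_of_coprime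
      (by rw [hy, hu]; exact (Nat.coprime_primes hr Nat.prime_three).2 hr3), hy, hu]
  set w := y * u with hw
  have hodd : ¬ 2 ∣ orderOf w := by
    rw [hord]
    intro h
    rcases (Nat.Prime.dvd_mul Nat.prime_two).1 h with h | h
    · exact hr2 ((Nat.prime_dvd_prime_iff_eq Nat.prime_two hr).1 h).symm
    · norm_num at h
  have hrdw : r ∣ orderOf w := hord ▸ dvd_mul_right _ _
  rw [card_eq] at hcard
  have hr3f : ¬ r ∣ (3 ^ f) := fun h => hr3 ((Nat.prime_dvd_prime_iff_eq hr Nat.prime_three).1 (hr.dvd_of_dvd_pow h))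
  have e1 := vanish χ₁ hr h₁ hcard
    (fun h => ((Nat.Prime.dvd_mul hr).1 h).elim (fun h => hr3f (hr.dvd_of_dvd_pow h)) hrq) hrdw
  have e6 := vanish χ₆ hr h₆ (e := (3 ^ f) ^ 2 * ((3 ^ f + 1) * (3 ^ f - 1))) (by rw [hcard]; ring)
    (fun h => ((Nat.Prime.dvd_mul hr).1 h).elim (fun h => hr3f (hr.dvd_of_dvd_pow h)) hrq) hrdw
  have hrel' := hrel w hodd
  rw [e1, e6] at hrel'
  have h3 : ¬ 3 ∣ phi6 f * ((3 ^ f + 1) * (3 ^ f - 1)) := fun h => by
    have h30 : 3 ∣ 3 ^ f := dvd_pow_self 3 (by omega)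
    have h31 : 1 ≤ 3 ^ f := Nat.one_le_pow _ _ (by norm_num)
    rcases (Nat.Prime.dvd_mul Nat.prime_three).1 h with h | h
    · exact (prime_facts hf Nat.prime_three h).1 rfl
    · rcases (Nat.Prime.dvd_mul Nat.prime_three).1 h with h | h <;> omega
  have e7 := vanish χ Nat.prime_three hχ (e := phi6 f * ((3 ^ f + 1) * (3 ^ f - 1))) (by rw [hcard]; ring)
    h3 (hord ▸ dvd_mul_left _ _ : 3 ∣ orderOf w)
  rw [e7] at hrel'
  simp at hrel'

end Free

section Group

variable {N : Type u} [Group N] [Finite N]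

/-- A group acting semiregularly by conjugation on `W ≠ 1` has order dividing `|W| - 1`. -/
theorem card_dvd_sub_one {M W : Subgroup N} (hMW : M ≤ normalizer (W : Set N))
    (h : ∀ m ∈ M, ∀ v ∈ W, v ≠ 1 → m * v = v * m → m = 1) : Nat.card M ∣ Nat.card W - 1 := by
  classical
  letI : MulAction M {v : W // v ≠ 1} :=
    { smul := fun m v => ⟨⟨(m : N) * (v.1 : N) * (m : N)⁻¹, (mem_normalizer_iff.1 (hMW m.2) _).1 v.1.2⟩,
        fun e => v.2 (Subtype.ext (conj_eq_one_iff.1 (congrArg Subtype.val e)))⟩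
      one_smul := fun v => Subtype.ext (Subtype.ext (by show (1 : N) * _ * (1 : N)⁻¹ = _; simp))
      mul_smul := fun a b v => Subtype.ext (Subtype.ext (by
        show ((a * b : M) : N) * _ * ((a * b : M) : N)⁻¹ = a * (b * _ * (b : N)⁻¹) * (a : N)⁻¹
        rw [Subgroup.coe_mul]; group)) }
  haveI := Fintype.ofFinite {v : W // v ≠ 1}
  haveI := Fintype.ofFinite (MulAction.orbitRel.Quotient M {v : W // v ≠ 1})
  have hd : Nat.card M ∣ Nat.card {v : W // v ≠ 1} := by
    rw [Nat.card_congr (MulAction.selfEquivSigmaOrbitsQuotientStabilizer M {v : W // v ≠ 1}), Nat.card_sigma]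
    refine Finset.dvd_sum fun ω _ => ?_
    have hst : MulAction.stabilizer M ω.out = ⊥ := by
      rw [eq_bot_iff]
      intro m hm
      have e : (m : N) * (ω.out.1 : N) * (m : N)⁻¹ = ω.out.1 :=
        congrArg (fun v : {v : W // v ≠ 1} => (v.1 : N)) (MulAction.mem_stabilizer_iff.1 hm)
      exact mem_bot.2 (Subtype.ext (h m m.2 _ ω.out.1.2 (fun e' => ω.out.2 (Subtype.ext e'))
        (mul_inv_eq_iff_eq_mul.1 e)))
    show Nat.card M ∣ (MulAction.stabilizer M ω.out).index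
    rw [hst, index_bot]
  haveI := Fintype.ofFinite W
  rwa [Nat.card_eq_fintype_card (α := {v : W // v ≠ 1}), Fintype.card_subtype_compl, Fintype.card_subtype_eq,
    ← Nat.card_eq_fintype_card] at hd

theorem orderOf_pow_prime {p : ℕ} [hp : Fact p.Prime] {Q : Subgroup N} (hQ : IsPGroup p Q) {x : N} (hx : x ∈ Q)
    (hx1 : x ≠ 1) : ∃ n : ℕ, orderOf (x ^ n) = p := by
  obtain ⟨j, hj⟩ := hQ ⟨x, hx⟩
  have hd : orderOf x ∣ p ^ j := orderOf_dvd_of_pow_eq_one (congrArg Subtype.val hj)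
  obtain ⟨i, -, hi⟩ := (Nat.dvd_prime_pow hp.out).1 hd
  have hi0 : i ≠ 0 := fun h => hx1 (by rw [← orderOf_eq_one_iff, hi, h, pow_zero])
  refine ⟨p ^ (i - 1), ?_⟩
  rw [orderOf_pow, hi, Nat.gcd_eq_right (pow_dvd_pow p (by omega))]
  rw [show p ^ i = p ^ (i - 1) * p by rw [← pow_succ, Nat.sub_add_cancel (by omega)], Nat.mul_div_cancel_left _
    (pow_pos hp.out.pos _)]

/-- No odd subgroup `D` of a group of Ree order has `q² Φ` dividing `f |D|`. -/
theorem false_of_dvd {f : ℕ} (hf : Odd f) (hf3 : 3 ≤ f)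
    (hcard : Nat.card N = (3 ^ f) ^ 3 * ((3 ^ f) ^ 3 + 1) * (3 ^ f - 1))
    (hfree : ∀ r : ℕ, r.Prime → r ∣ phi6 f → ∀ y u : N, orderOf y = r → orderOf u = 3 → y * u ≠ u * y)
    (D : Subgroup N) (hD : Odd (Nat.card D)) (h : (3 ^ f) ^ 2 * phi6 f ∣ Nat.card D * f) : False := by
  classical
  haveI : Fact (Nat.Prime 3) := ⟨Nat.prime_three⟩
  have hf1 : 1 ≤ f := by omega
  set q := 3 ^ f with hq
  haveI : Group.IsSolvable D := Cfsg.Agent.S0205.result hD
  obtain ⟨H', hH'⟩ := Cfsg.Lib.Solv.exists_isPiHall {p : ℕ | p = 3 ∨ p ∣ phi6 f} D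
  set H := H'.map D.subtype with hH
  have hHcard : Nat.card H = Nat.card H' := Subgroup.card_map_of_injective D.subtype_injective
  -- the Hall subgroup keeps the divisibility
  have hHdvd : q ^ 2 * phi6 f ∣ Nat.card H * f := by
    rw [← H'.card_mul_index, mul_right_comm] at h
    rw [hHcard]
    refine Nat.Coprime.dvd_of_dvd_mul_right (Nat.coprime_of_dvd fun r hr h1 h2 => hH'.2 r hr ?_ h2) h
    rcases (Nat.Prime.dvd_mul hr).1 h1 with h1 | h1
    · exact Or.inl ((Nat.prime_dvd_prime_iff_eq hr Nat.prime_three).1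
        (hr.dvd_of_dvd_pow (hr.dvd_of_dvd_pow h1)))
    · exact Or.inr h1
  -- the three-part and the rest
  set n := Nat.card H with hn
  have hn0 : n ≠ 0 := Nat.card_pos.ne'
  obtain ⟨b, a, ha3, hab⟩ := Nat.exists_eq_pow_mul_and_not_dvd hn0 3 (by norm_num)
  have hnN : n ∣ phi6 f * (q ^ 3 * ((q + 1) * (q - 1))) := by
    rw [← card_eq, ← hcard]; exact card_subgroup_dvd_card H
  have ha_prime : ∀ r, r.Prime → r ∣ a → r ∣ phi6 f := fun r hr hd => by
    rcases hH'.1 r hr (hHcard ▸ hab ▸ hd.mul_left _) with e | e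
    · exact absurd (e ▸ hd) ha3
    · exact e
  have hab3 : Nat.Coprime a 3 := (Nat.prime_three.coprime_iff_not_dvd.2 ha3).symm
  have haP : a ∣ phi6 f := by
    refine Nat.Coprime.dvd_of_dvd_mul_right ?_ ((hab ▸ dvd_mul_left a (3 ^ b)).trans hnN)
    refine Nat.coprime_of_dvd fun r hr h1 h2 => ?_
    obtain ⟨hr3, hrq⟩ := prime_facts hf1 hr (ha_prime r hr h1)
    rcases (Nat.Prime.dvd_mul hr).1 h2 with h2 | h2
    · exact hr3 ((Nat.prime_dvd_prime_iff_eq hr Nat.prime_three).1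
        (hr.dvd_of_dvd_pow (hr.dvd_of_dvd_pow h2)))
    · exact hrq h2
  have hb3 : b ≤ 3 * f := by
    have h1 : 3 ^ b ∣ phi6 f * (q ^ 3 * ((q + 1) * (q - 1))) := (hab ▸ dvd_mul_right _ a).trans hnN
    have h2 : 3 ^ b ∣ q ^ 3 * ((q + 1) * (q - 1)) :=
      ((phi6_not_dvd_three hf1).symm.pow_left b).dvd_of_dvd_mul_left h1
    have h3 : 3 ^ b ∣ q ^ 3 := by
      refine Nat.Coprime.dvd_of_dvd_mul_right (Nat.Coprime.pow_left b
        ((Nat.prime_three.coprime_iff_not_dvd).2 fun h3 => ?_)) h2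
      have h30 : 3 ∣ q := dvd_pow_self 3 (by omega)
      have := nine_le hf3
      rcases (Nat.Prime.dvd_mul Nat.prime_three).1 h3 with h3 | h3 <;> omega
    rw [hq, ← pow_mul, Nat.pow_dvd_pow_iff_le_right (by norm_num)] at h3
    omega
  have hbbig : q ^ 2 ≤ 3 ^ b * f := by
    have h1 : q ^ 2 ∣ a * (3 ^ b * f) := by
      have := (dvd_mul_right _ _).trans hHdvd
      rwa [hab, mul_comm (3 ^ b) a, mul_assoc] at this
    exact Nat.le_of_dvd (Nat.mul_pos (pow_pos (by norm_num) _) (by omega))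
      (((hab3.symm.pow_left f).pow_left 2).dvd_of_dvd_mul_left h1)
  have habig : phi6 f ≤ a * f := by
    have h1 : phi6 f ∣ 3 ^ b * (a * f) := by
      have := (dvd_mul_left _ _).trans hHdvd
      rwa [hab, mul_assoc] at this
    exact Nat.le_of_dvd (Nat.mul_pos (Nat.pos_of_ne_zero fun e => ha3 (by rw [e]; exact dvd_zero 3)) (by omega))
      (((phi6_not_dvd_three hf1).pow_right b).dvd_of_dvd_mul_left h1)
  -- the free action
  have hfree' : ∀ {r : ℕ}, r.Prime → r ∣ a → ∀ {P Q : Subgroup N}, IsPGroup r P → IsPGroup 3 Q →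
      ∀ y ∈ P, ∀ v ∈ Q, y ≠ 1 → v ≠ 1 → y * v ≠ v * y := by
    intro r hr hra P Q hP hQ y hy v hv hy1 hv1 hc
    haveI := Fact.mk hr
    obtain ⟨i, hi⟩ := orderOf_pow_prime hP hy hy1
    obtain ⟨j, hj⟩ := orderOf_pow_prime hQ hv hv1
    exact hfree r hr (ha_prime r hr hra) _ _ hi hj ((show Commute y v from hc).pow_pow i j).eq
  haveI : Group.IsSolvable H := Group.isSolvable_of_surjective (f := (equivMapOfInjective H' _ D.subtype_injective).toMonoidHom)
    (MulEquiv.surjective _)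
  by_cases hQ : pCore 3 H = ⊥
  · -- a normal `r`-subgroup
    haveI : Nontrivial H := Finite.one_lt_card_iff_nontrivial.1 (by
      have : 1 < 3 ^ b := by
        rcases Nat.eq_zero_or_pos b with rfl | hb0
        · rw [pow_zero, one_mul] at hbbig
          have := lin_lt_pow hf3
          nlinarith
        · exact Nat.one_lt_pow (by omega) (by norm_num)
      calc 1 < 3 ^ b := this
        _ ≤ n := Nat.le_of_dvd (Nat.pos_of_ne_zero hn0) (hab ▸ dvd_mul_right _ a))
    obtain ⟨r, hr, hR⟩ : ∃ r, r.Prime ∧ pCore r H ≠ ⊥ := by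
      by_contra hcon
      push Not at hcon
      have h1 := Core.centralizer_fitting_le_of_isSolvable (G := H)
      rw [Core.fittingSubgroup_eq_iSup_pCore, iSup_eq_bot.2 fun r : Nat.Primes => hcon r r.2] at h1
      exact top_ne_bot (le_bot_iff.1 (le_trans (fun x _ => mem_centralizer_iff.2 fun y hy => by
        rw [mem_bot.1 hy]; simp) h1))
    haveI := Fact.mk hr
    set R := (pCore r H).map H.subtype with hRdef
    have hRp : IsPGroup r R := (Core.pCore_isPGroup r H).map _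
    have hr3 : r ≠ 3 := fun e => hR (e ▸ hQ)
    obtain ⟨k, hk⟩ := IsPGroup.iff_card.1 hRp
    have hRH : Nat.card R ∣ n := card_dvd_of_le (map_subtype_le _)
    have hRa : Nat.card R ∣ a := by
      rw [hab] at hRH
      refine Nat.Coprime.dvd_of_dvd_mul_left ?_ hRH
      rw [hk]
      exact Nat.Coprime.pow _ _ ((Nat.coprime_primes hr Nat.prime_three).2 hr3)
    have hR1 : 1 < Nat.card R := by
      rw [one_lt_card_iff_ne_bot, hRdef]
      exact fun e => hR ((map_eq_bot_iff_of_injective _ H.subtype_injective).1 e)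
    have hra : r ∣ a := by
      refine dvd_trans ?_ hRa
      rw [hk]
      refine dvd_pow_self r fun e => ?_
      rw [hk, e, pow_zero] at hR1
      omega
    obtain ⟨P⟩ : Nonempty (Sylow 3 H) := inferInstance
    set P' := (P : Subgroup H).map H.subtype with hP'
    have hPc : Nat.card P' = 3 ^ b := by
      rw [hP', Subgroup.card_map_of_injective H.subtype_injective, P.card_eq_multiplicity, ← hn, hab,
        Nat.factorization_mul (by positivity) (fun e => ha3 (by rw [e]; exact dvd_zero 3)), Finsupp.add_apply,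
        Nat.factorization_eq_zero_of_not_dvd ha3, Nat.prime_three.factorization_pow, Finsupp.single_eq_same,
        add_zero]
    have hPR : P' ≤ normalizer (R : Set N) := by
      refine (map_subtype_le _).trans fun x hx => mem_normalizer_iff.2 fun y => ⟨?_, ?_⟩
      · rintro ⟨z, hz, rfl⟩
        exact ⟨⟨x, hx⟩ * z * ⟨x, hx⟩⁻¹, (Cfsg.pCore_normal r H).conj_mem z hz _, rfl⟩
      · rintro ⟨z, hz, e⟩
        have e' : (z : N) = x * y * x⁻¹ := e
        exact ⟨⟨x, hx⟩⁻¹ * z * ⟨x, hx⟩⁻¹⁻¹, (Cfsg.pCore_normal r H).conj_mem z hz _,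
          by show x⁻¹ * (z : N) * x⁻¹⁻¹ = y; rw [e']; group⟩
    have hd := card_dvd_sub_one hPR fun m hm v hv hv1 hc => by
      by_contra hm1
      exact hfree' hr hra hRp (P.2.map H.subtype) v hv m hm hv1 hm1 hc.symm
    rw [hPc] at hd
    exact no_fixed_phi hf3 hR1 (hRa.trans haP) hd hbbig
  · -- the three-core
    set Q := (pCore 3 H).map H.subtype with hQdef
    have hQp : IsPGroup 3 Q := (Core.pCore_isPGroup 3 H).map _
    obtain ⟨j, hj⟩ := IsPGroup.iff_card.1 hQp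
    have hj0 : j ≠ 0 := fun e => hQ <| by
      rw [e, pow_zero] at hj
      exact (map_eq_bot_iff_of_injective _ H.subtype_injective).1 (eq_bot_of_card_eq _ hj)
    have hjb : j ≤ b := by
      have h1 : 3 ^ j ∣ n := hj ▸ card_dvd_of_le (map_subtype_le _)
      rw [hab] at h1
      exact (Nat.pow_dvd_pow_iff_le_right (by norm_num)).1 ((hab3.symm.pow_left j).dvd_of_dvd_mul_right h1)
    refine no_fixed_three hf hf3 (Nat.one_le_iff_ne_zero.2 hj0) (hjb.trans hb3) haP habig ?_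
    rw [← hj]
    refine (Nat.dvd_iff_prime_pow_dvd_dvd _ _).2 fun r k hr hrk => ?_
    rcases Nat.eq_zero_or_pos k with rfl | hk
    · simp
    haveI := Fact.mk hr
    have hra : r ∣ a := (dvd_pow_self r hk.ne').trans hrk
    obtain ⟨M, hM⟩ := Sylow.exists_subgroup_card_pow_prime r (show r ^ k ∣ Nat.card H from
      hn ▸ hrk.trans (hab ▸ dvd_mul_left a _))
    set M' := M.map H.subtype with hM'
    have hMp : IsPGroup r M' := (IsPGroup.of_card hM).map _
    have hMQ : M' ≤ normalizer (Q : Set N) := by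
      refine (map_subtype_le _).trans fun x hx => mem_normalizer_iff.2 fun y => ⟨?_, ?_⟩
      · rintro ⟨z, hz, rfl⟩
        exact ⟨⟨x, hx⟩ * z * ⟨x, hx⟩⁻¹, (Cfsg.pCore_normal 3 H).conj_mem z hz _, rfl⟩
      · rintro ⟨z, hz, e⟩
        have e' : (z : N) = x * y * x⁻¹ := e
        exact ⟨⟨x, hx⟩⁻¹ * z * ⟨x, hx⟩⁻¹⁻¹, (Cfsg.pCore_normal 3 H).conj_mem z hz _,
          by show x⁻¹ * (z : N) * x⁻¹⁻¹ = y; rw [e']; group⟩
    have hd := card_dvd_sub_one hMQ fun m hm v hv hv1 hc => by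
      by_contra hm1
      exact hfree' hr hra hMp hQp m hm v hv hm1 hv1 hc
    rwa [hM', Subgroup.card_map_of_injective H.subtype_injective, hM] at hd

end Group

end Cfsg.Lib.Walter3.ReeSub
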