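import Cfsg.Agent.Lib.Walter3.Completion
import Cfsg.Agent.Lib.Walter3.ReeSub
import Cfsg.Agent.Lib.J1Weak.JFacts
import Cfsg.Agent.S1225
import Cfsg.Agent.S1644

/-!
# The completion is trivial

If `W ≠ 1` and `N(W)` contains every `C(a)`, it is strongly embedded, so an odd subgroup is transitive
on its involutions. Modulo the odd core it has socle of Ree or Janko order, with no such subgroup.
-/

set_option autoImplicit false
set_option linter.unusedSectionVars false
set_option linter.style.haveILetI false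

namespace Cfsg.Lib.Walter3

open Subgroup Cfsg

universe u

variable {G : Type u} [Group G] [Finite G]

local notation "PSL2[" F "]" => Matrix.ProjectiveSpecialLinearGroup (Fin 2) F

/-- An involution of an overgroup of `S` is conjugate there into `S`. -/
theorem exists_conj_mem (S : Sylow 2 G) {Y : Subgroup G} (hSY : (S : Subgroup G) ≤ Y) {x : G} (hx : x ∈ Y)
    (hx2 : orderOf x = 2) : ∃ m ∈ Y, m * x * m⁻¹ ∈ (S : Subgroup G) := by
  haveI : Fact (Nat.Prime 2) := ⟨Nat.prime_two⟩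
  have hp : IsPGroup 2 (zpowers (⟨x, hx⟩ : Y)) :=
    IsPGroup.of_card (n := 1) (by rw [Nat.card_zpowers, pow_one, Subgroup.orderOf_mk, hx2])
  obtain ⟨P, hP⟩ := hp.exists_le_sylow
  obtain ⟨g, hg⟩ := MulAction.exists_smul_eq Y P (S.subtype hSY)
  refine ⟨g, g.2, ?_⟩
  have h1 : g * ⟨x, hx⟩ * g⁻¹ ∈ ((g • P : Sylow 2 Y) : Subgroup Y) := by
    rw [Sylow.coe_subgroup_smul]
    exact ⟨⟨x, hx⟩, hP (mem_zpowers _), rfl⟩
  rw [hg] at h1
  exact h1

/-- A subgroup `D` with `X = D C` has order divisible by the index of `C`. -/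
theorem index_dvd_card_of_mul_eq {D C : Subgroup G} (h : ∀ g : G, ∃ d ∈ D, d⁻¹ * g ∈ C) :
    C.index ∣ Nat.card D := by
  refine dvd_trans (dvd_of_eq ?_) (Subgroup.index_dvd_card (C.subgroupOf D))
  rw [Subgroup.index_eq_card, Subgroup.index_eq_card]
  refine (Nat.card_congr (Equiv.ofBijective
    (Quotient.map' (fun d : D => (d : G)) fun a b hab => ?_) ⟨?_, ?_⟩)).symm
  · rw [QuotientGroup.leftRel_apply] at hab ⊢
    exact hab
  · intro a b
    induction a using Quotient.inductionOn'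
    induction b using Quotient.inductionOn'
    intro e
    simp only [Quotient.map'_mk''] at e
    refine Quotient.sound' ?_
    have e' := Quotient.exact' e
    rw [QuotientGroup.leftRel_apply] at e' ⊢
    exact e'
  · intro z
    induction z using Quotient.inductionOn' with
    | h g =>
      obtain ⟨d, hd, hg⟩ := h g
      refine ⟨Quotient.mk'' ⟨d, hd⟩, ?_⟩
      simp only [Quotient.map'_mk'']
      refine Quotient.sound' ?_
      rw [QuotientGroup.leftRel_apply]
      exact hg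

/-- A simple group with a socle model has no odd subgroup `D` with `|N : C_N(t)|` dividing `f |D|`. -/
theorem false_of_socle_subgroup {X : Type u} [Group X] [Finite X] {S : Sylow 2 X}
    (h8 : Nat.card (S : Subgroup X) = 8) (hsq : ∀ v ∈ (S : Subgroup X), v * v = 1) {t : X} (ht : Pt S t)
    {N : Subgroup X} {F : Type} [Field F] [Fintype F] (hN : SocleModel S t N F) {p f : ℕ} (hp : p.Prime)
    (hf : 1 ≤ f) (hF : Fintype.card F = p ^ f) (D : Subgroup X) (hD : Odd (Nat.card D))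
    (hDN : D ≤ N) (hdvd : (N ⊓ Cg t).relIndex N ∣ Nat.card D * f) : False := by
  classical
  haveI : Fact (Nat.Prime 2) := ⟨Nat.prime_two⟩
  haveI := hN.simple
  obtain ⟨e⟩ := hN.iso
  have hS := comm_of_sq hsq
  let T : Sylow 2 N := S.subtype hN.le
  have hT8 : Nat.card (T : Subgroup N) = 8 :=
    (Nat.card_congr (subgroupOfEquivOfLe hN.le).toEquiv).trans h8
  haveI hTc : IsMulCommutative (T : Subgroup N) := comm_of_sq fun v hv => Subtype.ext (hsq _ hv)
  set t' : N := ⟨t, hN.le ht.1⟩ with ht'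
  have ht2 : orderOf t' = 2 := orderOf_eq_prime (by rw [pow_two]; exact Subtype.ext (hsq t ht.1))
    fun e1 => ht.2 (congrArg Subtype.val e1)
  have e' := (centSubEquiv N (hN.le ht.1)).trans e
  have h5 := hN.five_le
  have hab : ∀ P : Sylow 2 N, ∀ a b : P, a * b = b * a := fun P a b =>
    (AbTwo.abelian_of_one T hTc P).is_comm.comm a b
  -- the index of the centralizer
  have hidx : (N ⊓ Cg t).relIndex N * (2 * Nat.card PSL2[F]) = Nat.card N := by
    have h1 := Subgroup.card_mul_index ((N ⊓ Cg t).subgroupOf N)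
    rw [Nat.card_congr (subgroupOfEquivOfLe inf_le_left).toEquiv, Nat.card_congr e.toEquiv, Nat.card_prod,
      Nat.card_congr Multiplicative.toAdd, Nat.card_zmod] at h1
    rw [← h1, mul_comm]
    rfl
  set D' := D.subgroupOf N with hD'
  have hD'c : Nat.card D' = Nat.card D := Nat.card_congr (subgroupOfEquivOfLe hDN).toEquiv
  rw [← hD'c] at hdvd hD
  have hodd : Fintype.card F % 2 = 1 := by rcases hN.mod_eight with h | h <;> omega
  have hpsl := Cfsg.Lib.Linear.Two.card_PSL_two (F := F)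
  rw [Nat.gcd_eq_left (show 2 ∣ Fintype.card F - 1 by omega)] at hpsl
  rw [hpsl] at hidx
  rcases Walter8.main_relation hab (by omega) t' ht2 e' with
    ⟨m, hm, hq, hcard, -, χ, hχ, χ₁, χ₆, a, b, c, h₁, h₆, -, hrel⟩ | ⟨h45, -⟩
  · -- the Ree case
    have hp3 : p = 3 := by
      have h3 : 3 ∣ p ^ f := hF ▸ hq ▸ dvd_pow_self 3 (by omega)
      exact ((Nat.prime_dvd_prime_iff_eq Nat.prime_three hp).1 (Nat.prime_three.dvd_of_dvd_pow h3)).symm
    subst hp3
    have hfm : f = 2 * m + 1 := Nat.pow_right_injective (by norm_num) (hF.symm.trans hq)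
    have hfodd : Odd f := ⟨m, hfm⟩
    rw [← hfm] at hcard hχ h₁ h₆
    rw [hF] at hidx
    have hm' : (N ⊓ Cg t).relIndex N = (3 ^ f) ^ 2 * ReeSub.phi6 f := by
      rw [hcard, ReeSub.card_eq] at hidx
      have h1 : 1 < 3 ^ f := Nat.one_lt_pow (by omega) (by norm_num)
      have h2 : (3 ^ f) ^ 2 - 1 = (3 ^ f + 1) * (3 ^ f - 1) := by
        rw [show ((3 : ℕ) ^ f) ^ 2 - 1 = (3 ^ f) ^ 2 - 1 ^ 2 by rw [one_pow], Nat.sq_sub_sq]
      rw [h2] at hidx
      refine Nat.eq_of_mul_eq_mul_right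
        (show 0 < 3 ^ f * ((3 ^ f + 1) * (3 ^ f - 1)) from Nat.mul_pos (by omega) (Nat.mul_pos (by omega) (by omega)))
        (hidx.trans ?_)
      ring
    rw [hm'] at hdvd
    exact ReeSub.false_of_dvd hfodd (by omega) hcard
      (fun r hr hrd y u hy hu => ReeSub.not_commute (by omega) hcard hχ h₁ h₆ hrel hr hrd hy hu)
      D' hD hdvd
  · -- the Janko case
    have hq5 : Fintype.card F = 5 := by
      rcases h45 with h | h
      · omega
      · exact h
    have hf1 : f = 1 := by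
      have : Nat.Prime (p ^ f) := hF ▸ hq5 ▸ (by norm_num : Nat.Prime 5)
      exact (Nat.Prime.eq_one_of_pow this)
    obtain ⟨φ⟩ := Cfsg.Agent.S0253.result (F := F) hq5
    have hJ : Spor.IsoJ1 N := Cfsg.Agent.S1644.result T inferInstance hT8 t' ht2
      (e'.trans ((MulEquiv.refl _).prodCongr φ))
    have hcard := J1Weak.card_of_isoJ1 hJ
    rw [hcard, hq5] at hidx
    rw [hf1, mul_one] at hdvd
    have hm' : (N ⊓ Cg t).relIndex N = 1463 := by norm_num at hidx; omega
    rw [hm'] at hdvd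
    have h57 := (J1Weak.odd_subgroup hD (hcard ▸ card_subgroup_dvd_card D') fun y => by
      have := J1Weak.orderOf_mem_spec hJ (y : N)
      rwa [Subgroup.orderOf_coe] at this).1
    have := Nat.le_of_dvd Nat.card_pos hdvd
    omega

namespace Hyp

variable {S : Sylow 2 G} (h : Hyp S) (hbal : Balanced S)
include h hbal

/-- The completion is trivial once its normalizer contains all the centralizers. -/
theorem compl3_eq_bot (ih : CentBelow.{u} (Nat.card G)) {t : G} (ht : Pt S t)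
    (hns : ¬ Group.IsSolvable ↥(Cg t))
    (hCN : ∀ a, Pt S a → Cg a ≤ normalizer (compl3 S : Set G)) : compl3 S = ⊥ := by
  classical
  haveI : Fact (Nat.Prime 2) := ⟨Nat.prime_two⟩
  haveI := h.simple
  by_contra hW
  set M := normalizer (compl3 S : Set G) with hMdef
  have hMtop : M ≠ ⊤ := fun e => by
    haveI : (compl3 S).Normal := normalizer_eq_top_iff.1 e
    rcases IsSimpleGroup.eq_bot_or_eq_top_of_normal (compl3 S) inferInstance with e1 | e1
    · exact hW e1
    · exact h.compl3_ne_top hbal e1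
  have hSM : (S : Subgroup G) ≤ M := h.sylow_le_compl3
  have hNS : normalizer ((S : Subgroup G) : Set G) ≤ M := h.normalizer_le_compl3
  have htr : TransAt S M := fun a b ha hb => by
    obtain ⟨n, hn, e⟩ := h.trans ha hb
    exact ⟨n, hNS hn, hn, e⟩
  have hpt : ∀ {x : G}, x ∈ (S : Subgroup G) → orderOf x = 2 → Pt S x := fun {x} hx hx2 =>
    ⟨hx, fun e => by rw [e, orderOf_one] at hx2; omega⟩
  have hconj2 : ∀ (m x : G), orderOf (m * x * m⁻¹) = orderOf x := fun m x => MulEquiv.orderOf_eq (MulAut.conj m) x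
  -- strong embedding
  have hSE : IsStronglyEmbedded M := by
    refine ⟨hMtop, even_iff_two_dvd.2 ((show 2 ∣ 8 by norm_num).trans (h.card ▸ card_dvd_of_le hSM)), fun g hg => ?_⟩
    by_contra hev
    rw [Nat.not_odd_iff_even, even_iff_two_dvd] at hev
    obtain ⟨x, hx⟩ := exists_prime_orderOf_dvd_card' 2 hev
    rw [← Subgroup.orderOf_coe] at hx
    obtain ⟨hxM, y, hyM, hyx⟩ := x.2
    have hy2 : orderOf y = 2 := by rw [← hx, ← hyx]; exact (MulEquiv.orderOf_eq _ _).symm
    obtain ⟨m, hm, hma⟩ := exists_conj_mem S hSM hxM hx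
    obtain ⟨m', hm', hmb⟩ := exists_conj_mem S hSM hyM hy2
    obtain ⟨n, hn, e⟩ := h.trans (hpt hma (by rw [hconj2, hx])) (hpt hmb (by rw [hconj2, hy2]))
    have hz : n⁻¹ * m' * g⁻¹ * m⁻¹ ∈ Cg (m * (x : G) * m⁻¹) := by
      rw [mem_Cg]
      have hxy : g⁻¹ * (x : G) * g = y := by
        rw [← hyx]; show g⁻¹ * (g * y * g⁻¹) * g = y; group
      calc n⁻¹ * m' * g⁻¹ * m⁻¹ * (m * (x : G) * m⁻¹)
          = n⁻¹ * (m' * (g⁻¹ * (x : G) * g) * m'⁻¹) * m' * g⁻¹ * m⁻¹ := by group
        _ = n⁻¹ * (m' * y * m'⁻¹) * m' * g⁻¹ * m⁻¹ := by rw [hxy]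
        _ = n⁻¹ * (n * (m * (x : G) * m⁻¹) * n⁻¹) * m' * g⁻¹ * m⁻¹ := by rw [e]
        _ = m * (x : G) * m⁻¹ * (n⁻¹ * m' * g⁻¹ * m⁻¹) := by group
    have hzM : n⁻¹ * m' * g⁻¹ * m⁻¹ ∈ M := hCN _ (hpt hma (by rw [hconj2, hx])) hz
    refine hg ?_
    have h1 := inv_mem (mul_mem (mul_mem (inv_mem hm') (mul_mem (hNS hn) hzM)) hm)
    simpa [mul_assoc] using h1
  -- an involution outside `M`
  obtain ⟨u, hu2, huM⟩ : ∃ u, orderOf u = 2 ∧ u ∉ M := by
    by_contra hcon
    push Not at hcon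
    have hsub : normalClosure ({t} : Set G) ≤ M := by
      rw [normalClosure, closure_le]
      intro z hz
      obtain ⟨w, hw, hwz⟩ := Group.mem_conjugatesOfSet_iff.1 hz
      obtain rfl : w = t := hw
      obtain ⟨c, rfl⟩ := isConj_iff.1 hwz
      exact hcon _ (by rw [hconj2, h.orderOf_pt ht])
    rcases IsSimpleGroup.eq_bot_or_eq_top_of_normal (normalClosure ({t} : Set G)) inferInstance with e1 | e1
    · have := subset_normalClosure (Set.mem_singleton t)
      rw [e1] at this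
      exact ht.2 this
    · exact hMtop (top_le_iff.1 (e1 ▸ hsub))
  have htM : t ∈ M := hSM ht.1
  have hDfacts := fun s (hs : orderOf s = 2) (hsM : s ∈ M) =>
    (Cfsg.Agent.S1225.result M hSE u hu2 huM t s (h.orderOf_pt ht) htM hs hsM).1
  set D := M ⊓ M.map (MulAut.conj u).toMonoidHom with hD
  have hDodd : Odd (Nat.card D) := hSE.2.2 u huM
  -- the section
  have hnsM : ¬ Group.IsSolvable ↥(M ⊓ Cg t) := by rwa [inf_eq_right.2 (hCN t ht)]
  obtain ⟨N, F, iF, jF, hN⟩ := h.exists_section_model ih hSM hMtop htr ht hnsM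
  obtain ⟨p, hp⟩ := CharP.exists F
  haveI := hp
  obtain ⟨f, hp', hF⟩ := FiniteField.card F p
  set π := yπ M
  set tM : M := ⟨t, htM⟩
  set s := π tM with hs
  have hs8 := h.card_ySyl hSM
  have hssq := h.sq_ySyl hSM
  have hspt : Pt (ySyl S hSM) s := h.pt_ySyl hSM ht
  set D' := (D.subgroupOf M).map π with hD'
  have hD'odd : Odd (Nat.card D') := by
    refine Odd.of_dvd_nat ?_ (card_map_dvd _ _)
    rw [Nat.card_congr (subgroupOfEquivOfLe inf_le_left).toEquiv]
    exact hDodd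
  -- `X = D C(s)`
  have hfac : ∀ z, ∃ d ∈ D', d⁻¹ * z ∈ Cg s := by
    intro z
    obtain ⟨m, rfl⟩ := yπ_surjective M z
    obtain ⟨d, hd, e⟩ := hDfacts ((m : G) * t * (m : G)⁻¹) (by rw [hconj2, h.orderOf_pt ht])
      (mul_mem (mul_mem m.2 htM) (inv_mem m.2))
    refine ⟨π ⟨d, hd.1⟩, mem_map_of_mem π (mem_subgroupOf.2 hd), mem_Cg.2 ?_⟩
    rw [hs, ← map_inv, ← map_mul, ← map_mul, ← map_mul]
    refine congrArg π (Subtype.ext ?_)
    show d⁻¹ * (m : G) * t = t * (d⁻¹ * (m : G))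
    calc d⁻¹ * (m : G) * t = d⁻¹ * ((m : G) * t * (m : G)⁻¹) * m := by group
      _ = d⁻¹ * (d * t * d⁻¹) * m := by rw [← e]
      _ = t * (d⁻¹ * (m : G)) := by group
  haveI := hN.normal
  haveI := hN.simple
  have hDdvd := index_dvd_card_of_mul_eq hfac
  -- `X = N C(s)`
  have hsup : N ⊔ Cg s = ⊤ := by
    rw [eq_top_iff]
    intro z _
    have hx : z * s * z⁻¹ ∈ N := hN.normal.conj_mem s (hN.le hspt.1) z
    have hx2 : orderOf (z * s * z⁻¹) = 2 := by
      rw [show z * s * z⁻¹ = MulAut.conj z s from rfl, MulEquiv.orderOf_eq]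
      exact orderOf_eq_prime (by rw [pow_two]; exact hssq s hspt.1) hspt.2
    obtain ⟨n, hn, hns'⟩ := exists_conj_mem (ySyl S hSM) hN.le hx hx2
    let T : Sylow 2 N := (ySyl S hSM).subtype hN.le
    obtain ⟨k, -, -, ek⟩ := transAt_top hN.nonab T ((Nat.card_congr (subgroupOfEquivOfLe hN.le).toEquiv).trans hs8)
      (fun v hv => Subtype.ext (hssq _ hv)) ⟨n * (z * s * z⁻¹) * n⁻¹, hN.le hns'⟩ ⟨s, hN.le hspt.1⟩
      ⟨hns', fun e1 => by
        have e2 : n * (z * s * z⁻¹) * n⁻¹ = 1 := congrArg Subtype.val e1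
        rw [conj_eq_one_iff, conj_eq_one_iff] at e2
        exact hspt.2 e2⟩
      ⟨hspt.1, fun e1 => hspt.2 (congrArg Subtype.val e1)⟩
    have ek' : (k : M ⧸ oddCore M) * (n * (z * s * z⁻¹) * n⁻¹) * (k : M ⧸ oddCore M)⁻¹ = s :=
      congrArg Subtype.val ek
    have hc : (k : M ⧸ oddCore M) * n * z ∈ Cg s := by
      rw [mem_Cg]
      calc (k : M ⧸ oddCore M) * n * z * s
          = (k : M ⧸ oddCore M) * (n * (z * s * z⁻¹) * n⁻¹) * (k : M ⧸ oddCore M)⁻¹ *
              ((k : M ⧸ oddCore M) * n * z) := by group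
        _ = s * ((k : M ⧸ oddCore M) * n * z) := by rw [ek']
    have h1 := mul_mem (mem_sup_left (T := Cg s) (inv_mem (mul_mem k.2 hn))) (mem_sup_right (S := N) hc)
    rwa [show ((k : M ⧸ oddCore M) * n)⁻¹ * ((k : M ⧸ oddCore M) * n * z) = z by group] at h1
  have hNidx : N.index ∣ (f : ℕ) := hN.index_dvd hs8 hssq hspt hsup hp' f.pos hF
  -- the index of `C(s)` is that of `C_N(s)` in `N`
  have hm : (Cg s).index = (N ⊓ Cg s).relIndex N := by
    have h1 : (N ⊓ Cg s).relIndex (Cg s) * (Cg s).index = (N ⊓ Cg s).index := relIndex_mul_index inf_le_right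
    have h2 : (N ⊓ Cg s).relIndex N * N.index = (N ⊓ Cg s).index := relIndex_mul_index inf_le_left
    have h3 : (N ⊓ Cg s).relIndex (Cg s) = N.index := by
      rw [inf_relIndex_right, ← relIndex_top_right, ← hsup, sup_comm, relIndex_sup_right]
    rw [h3, ← h2, mul_comm] at h1
    exact Nat.eq_of_mul_eq_mul_right (Nat.pos_of_ne_zero index_ne_zero_of_finite) h1
  refine false_of_socle_subgroup hs8 hssq hspt hN hp' f.pos hF (D' ⊓ N)
    (hD'odd.of_dvd_nat (card_dvd_of_le inf_le_left)) inf_le_right ?_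
  rw [← hm]
  refine hDdvd.trans ?_
  rw [← Subgroup.card_mul_index ((D' ⊓ N).subgroupOf D'),
    Nat.card_congr (subgroupOfEquivOfLe inf_le_left).toEquiv]
  refine Nat.mul_dvd_mul_left _ (dvd_trans ?_ hNidx)
  show (D' ⊓ N).relIndex D' ∣ N.index
  rw [inf_relIndex_left]
  exact relIndex_dvd_index_of_normal N D'

end Hyp

end Cfsg.Lib.Walter3
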