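import Cfsg.Agent.Lib.Walter3.CentNormal
import Cfsg.Agent.Lib.Walter3.WOne
import Cfsg.Agent.Lib.Walter3.Assembly

/-!
# Trivial cores, given balance, and the induction

`core_eq_bot`: balance gives `W = 1`, so every `O(C(t))` is trivial. The clauses on cores and field parts
for all groups then follow by induction on the order.
-/

set_option autoImplicit false
set_option linter.unusedSectionVars false
set_option linter.style.haveILetI false

namespace Cfsg.Lib.Walter3

open Subgroup Cfsg Matrix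

universe u

local notation "PSL2[" F "]" => Matrix.ProjectiveSpecialLinearGroup (Fin 2) F

/-- In characteristic two the centralizer of an involution of `SL₂` has exponent two. -/
theorem sq_one_of_comm_char_two {F : Type} [Field F] (h2 : (2 : F) = 0) {T A : Matrix (Fin 2) (Fin 2) F}
    (hdT : T.det = 1) (hdA : A.det = 1) (hT : T * T = 1) (hT1 : T ≠ 1) (hc : A * T = T * A) :
    A * A = 1 := by
  have e00 := congrFun (congrFun hT 0) 0
  have e11 := congrFun (congrFun hT 1) 1
  have c00 := congrFun (congrFun hc 0) 0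
  have c01 := congrFun (congrFun hc 0) 1
  have c10 := congrFun (congrFun hc 1) 0
  simp only [Matrix.mul_apply, Fin.sum_univ_two, Matrix.one_apply_eq] at e00 e11
  simp only [Matrix.mul_apply, Fin.sum_univ_two] at c00 c01 c10
  rw [Matrix.det_fin_two] at hdT hdA
  have hps : T 0 0 = T 1 1 := by
    have h0 : (T 0 0 - T 1 1) * (T 0 0 - T 1 1) = 0 := by
      linear_combination e00 + e11 - 2 * hdT + (2 * (T 0 0 * T 1 1) - 2 * (T 0 0 * T 1 1)) * h2 -
        (2 * (T 0 1 * T 1 0)) * h2
    exact sub_eq_zero.1 (mul_self_eq_zero.1 h0)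
  have hor : T 0 1 ≠ 0 ∨ T 1 0 ≠ 0 := by
    by_contra hcon
    push Not at hcon
    apply hT1
    have h1 : T 0 0 = 1 := by
      refine sub_eq_zero.1 (mul_self_eq_zero.1 ?_)
      linear_combination e00 - T 0 1 * hcon.2 + (1 - T 0 0) * h2
    ext i j
    fin_cases i <;> fin_cases j <;> simp [hcon.1, hcon.2, ← hps, h1]
  have had : A 0 0 = A 1 1 := by
    rcases hor with h | h
    · refine sub_eq_zero.1 ((mul_eq_zero.1 ?_).resolve_left h)
      linear_combination c01 + A 0 1 * hps
    · refine sub_eq_zero.1 ((mul_eq_zero.1 ?_).resolve_left h)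
      linear_combination -c10 + A 1 0 * hps
  ext i j
  fin_cases i <;> fin_cases j <;> simp [Matrix.mul_apply, Fin.sum_univ_two]
  · linear_combination hdA + A 0 0 * had + A 0 1 * A 1 0 * h2
  · linear_combination A 0 1 * A 0 0 * h2 - A 0 1 * had
  · linear_combination A 1 0 * A 0 0 * h2 - A 1 0 * had
  · linear_combination hdA - A 1 1 * had + A 1 0 * A 0 1 * h2

/-- In `PSL₂(8)` the centralizer of an involution has exponent two. -/
theorem sq_one_of_comm_eight {F : Type} [Field F] [Fintype F] (h8 : Fintype.card F = 8) {u a : PSL2[F]}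
    (hu : u * u = 1) (hu1 : u ≠ 1) (hc : a * u = u * a) : a * a = 1 := by
  have h2 : (2 : F) = 0 := by
    have h := FiniteField.cast_card_eq_zero F
    rw [h8, Nat.cast_ofNat, show (8 : F) = 2 ^ 3 by norm_num] at h
    exact pow_eq_zero_iff (by norm_num : (3 : ℕ) ≠ 0) |>.1 h
  have hcen : ∀ z : SpecialLinearGroup (Fin 2) F, (QuotientGroup.mk z : PSL2[F]) = 1 → z = 1 := by
    intro z hz
    obtain ⟨r, hr, e⟩ := Matrix.SpecialLinearGroup.mem_center_iff.1 ((QuotientGroup.eq_one_iff z).1 hz)
    simp only [Fintype.card_fin] at hr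
    have hr1 : r = 1 := by
      refine sub_eq_zero.1 (mul_self_eq_zero.1 ?_)
      linear_combination hr + (1 - r) * h2
    subst hr1
    exact Subtype.ext (by simpa using e.symm)
  obtain ⟨T, rfl⟩ := QuotientGroup.mk_surjective u
  obtain ⟨A, rfl⟩ := QuotientGroup.mk_surjective a
  have hT : T * T = 1 := hcen _ hu
  have hT1 : T ≠ 1 := fun e => hu1 (by rw [e, QuotientGroup.mk_one])
  have hAT : A * T = T * A := by
    have := hcen (A * T * (T * A)⁻¹) (by
      rw [QuotientGroup.mk_mul, QuotientGroup.mk_inv, QuotientGroup.mk_mul, QuotientGroup.mk_mul, hc,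
        mul_inv_cancel])
    exact mul_inv_eq_one.1 this
  have hA : A * A = 1 := Subtype.ext (sq_one_of_comm_char_two h2 T.2 A.2
    (congrArg Subtype.val hT) (fun e => hT1 (Subtype.ext e)) (congrArg Subtype.val hAT))
  rw [← QuotientGroup.mk_mul, hA, QuotientGroup.mk_one]

/-- The induction hypothesis on centralizers gives the one on cores. -/
theorem coreFreeBelow_of_cent {n : ℕ} (ih : CentBelow.{u} n) : CoreFreeBelow.{u} n := by
  intro X _ _ _ hn hna T h8 hsq t ht
  haveI : Fact (Nat.Prime 2) := ⟨Nat.prime_two⟩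
  haveI := comm_of_sq hsq
  have hpt : ∀ {x : X}, x ∈ (T : Subgroup X) → orderOf x = 2 → Pt T x := fun {x} hx hx2 =>
    ⟨hx, fun e => by rw [e, orderOf_one] at hx2; omega⟩
  obtain ⟨g, -, hg⟩ := exists_conj_mem T (le_top (a := (T : Subgroup X))) (mem_top t) ht
  have hc2 : ∀ (m x : X), orderOf x = 2 → orderOf (m * x * m⁻¹) = 2 := fun m x h => by
    rw [← h]; exact MulEquiv.orderOf_eq (MulAut.conj m) x
  by_cases hns : Group.IsSolvable ↥(centralizer ({t} : Set X))
  · -- then `X ≅ PSL₂(8)`
    have hall : ∀ x : X, orderOf x = 2 → Group.IsSolvable ↥(centralizer ({x} : Set X)) := by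
      intro x hx
      obtain ⟨k, -, hk⟩ := exists_conj_mem T (le_top (a := (T : Subgroup X))) (mem_top x) hx
      obtain ⟨m, -, -, em⟩ := transAt_top hna T h8 hsq _ _ (hpt hk (hc2 k x hx)) (hpt hg (hc2 g t ht))
      haveI := hns
      have hle : cj (g⁻¹ * m * k) (Cg x) ≤ Cg t := le_of_eq (by
        rw [cj_Cg]
        congr 1
        calc g⁻¹ * m * k * x * (g⁻¹ * m * k)⁻¹ = g⁻¹ * (m * (k * x * k⁻¹) * m⁻¹) * g := by group
          _ = t := by rw [em]; group)
      exact Group.isSolvable_of_isSolvable_injective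
        (f := (inclusion hle).comp
          (equivMapOfInjective (Cg x) _ (MulAut.conj (g⁻¹ * m * k)).injective).toMonoidHom)
        ((inclusion_injective hle).comp (MulEquiv.injective _))
    obtain ⟨F, i, j, h8F, ⟨φ⟩⟩ := exists_iso_of_solvable hna T h8 hall
    rw [eq_bot_iff]
    intro c hc
    have hodd := AbTwo.odd_oddCore (G := ↥(centralizer ({t} : Set X)))
    have hc2' : (c : X) * c = 1 := by
      apply φ.injective
      rw [map_mul, map_one]
      exact sq_one_of_comm_eight h8F (u := φ t) (a := φ (c : X))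
        (by rw [← map_mul, show t * t = 1 by rw [← pow_two, ← ht, pow_orderOf_eq_one], map_one])
        (fun e => by rw [φ.map_eq_one_iff.1 e, orderOf_one] at ht; omega)
        (by rw [← map_mul, ← map_mul, mem_centralizer_singleton_iff.1 c.2])
    have ho : orderOf c ∣ Nat.gcd 2 (Nat.card ↥(oddCore ↥(centralizer ({t} : Set X)))) := Nat.dvd_gcd
      (orderOf_dvd_of_pow_eq_one (Subtype.ext (by rw [Subgroup.coe_pow, pow_two, hc2']; rfl)))
      (by rw [← Subgroup.orderOf_mk c hc]; exact orderOf_dvd_natCard _)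
    rw [Nat.Coprime.gcd_eq_one (Nat.coprime_two_left.2 hodd), Nat.dvd_one, orderOf_eq_one_iff] at ho
    exact mem_bot.2 ho
  · -- then `C(t) ≅ 2 × PSL₂(q)`
    obtain ⟨P, hPt, hP8, hPsq⟩ : ∃ P : Sylow 2 X, t ∈ (P : Subgroup X) ∧ Nat.card (P : Subgroup X) = 8 ∧
        ∀ v ∈ (P : Subgroup X), v * v = 1 := by
      refine ⟨g⁻¹ • T, ?_, ?_, ?_⟩
      · rw [Sylow.coe_subgroup_smul]
        exact ⟨_, hg, by show g⁻¹ * (g * t * g⁻¹) * g⁻¹⁻¹ = t; group⟩
      · rw [Sylow.coe_subgroup_smul, ← h8]
        exact Nat.card_congr (equivMapOfInjective _ _ (MulAut.conj g⁻¹).injective).toEquiv.symm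
      · intro v hv
        rw [Sylow.coe_subgroup_smul] at hv
        obtain ⟨w, hw, rfl⟩ := hv
        show g⁻¹ * w * g⁻¹⁻¹ * (g⁻¹ * w * g⁻¹⁻¹) = 1
        rw [show g⁻¹ * w * g⁻¹⁻¹ * (g⁻¹ * w * g⁻¹⁻¹) = g⁻¹ * (w * w) * g by group, hsq w hw]
        group
    have ht1 : t ≠ 1 := fun e => by rw [e, orderOf_one] at ht; omega
    obtain ⟨F, i, j, h3, ⟨e⟩⟩ := ih X hn hna P hP8 ⟨comm_of_sq hPsq, fun a ha => by rw [pow_two]; exact hPsq a ha⟩
      (automizer_eq_twentyone hna P hP8 hPsq hPt ht1 hns) t ht hPt hns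
    obtain ⟨K, iK, jK, h38, h5, ⟨eK⟩, -⟩ := exists_odd_model e h3 hns (fun h16 => by
      refine P.not_dvd_index ?_
      have h16' := h16.trans (card_subgroup_dvd_card _)
      rw [← (P : Subgroup X).card_mul_index, hP8] at h16'
      exact Nat.dvd_of_mul_dvd_mul_left (by norm_num : 0 < 8) (show 8 * 2 ∣ 8 * _ from h16'))
    exact odd_normal_eq_bot eK (by omega) AbTwo.odd_oddCore

namespace Hyp

variable {G : Type u} [Group G] [Finite G] {S : Sylow 2 G} (h : Hyp S)
include h

theorem not_solvable_cent {t a : G} (ht : Pt S t) (ha : Pt S a) (hns : ¬ Group.IsSolvable ↥(Cg t)) :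
    ¬ Group.IsSolvable ↥(Cg a) := by
  intro hs
  apply hns
  obtain ⟨n, -, e⟩ := h.trans ht ha
  haveI := hs
  have hle : cj n (Cg t) ≤ Cg a := le_of_eq (by rw [cj_Cg, e])
  exact Group.isSolvable_of_isSolvable_injective
    (f := (inclusion hle).comp (equivMapOfInjective (Cg t) _ (MulAut.conj n).injective).toMonoidHom)
    ((inclusion_injective hle).comp (MulEquiv.injective _))

/-- Balance makes all cores trivial. -/
theorem core_eq_bot (hbal : Balanced S) (ih : CentBelow.{u} (Nat.card G)) {t : G} (ht : Pt S t)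
    (hns : ¬ Group.IsSolvable ↥(Cg t)) : Og t = ⊥ :=
  le_bot_iff.1 (h.compl3_eq_bot hbal ih ht hns (fun _ ha =>
    h.cent_le_normalizer hbal ih ha (h.not_solvable_cent ht ha hns)) ▸ Og_le_compl3 ht)

end Hyp

variable {G : Type u} [Group G] [Finite G]

/-- Balance gives the clause on cores. -/
theorem coreClause_of_balance [IsSimpleGroup G] (hna : ¬ IsMulCommutative G)
    (hbal : ∀ S : Sylow 2 G, Hyp S → ∀ t, Pt S t → ¬ Group.IsSolvable ↥(Cg t) →
      CoreFreeBelow.{u} (Nat.card G) → Balanced S)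
    (ih : CentBelow.{u} (Nat.card G)) : CoreClause G := by
  intro S h8 hel h21 t ht2 htS hns
  have h : Hyp S := ⟨inferInstance, hna, h8, fun x hx => by rw [← pow_two]; exact hel.2 x hx, h21⟩
  have ht : Pt S t := ⟨htS, fun e => by rw [e, orderOf_one] at ht2; omega⟩
  have hO := h.core_eq_bot (hbal S h t ht hns (coreFreeBelow_of_cent ih)) ih ht hns
  exact (Subgroup.map_eq_bot_iff_of_injective _ (centralizer ({t} : Set G)).subtype_injective).1 hO

/-- The induction: balance and the field clause give the clause on centralizers in all simple groups. -/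
theorem centClause_of_all
    (hbal : ∀ (X : Type u) [Group X] [Finite X] [IsSimpleGroup X], ¬ IsMulCommutative X →
      ∀ S : Sylow 2 X, Hyp S → ∀ t, Pt S t → ¬ Group.IsSolvable ↥(Cg t) →
        CoreFreeBelow.{u} (Nat.card X) → Balanced S)
    (hfield : ∀ (X : Type u) [Group X] [Finite X] [IsSimpleGroup X], ¬ IsMulCommutative X →
      CentBelow.{u} (Nat.card X) → FieldClause X) :
    ∀ (X : Type u) [Group X] [Finite X] [IsSimpleGroup X], ¬ IsMulCommutative X → CentClause X := by
  intro X _ _ _ hna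
  induction hn : Nat.card X using Nat.strong_induction_on generalizing X with
  | _ n ih =>
    subst hn
    have hb : CentBelow.{u} (Nat.card X) := fun Y _ _ _ hlt hnaY => ih _ hlt Y hnaY rfl
    exact centClause_of hna (coreClause_of_balance hna (hbal X hna) hb) (hfield X hna hb)

end Cfsg.Lib.Walter3
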