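import Cfsg.Agent.Lib.Walter3.LocalData
import Cfsg.Agent.Lib.Walter3.Balance

/-!
# The clause on cores, and the clause on centralizers given the one on field parts
-/

set_option autoImplicit false

namespace Cfsg.Lib.Walter3

open Subgroup Cfsg

universe u

/-- Balance, given cores trivial below. -/
theorem Hyp.balanced {G : Type u} [Group G] [Finite G] {S : Sylow 2 G} (h : Hyp S) {t : G} (ht : Pt S t)
    (hns : ¬ Group.IsSolvable ↥(Cg t)) (hbelow : CoreFreeBelow.{u} (Nat.card G)) : Balanced S :=
  fun _ _ ha hb => h.balance (h.torusData ht hns) hbelow (h.faithfulData ht hns) (h.torusFixData ht hns) ha hb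

/-- The clause on cores. -/
theorem coreClause {G : Type u} [Group G] [Finite G] [IsSimpleGroup G] (hna : ¬ IsMulCommutative G)
    (ih : CentBelow.{u} (Nat.card G)) : CoreClause G :=
  coreClause_of_balance hna (fun _ h _ ht hns hb => h.balanced ht hns hb) ih

/-- The clause on centralizers in all simple groups, given the one on field parts. -/
theorem centClause_of_field
    (hfield : ∀ (X : Type u) [Group X] [Finite X] [IsSimpleGroup X], ¬ IsMulCommutative X →
      CentBelow.{u} (Nat.card X) → FieldClause X) :
    ∀ (X : Type u) [Group X] [Finite X] [IsSimpleGroup X], ¬ IsMulCommutative X → CentClause X :=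
  centClause_of_all (fun _ _ _ _ _ _ h _ ht hns hb => h.balanced ht hns hb) hfield

end Cfsg.Lib.Walter3
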