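import Cfsg.Agent.Lib.E8Cent.Auto
import Cfsg.Agent.Lib.AbTwo.Basic
import Cfsg.Agent.Lib.Coprime.Action
import Cfsg.Prelude.Def_CaseTheorems

/-!
# Simple groups with an elementary abelian Sylow two-subgroup of order eight: the setting

The nonidentity elements of the Sylow subgroup `S` are the points, its subgroups of order four
the lines. `Og a` is the odd core of the centralizer of the point `a`.
-/

set_option autoImplicit false
set_option linter.unusedSectionVars false
set_option linter.style.haveILetI false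

namespace Cfsg.Lib.Walter3

open Subgroup Cfsg
open scoped commutatorElement

universe u

variable {G : Type u} [Group G]

/-- The conjugate of a subgroup. -/
abbrev cj (g : G) (Q : Subgroup G) : Subgroup G := Q.map (MulAut.conj g).toMonoidHom

theorem mem_cj {g x : G} {Q : Subgroup G} : x ∈ cj g Q ↔ g⁻¹ * x * g ∈ Q := by
  rw [cj, mem_map_equiv, MulAut.conj_symm_apply]

theorem conj_mem_cj {g x : G} {Q : Subgroup G} (h : x ∈ Q) : g * x * g⁻¹ ∈ cj g Q :=
  ⟨x, h, rfl⟩

theorem cj_mono {g : G} {Q R : Subgroup G} (h : Q ≤ R) : cj g Q ≤ cj g R := map_mono h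

theorem cj_cj (g k : G) (Q : Subgroup G) : cj g (cj k Q) = cj (g * k) Q := by
  ext x
  simp only [mem_cj, mul_inv_rev, mul_assoc]

theorem cj_one (Q : Subgroup G) : cj 1 Q = Q := by
  ext x
  simp [mem_cj]

theorem cj_inv_cj (g : G) (Q : Subgroup G) : cj g⁻¹ (cj g Q) = Q := by
  rw [cj_cj, inv_mul_cancel, cj_one]

theorem card_cj (g : G) (Q : Subgroup G) : Nat.card (cj g Q) = Nat.card Q :=
  Cfsg.Lib.Coprime.card_map_conj Q g

theorem cj_eq_self {g : G} {Q : Subgroup G} (h : g ∈ normalizer (Q : Set G)) : cj g Q = Q :=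
  Cfsg.Lib.Coprime.map_conj_eq_self h

theorem mem_normalizer_of_cj_eq {g : G} {Q : Subgroup G} (h : cj g Q = Q) :
    g ∈ normalizer (Q : Set G) :=
  mem_normalizer_iff_map_conj_eq.2 h

theorem cj_inf (g : G) (Q R : Subgroup G) : cj g (Q ⊓ R) = cj g Q ⊓ cj g R :=
  map_inf _ _ _ (MulAut.conj g).injective

theorem cj_centralizer (g : G) (X : Subgroup G) :
    cj g (centralizer (X : Set G)) = centralizer (cj g X : Set G) := by
  ext x
  simp only [mem_cj, mem_centralizer_iff, SetLike.mem_coe]
  constructor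
  · rintro h y hy
    have := congrArg (fun z => g * z * g⁻¹) (h _ hy)
    simpa [mul_assoc] using this
  · intro h y hy
    have := congrArg (fun z => g⁻¹ * z * g) (h (g * y * g⁻¹) (by simpa [mul_assoc] using hy))
    simpa [mul_assoc] using this

theorem cj_commutator (g : G) (Q R : Subgroup G) : cj g ⁅Q, R⁆ = ⁅cj g Q, cj g R⁆ :=
  map_commutator _ _ _

/-- The odd core of a subgroup, inside the group. -/
noncomputable def cor (Y : Subgroup G) : Subgroup G := (Cfsg.oddCore ↥Y).map Y.subtype

theorem cor_le (Y : Subgroup G) : cor Y ≤ Y := map_subtype_le _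

/-- The centralizer of an element. -/
abbrev Cg (a : G) : Subgroup G := centralizer ({a} : Set G)

theorem mem_Cg {a x : G} : x ∈ Cg a ↔ x * a = a * x := mem_centralizer_singleton_iff

/-- The odd core of the centralizer of an element. -/
noncomputable abbrev Og (a : G) : Subgroup G := cor (Cg a)

/-- A line of the plane on `S`. -/
structure IsLine (S H : Subgroup G) : Prop where
  le : H ≤ S
  card : Nat.card H = 4

variable [Finite G]

theorem odd_cor (Y : Subgroup G) : Odd (Nat.card (cor Y)) := by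
  rw [cor, Core.card_map_subtype]; exact AbTwo.odd_oddCore

theorem le_normalizer_cor (Y : Subgroup G) : Y ≤ normalizer (cor Y : Set G) := by
  intro g hg
  refine Fusion.le_normalizer_of_conj_mem fun x hx => ?_
  obtain ⟨y, hy, rfl⟩ := hx
  exact ⟨⟨g, hg⟩ * y * ⟨g, hg⟩⁻¹, (inferInstance : (Cfsg.oddCore ↥Y).Normal).conj_mem _ hy _, rfl⟩

theorem le_cor {Y K : Subgroup G} (hK : K ≤ Y) (hodd : Odd (Nat.card K))
    (hn : Y ≤ normalizer (K : Set G)) : K ≤ cor Y := by
  haveI : (K.subgroupOf Y).Normal := (normal_subgroupOf_iff_le_normalizer hK).2 hn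
  have h : K.subgroupOf Y ≤ Cfsg.oddCore ↥Y := Core.le_pPrimeCore' inferInstance (by
    rw [Nat.card_congr (subgroupOfEquivOfLe hK).toEquiv]
    exact Nat.coprime_two_right.2 hodd)
  intro x hx
  exact ⟨⟨x, hK hx⟩, h (mem_subgroupOf.2 hx), rfl⟩

theorem cj_cor_le (g : G) (Y : Subgroup G) : cj g (cor Y) ≤ cor (cj g Y) := by
  refine le_cor (cj_mono (cor_le Y)) (by rw [card_cj]; exact odd_cor Y) ?_
  intro x hx
  refine Fusion.le_normalizer_of_conj_mem fun y hy => ?_
  rw [mem_cj] at hx hy ⊢
  have := (mem_normalizer_iff.1 (le_normalizer_cor Y hx) _).1 hy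
  simpa [mul_assoc] using this

theorem cj_cor (g : G) (Y : Subgroup G) : cj g (cor Y) = cor (cj g Y) := by
  refine le_antisymm (cj_cor_le g Y) ?_
  have h := cj_mono (g := g) (cj_cor_le g⁻¹ (cj g Y))
  rwa [cj_inv_cj, cj_cj, mul_inv_cancel, cj_one] at h

theorem normalizer_le_normalizer_cor (Y : Subgroup G) :
    normalizer (Y : Set G) ≤ normalizer (cor Y : Set G) := fun g hg =>
  mem_normalizer_of_cj_eq (by rw [cj_cor, cj_eq_self hg])

theorem cj_Cg (g a : G) : cj g (Cg a) = Cg (g * a * g⁻¹) := by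
  ext x
  rw [mem_cj, mem_Cg, mem_Cg]
  constructor
  · intro h
    calc x * (g * a * g⁻¹) = g * (g⁻¹ * x * g * a) * g⁻¹ := by group
      _ = g * (a * (g⁻¹ * x * g)) * g⁻¹ := by rw [h]
      _ = g * a * g⁻¹ * x := by group
  · intro h
    calc g⁻¹ * x * g * a = g⁻¹ * (x * (g * a * g⁻¹)) * g := by group
      _ = g⁻¹ * (g * a * g⁻¹ * x) * g := by rw [h]
      _ = a * (g⁻¹ * x * g) := by group

theorem cj_Og (g a : G) : cj g (Og a) = Og (g * a * g⁻¹) := by
  rw [Og, cj_cor, cj_Cg]

variable (S : Sylow 2 G)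

/-- The hypotheses: a simple group whose Sylow two-subgroup is elementary of order eight with
automizer of order twenty-one. -/
structure Hyp : Prop where
  simple : IsSimpleGroup G
  nonab : ¬ IsMulCommutative G
  card : Nat.card (S : Subgroup G) = 8
  sq : ∀ x ∈ (S : Subgroup G), x * x = 1
  aut : Nat.card (E8Cent.automizer S) = 21

/-- A point of the plane. -/
def Pt (a : G) : Prop := a ∈ (S : Subgroup G) ∧ a ≠ 1

/-- The line `H` is excited at `x` by `Q`. -/
def Exc (Q H : Subgroup G) (x : G) : Prop :=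
  ¬ ⁅Q ⊓ centralizer (H : Set G), (S : Subgroup G)⁆ ≤ Og x

/-- All elements of `Y` normalizing `S` fix `w`. -/
def FixAt (Y : Subgroup G) (w : G) : Prop :=
  ∀ n ∈ Y, n ∈ normalizer ((S : Subgroup G) : Set G) → n * w * n⁻¹ = w

/-- The elements of `Y` normalizing `S` are transitive on the points. -/
def TransAt (Y : Subgroup G) : Prop :=
  ∀ a b : G, Pt S a → Pt S b →
    ∃ n ∈ Y, n ∈ normalizer ((S : Subgroup G) : Set G) ∧ n * a * n⁻¹ = b

/-- The element `n` normalizes `S` and induces a nontrivial rotation about `w`. -/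
structure Rot (n w : G) : Prop where
  norm : n ∈ normalizer ((S : Subgroup G) : Set G)
  fix : n * w * n⁻¹ = w
  move : n ∉ centralizer ((S : Subgroup G) : Set G)

/-- The facts about the centralizers of the points used for balance: a `p`-group normalized by `S`
is centralized, modulo the odd core, by a line. -/
def Torus : Prop :=
  ∀ p : ℕ, p.Prime → p ≠ 2 → ∀ x, Pt S x → ∀ Q : Subgroup G, Q ≤ Cg x → IsPGroup p Q →
    (S : Subgroup G) ≤ normalizer (Q : Set G) →
      ∃ H, IsLine (S : Subgroup G) H ∧ x ∈ H ∧ ⁅Q, H⁆ ≤ Og x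

/-- An odd element centralizing `S` and, modulo the odd core, one torus at `x` lies in the core. -/
def Faithful : Prop :=
  ∀ x, Pt S x → ∀ H, IsLine (S : Subgroup G) H → x ∈ H →
    ∀ y ∈ cor (centralizer ((S : Subgroup G) : Set G)),
      (∀ d ∈ ⁅cor (centralizer (H : Set G)), (S : Subgroup G)⁆, ⁅d, y⁆ ∈ Og x) → y ∈ Og x

/-- The torus at `x` has no fixed point of the Sylow subgroup outside the odd core. -/
def TorusFix : Prop :=
  ∀ x, Pt S x → ∀ H, IsLine (S : Subgroup G) H → x ∈ H →
    ⁅cor (centralizer (H : Set G)), (S : Subgroup G)⁆ ⊓ centralizer ((S : Subgroup G) : Set G) ≤ Og x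

/-- The induction hypothesis: in smaller simple groups with such Sylow subgroups the centralizers
of involutions have trivial odd core. -/
def CoreFreeBelow (n : ℕ) : Prop :=
  ∀ (X : Type u) [Group X] [Finite X] [IsSimpleGroup X], Nat.card X < n → ¬ IsMulCommutative X →
    ∀ T : Sylow 2 X, Nat.card (T : Subgroup X) = 8 → (∀ x ∈ (T : Subgroup X), x * x = 1) →
      ∀ t : X, orderOf t = 2 → Cfsg.oddCore ↥(centralizer ({t} : Set X)) = ⊥

end Cfsg.Lib.Walter3
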