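import Cfsg.Agent.Lib.Walter3.Def

/-!
# The plane on the Sylow subgroup
-/

set_option autoImplicit false
set_option linter.unusedSectionVars false
set_option linter.style.haveILetI false

namespace Cfsg.Lib.Walter3

open Subgroup Cfsg

universe u

theorem conj_two {G : Type u} [Group G] (n a : G) : n ^ 2 * a * (n ^ 2)⁻¹ = n * (n * a * n⁻¹) * n⁻¹ := by
  simp [pow_two, mul_assoc]

theorem conj_cube {G : Type u} [Group G] (n a : G) :
    n ^ 3 * a * (n ^ 3)⁻¹ = n * (n * (n * a * n⁻¹) * n⁻¹) * n⁻¹ := by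
  simp [pow_succ, mul_assoc]

variable {G : Type u} [Group G] [Finite G] {S : Sylow 2 G} (h : Hyp S)
include h

namespace Hyp

theorem inv_eq {x : G} (hx : x ∈ (S : Subgroup G)) : x⁻¹ = x :=
  inv_eq_of_mul_eq_one_right (h.sq x hx)

theorem comm {a b : G} (ha : a ∈ (S : Subgroup G)) (hb : b ∈ (S : Subgroup G)) : a * b = b * a := by
  calc a * b = (a * b)⁻¹ := (h.inv_eq (mul_mem ha hb)).symm
    _ = b * a := by rw [mul_inv_rev, h.inv_eq ha, h.inv_eq hb]

theorem isMulCommutative : IsMulCommutative (S : Subgroup G) :=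
  ⟨⟨fun a b => Subtype.ext (h.comm a.2 b.2)⟩⟩

theorem elementary : IsElementaryAbelian 2 (S : Subgroup G) :=
  ⟨h.isMulCommutative, fun x hx => by rw [pow_two, h.sq x hx]⟩

theorem orderOf_pt {a : G} (ha : Pt S a) : orderOf a = 2 := by
  haveI : Fact (Nat.Prime 2) := ⟨Nat.prime_two⟩
  exact orderOf_eq_prime (by rw [pow_two, h.sq a ha.1]) ha.2

theorem le_Cg {a : G} (ha : a ∈ (S : Subgroup G)) : (S : Subgroup G) ≤ Cg a :=
  fun _ hx => mem_Cg.2 (h.comm hx ha)

theorem conj_pt {n a : G} (hn : n ∈ normalizer ((S : Subgroup G) : Set G)) (ha : Pt S a) :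
    Pt S (n * a * n⁻¹) :=
  ⟨(mem_normalizer_iff.1 hn a).1 ha.1, fun e => ha.2 (conj_eq_one_iff.1 e)⟩

/-- The automorphism induced by a normalizing element. -/
noncomputable def act {n : G} (hn : n ∈ normalizer ((S : Subgroup G) : Set G)) : E8Cent.automizer S :=
  (fun _ => ⟨(S : Subgroup G).normalizerMonoidHom ⟨n, hn⟩, ⟨⟨n, hn⟩, rfl⟩⟩) h

theorem act_apply {n : G} (hn : n ∈ normalizer ((S : Subgroup G) : Set G)) (s : (S : Subgroup G)) :
    (((h.act hn : E8Cent.automizer S) : MulAut (S : Subgroup G)) s : G) = n * s * n⁻¹ := rfl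

theorem act_smul {n : G} (hn : n ∈ normalizer ((S : Subgroup G) : Set G)) (s : (S : Subgroup G)) :
    ((h.act hn • s : (S : Subgroup G)) : G) = n * s * n⁻¹ := rfl

theorem act_mul {n m : G} (hn : n ∈ normalizer ((S : Subgroup G) : Set G))
    (hm : m ∈ normalizer ((S : Subgroup G) : Set G)) :
    h.act (mul_mem hn hm) = h.act hn * h.act hm :=
  Subtype.ext (map_mul (S : Subgroup G).normalizerMonoidHom (⟨n, hn⟩ : normalizer ((S : Subgroup G) : Set G)) (⟨m, hm⟩ : normalizer ((S : Subgroup G) : Set G)))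

theorem act_pow {n : G} (hn : n ∈ normalizer ((S : Subgroup G) : Set G)) (k : ℕ) :
    h.act (pow_mem hn k) = h.act hn ^ k :=
  Subtype.ext (map_pow (S : Subgroup G).normalizerMonoidHom (⟨n, hn⟩ : normalizer ((S : Subgroup G) : Set G)) k)

theorem act_eq_one {n : G} (hn : n ∈ normalizer ((S : Subgroup G) : Set G)) :
    h.act hn = 1 ↔ n ∈ centralizer ((S : Subgroup G) : Set G) := by
  rw [mem_centralizer_iff]
  constructor
  · intro e s hs
    have h1 := h.act_apply hn ⟨s, hs⟩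
    rw [e] at h1
    have h2 : s = n * s * n⁻¹ := h1
    conv_lhs => rw [h2]
    group
  · intro e
    refine Subtype.ext (MulEquiv.ext fun s => Subtype.ext ?_)
    rw [h.act_apply hn]
    show n * (s : G) * n⁻¹ = s
    rw [← e s s.2]; group

theorem exists_act (α : E8Cent.automizer S) :
    ∃ (n : G) (hn : n ∈ normalizer ((S : Subgroup G) : Set G)), h.act hn = α := by
  obtain ⟨⟨n, hn⟩, e⟩ := α.2
  exact ⟨n, hn, Subtype.ext e⟩

theorem mem_stab {n a : G} (hn : n ∈ normalizer ((S : Subgroup G) : Set G))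
    (ha : a ∈ (S : Subgroup G)) (e : n * a * n⁻¹ = a) :
    h.act hn ∈ MulAction.stabilizer (E8Cent.automizer S) (⟨a, ha⟩ : (S : Subgroup G)) :=
  MulAction.mem_stabilizer_iff.2 (Subtype.ext ((h.act_smul hn ⟨a, ha⟩).trans e))

theorem card_stab {a : G} (ha : Pt S a) :
    Nat.card (MulAction.stabilizer (E8Cent.automizer S) (⟨a, ha.1⟩ : (S : Subgroup G))) = 3 := by
  haveI := h.isMulCommutative
  exact E8Cent.card_stabilizer_of_21 h.card h.elementary h.aut fun e => ha.2 (congrArg Subtype.val e)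

theorem trans {a b : G} (ha : Pt S a) (hb : Pt S b) :
    ∃ n ∈ normalizer ((S : Subgroup G) : Set G), n * a * n⁻¹ = b := by
  haveI := h.isMulCommutative
  obtain ⟨α, hα⟩ := E8Cent.transitive_of_seven h.card h.elementary (h.aut ▸ by norm_num)
    (s := (⟨b, hb.1⟩ : (S : Subgroup G))) (t := ⟨a, ha.1⟩)
    (fun e => hb.2 (congrArg Subtype.val e)) (fun e => ha.2 (congrArg Subtype.val e))
  obtain ⟨n, hn, rfl⟩ := h.exists_act α
  exact ⟨n, hn, (h.act_smul hn ⟨a, ha.1⟩).symm.trans (congrArg Subtype.val hα)⟩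

theorem cube_fix {n w : G} (hn : n ∈ normalizer ((S : Subgroup G) : Set G)) (hw : Pt S w)
    (e : n * w * n⁻¹ = w) : n ^ 3 ∈ centralizer ((S : Subgroup G) : Set G) := by
  rw [← h.act_eq_one (pow_mem hn 3), h.act_pow hn]
  have := pow_card_eq_one' (x := (⟨h.act hn, h.mem_stab hn hw.1 e⟩ :
    MulAction.stabilizer (E8Cent.automizer S) (⟨w, hw.1⟩ : (S : Subgroup G))))
  rw [h.card_stab hw] at this
  exact congrArg Subtype.val this

theorem rot_exists {w : G} (hw : Pt S w) : ∃ n, Rot S n w := by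
  haveI : Fact (Nat.Prime 3) := ⟨Nat.prime_three⟩
  obtain ⟨α, hα⟩ := exists_prime_orderOf_dvd_card'
    (G := MulAction.stabilizer (E8Cent.automizer S) (⟨w, hw.1⟩ : (S : Subgroup G))) 3
    (dvd_of_eq (h.card_stab hw).symm)
  obtain ⟨n, hn, e⟩ := h.exists_act α.1
  refine ⟨n, hn, ?_, fun hc => ?_⟩
  · have := congrArg Subtype.val (MulAction.mem_stabilizer_iff.1 α.2)
    rw [← e] at this
    exact (h.act_smul hn ⟨w, hw.1⟩).symm.trans this
  · rw [← h.act_eq_one hn, e] at hc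
    rw [← Subgroup.orderOf_coe, hc, orderOf_one] at hα
    omega

/-- An element fixing two points centralizes `S`. -/
theorem fix_two {n a b : G} (hn : n ∈ normalizer ((S : Subgroup G) : Set G)) (ha : Pt S a) (hb : Pt S b)
    (hab : a ≠ b) (ea : n * a * n⁻¹ = a) (eb : n * b * n⁻¹ = b) :
    n ∈ centralizer ((S : Subgroup G) : Set G) := by
  haveI : Fact (Nat.Prime 3) := ⟨Nat.prime_three⟩
  by_contra hc
  set α := h.act hn with hα
  have h3 : α ^ 3 = 1 := by
    rw [hα, ← h.act_pow hn, h.act_eq_one]; exact h.cube_fix hn ha ea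
  have hp : IsPGroup 3 (zpowers α) := by
    refine fun g => ⟨1, ?_⟩
    obtain ⟨k, hk⟩ := g.2
    refine Subtype.ext ?_
    show (g : E8Cent.automizer S) ^ (3 ^ 1) = 1
    rw [← hk, pow_one, ← zpow_natCast, ← zpow_mul, mul_comm, zpow_mul, zpow_natCast, h3, one_zpow]
  let F : Subgroup (S : Subgroup G) :=
    { carrier := MulAction.fixedPoints (zpowers α) (S : Subgroup G)
      one_mem' := fun g => map_one _
      mul_mem' := fun {x y} hx hy g => by
        show ((g : E8Cent.automizer S) : MulAut (S : Subgroup G)) (x * y) = x * y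
        rw [map_mul]
        exact congrArg₂ (· * ·) (hx g) (hy g)
      inv_mem' := fun {x} hx g => by
        show ((g : E8Cent.automizer S) : MulAut (S : Subgroup G)) x⁻¹ = x⁻¹
        rw [map_inv]
        exact congrArg _ (hx g) }
  have hmem : ∀ x : (S : Subgroup G), n * (x : G) * n⁻¹ = x → x ∈ F := by
    intro x hx g
    have hfix : α ∈ MulAction.stabilizer (E8Cent.automizer S) x :=
      MulAction.mem_stabilizer_iff.2 (Subtype.ext ((h.act_smul hn x).trans hx))
    exact MulAction.mem_stabilizer_iff.1 ((zpowers_le.2 hfix) g.2)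
  have hmod := hp.card_modEq_card_fixedPoints (S : Subgroup G)
  rw [h.card, show Nat.card (MulAction.fixedPoints (zpowers α) (S : Subgroup G)) = Nat.card F
    from rfl] at hmod
  have hd : Nat.card F ∣ 2 ^ 3 := (card_subgroup_dvd_card F).trans (by rw [h.card]; norm_num)
  have h3le : 3 ≤ Nat.card F := by
    classical
    haveI : Fintype F := Fintype.ofFinite F
    have hl : ([1, ⟨⟨a, ha.1⟩, hmem _ ea⟩, ⟨⟨b, hb.1⟩, hmem _ eb⟩] : List F).Nodup := by
      have a1 : (⟨a, ha.1⟩ : (S : Subgroup G)) ≠ 1 := fun e => ha.2 (congrArg Subtype.val e)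
      have b1 : (⟨b, hb.1⟩ : (S : Subgroup G)) ≠ 1 := fun e => hb.2 (congrArg Subtype.val e)
      simp [Subtype.ext_iff, hab, Ne.symm ha.2, Ne.symm hb.2]
    have := hl.length_le_card
    rwa [← Nat.card_eq_fintype_card] at this
  obtain ⟨i, hi, hF⟩ := (Nat.dvd_prime_pow Nat.prime_two).1 hd
  have hF8 : Nat.card F = Nat.card (S : Subgroup G) := by
    rw [hF] at hmod h3le
    rw [hF, h.card]
    interval_cases i <;> simp_all [Nat.ModEq]
  refine hc ((h.act_eq_one hn).1 (Subtype.ext (MulEquiv.ext fun x => ?_)))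
  have hx : x ∈ F := (eq_top_of_card_eq F hF8) ▸ mem_top x
  exact hx ⟨α, mem_zpowers α⟩

theorem eq_of_fix {n w a : G} (hn : Rot S n w) (hw : Pt S w) (ha : Pt S a)
    (e : n * a * n⁻¹ = a) : a = w := by
  by_contra hne
  exact hn.move (h.fix_two hn.norm ha hw hne e hn.fix)

theorem line_pts {H : Subgroup G} (hH : IsLine (S : Subgroup G) H) {a b : G} (ha : a ∈ H) (hb : b ∈ H)
    (a1 : a ≠ 1) (b1 : b ≠ 1) (hab : a ≠ b) {x : G} :
    x ∈ H ↔ x = 1 ∨ x = a ∨ x = b ∨ x = a * b := by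
  classical
  have h4 : a * b ≠ 1 := fun e => hab (((mul_eq_one_iff_eq_inv.1 e)).trans (h.inv_eq (hH.le hb)))
  have e : ({1, a, b, a * b} : Finset G).card = 4 := by
    rw [Finset.card_insert_of_notMem, Finset.card_insert_of_notMem, Finset.card_pair]
    · intro e; exact a1 (mul_right_cancel (e.symm.trans (one_mul b).symm))
    · simp only [Finset.mem_insert, Finset.mem_singleton, not_or]
      exact ⟨hab, fun e => b1 (left_eq_mul.1 e)⟩
    · simp only [Finset.mem_insert, Finset.mem_singleton, not_or]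
      exact ⟨fun e => a1 e.symm, fun e => b1 e.symm, fun e => h4 e.symm⟩
  have hset : ((({1, a, b, a * b} : Finset G) : Set G)) = (H : Set G) := by
    refine Set.eq_of_subset_of_ncard_le ?_ ?_
    · intro y hy
      simp only [Finset.coe_insert, Finset.coe_singleton, Set.mem_insert_iff,
        Set.mem_singleton_iff] at hy
      rcases hy with rfl | rfl | rfl | rfl
      exacts [one_mem H, ha, hb, mul_mem ha hb]
    · rw [Set.ncard_coe_finset, e, ← Nat.card_coe_set_eq]
      exact hH.card.le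
  rw [← SetLike.mem_coe, ← hset]
  simp

theorem line_of {a b : G} (ha : Pt S a) (hb : Pt S b) (hab : a ≠ b) :
    ∃ H, IsLine (S : Subgroup G) H ∧ a ∈ H ∧ b ∈ H := by
  classical
  have hcm : a * b = b * a := h.comm ha.1 hb.1
  have h1 := h.sq a ha.1
  have h2 := h.sq b hb.1
  let H : Subgroup G :=
    { carrier := {x | x = 1 ∨ x = a ∨ x = b ∨ x = a * b}
      one_mem' := Or.inl rfl
      mul_mem' := by
        have k1 : a * (a * b) = b := by rw [← mul_assoc, h1, one_mul]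
        have k2 : b * (a * b) = a := by rw [hcm, ← mul_assoc, h2, one_mul]
        have k3 : a * b * a = b := by rw [hcm, mul_assoc, h1, mul_one]
        have k4 : a * b * b = a := by rw [mul_assoc, h2, mul_one]
        have k5 : a * b * (a * b) = 1 := h.sq _ (mul_mem ha.1 hb.1)
        rintro x y (rfl | rfl | rfl | rfl) (rfl | rfl | rfl | rfl)
        all_goals simp [h1, h2, k1, k2, k3, k4, k5, hcm.symm]
      inv_mem' := by
        rintro x (rfl | rfl | rfl | rfl)
        · exact Or.inl inv_one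
        · exact Or.inr (Or.inl (h.inv_eq ha.1))
        · exact Or.inr (Or.inr (Or.inl (h.inv_eq hb.1)))
        · exact Or.inr (Or.inr (Or.inr (h.inv_eq (mul_mem ha.1 hb.1)))) }
  refine ⟨H, ⟨?_, ?_⟩, Or.inr (Or.inl rfl), Or.inr (Or.inr (Or.inl rfl))⟩
  · rintro x (rfl | rfl | rfl | rfl)
    exacts [one_mem _, ha.1, hb.1, mul_mem ha.1 hb.1]
  · have h4 : a * b ≠ 1 := fun e => hab ((mul_eq_one_iff_eq_inv.1 e).trans (h.inv_eq hb.1))
    have e : ({1, a, b, a * b} : Finset G).card = 4 := by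
      rw [Finset.card_insert_of_notMem, Finset.card_insert_of_notMem, Finset.card_pair]
      · intro e; exact ha.2 (mul_right_cancel (e.symm.trans (one_mul b).symm))
      · simp only [Finset.mem_insert, Finset.mem_singleton, not_or]
        exact ⟨hab, fun e => hb.2 (left_eq_mul.1 e)⟩
      · simp only [Finset.mem_insert, Finset.mem_singleton, not_or]
        exact ⟨fun e => ha.2 e.symm, fun e => hb.2 e.symm, fun e => h4 e.symm⟩
    have hH : (H : Set G) = (({1, a, b, a * b} : Finset G) : Set G) := by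
      ext y; simp [H]
    show Nat.card (H : Set G) = 4
    rw [hH, Nat.card_coe_set_eq, Set.ncard_coe_finset, e]

theorem line_eq {H K : Subgroup G} (hH : IsLine (S : Subgroup G) H) (hK : IsLine (S : Subgroup G) K)
    {a b : G} (a1 : a ≠ 1) (b1 : b ≠ 1) (hab : a ≠ b) (haH : a ∈ H) (hbH : b ∈ H) (haK : a ∈ K)
    (hbK : b ∈ K) : H = K := by
  ext x
  rw [h.line_pts hH haH hbH a1 b1 hab, h.line_pts hK haK hbK a1 b1 hab]

theorem line_meet {H K : Subgroup G} (hH : IsLine (S : Subgroup G) H) (hK : IsLine (S : Subgroup G) K) :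
    ∃ p, p ∈ H ∧ p ∈ K ∧ Pt S p := by
  by_contra hcon
  push Not at hcon
  have hinj : Function.Injective (fun z : H × K => (⟨(z.1 : G) * z.2,
      mul_mem (hH.le z.1.2) (hK.le z.2.2)⟩ : (S : Subgroup G))) := by
    rintro ⟨⟨x, hx⟩, ⟨y, hy⟩⟩ ⟨⟨x', hx'⟩, ⟨y', hy'⟩⟩ e
    have e' : x * y = x' * y' := congrArg Subtype.val e
    have h1 : x'⁻¹ * x = y' * y⁻¹ := by
      calc x'⁻¹ * x = x'⁻¹ * (x * y) * y⁻¹ := by group
        _ = y' * y⁻¹ := by rw [e']; group
    have h2 : x'⁻¹ * x = 1 := by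
      by_contra hne
      exact hcon _ (mul_mem (inv_mem hx') hx) (h1 ▸ mul_mem hy' (inv_mem hy))
        ⟨hH.le (mul_mem (inv_mem hx') hx), hne⟩
    obtain rfl : x = x' := (inv_mul_eq_one.1 h2).symm
    obtain rfl : y = y' := mul_left_cancel e'
    rfl
  have := Nat.card_le_card_of_injective _ hinj
  rw [Nat.card_prod, hH.card, hK.card, h.card] at this
  omega

theorem line_sup {H K : Subgroup G} (hH : IsLine (S : Subgroup G) H) (hK : IsLine (S : Subgroup G) K)
    (hne : H ≠ K) : H ⊔ K = (S : Subgroup G) := by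
  refine eq_of_le_of_card_ge (sup_le hH.le hK.le) ?_
  have h1 : Nat.card H ∣ Nat.card (H ⊔ K : Subgroup G) := card_dvd_of_le le_sup_left
  have h2 : Nat.card (H ⊔ K : Subgroup G) ∣ 8 := h.card ▸ card_dvd_of_le (sup_le hH.le hK.le)
  rw [hH.card] at h1
  rw [h.card]
  by_contra hlt
  have h4 : Nat.card (H ⊔ K : Subgroup G) = 4 := by
    have := Nat.le_of_dvd (by norm_num) h2
    interval_cases hc : Nat.card (H ⊔ K : Subgroup G) <;> omega
  have e1 : H = H ⊔ K := eq_of_le_of_card_ge le_sup_left (by rw [h4, hH.card])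
  have e2 : K = H ⊔ K := eq_of_le_of_card_ge le_sup_right (by rw [h4, hK.card])
  exact hne (e1.trans e2.symm)

theorem conj_line {n : G} (hn : n ∈ normalizer ((S : Subgroup G) : Set G)) {H : Subgroup G}
    (hH : IsLine (S : Subgroup G) H) : IsLine (S : Subgroup G) (cj n H) :=
  ⟨(cj_mono hH.le).trans (cj_eq_self hn).le, by rw [card_cj, hH.card]⟩

theorem line_exists_pts {H : Subgroup G} (hH : IsLine (S : Subgroup G) H) {a : G} (ha : a ∈ H) :
    ∃ b ∈ H, b ≠ 1 ∧ b ≠ a := by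
  classical
  by_contra hcon
  push Not at hcon
  have : (H : Set G).ncard ≤ 2 := by
    refine (Set.ncard_le_ncard (t := ({1, a} : Set G)) ?_ (Set.toFinite _)).trans ?_
    · intro x hx
      by_cases h1 : x = 1
      · exact Or.inl h1
      · exact Or.inr (hcon x hx h1)
    · exact (Set.ncard_insert_le _ _).trans (by rw [Set.ncard_singleton])
  have h4 := hH.card
  rw [← SetLike.coe_sort_coe, Nat.card_coe_set_eq] at h4
  omega

/-- An element fixing a flag centralizes `S`. -/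
theorem flag_fix {n a : G} {H : Subgroup G} (hH : IsLine (S : Subgroup G) H) (ha : a ∈ H) (a1 : a ≠ 1)
    (hn : n ∈ normalizer ((S : Subgroup G) : Set G)) (ea : n * a * n⁻¹ = a) (eH : cj n H = H) :
    n ∈ centralizer ((S : Subgroup G) : Set G) := by
  obtain ⟨b, hb, b1, hba⟩ := h.line_exists_pts hH ha
  have hpa : Pt S a := ⟨hH.le ha, a1⟩
  have hpb : Pt S b := ⟨hH.le hb, b1⟩
  refine h.fix_two hn hpa hpb (Ne.symm hba) ea ?_
  have hb' : n * b * n⁻¹ ∈ H := by
    have := conj_mem_cj (g := n) hb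
    rwa [eH] at this
  rcases (h.line_pts hH ha hb a1 b1 (Ne.symm hba)).1 hb' with e | e | e | e
  · exact absurd (conj_eq_one_iff.1 e) b1
  · exact absurd (mul_left_cancel (mul_right_cancel (e.trans ea.symm))) hba
  · exact e
  · exfalso
    have e2 : n * (n * b * n⁻¹) * n⁻¹ = b := by
      rw [e]
      calc n * (a * b) * n⁻¹ = n * a * n⁻¹ * (n * b * n⁻¹) := by group
        _ = b := by rw [ea, e, ← mul_assoc, h.sq a hpa.1, one_mul]
    have e3 : n ^ 3 * b * (n ^ 3)⁻¹ = b := by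
      have hc := mem_centralizer_iff.1 (h.cube_fix hn hpa ea) b hpb.1
      rw [← hc]; group
    have e4 : n * b * n⁻¹ = b := by
      calc n * b * n⁻¹ = n * (n * (n * b * n⁻¹) * n⁻¹) * n⁻¹ := by rw [e2]
        _ = n ^ 3 * b * (n ^ 3)⁻¹ := (conj_cube n b).symm
        _ = b := e3
    exact a1 (mul_eq_right.1 (e.symm.trans e4))

theorem move_line {n w : G} {H : Subgroup G} (hn : Rot S n w) (hw : Pt S w)
    (hH : IsLine (S : Subgroup G) H) (hwH : w ∈ H) : cj n H ≠ H := fun e =>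
  hn.move (h.flag_fix hH hwH hw.2 hn.norm hn.fix e)

theorem rot_stab {n m w : G} (hn : Rot S n w) (hw : Pt S w)
    (hm : m ∈ normalizer ((S : Subgroup G) : Set G)) (em : m * w * m⁻¹ = w) :
    ∃ k : ℕ, ∀ x ∈ (S : Subgroup G), m * x * m⁻¹ = n ^ k * x * (n ^ k)⁻¹ := by
  set St := MulAction.stabilizer (E8Cent.automizer S) (⟨w, hw.1⟩ : (S : Subgroup G))
  haveI : Fact (Nat.card St).Prime := ⟨by rw [h.card_stab hw]; exact Nat.prime_three⟩
  let g : St := ⟨h.act hn.norm, h.mem_stab hn.norm hw.1 hn.fix⟩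
  have hg : g ≠ 1 := fun e => hn.move ((h.act_eq_one hn.norm).1 (congrArg Subtype.val e))
  obtain ⟨k, hk⟩ : ∃ k : ℕ, g ^ k = ⟨h.act hm, h.mem_stab hm hw.1 em⟩ :=
    Submonoid.mem_powers_iff _ _ |>.1
      (mem_powers_iff_mem_zpowers.2 (mem_zpowers_of_prime_card rfl hg))
  refine ⟨k, fun x hx => ?_⟩
  have h1 : h.act (pow_mem hn.norm k) = h.act hm := by
    rw [h.act_pow hn.norm]; exact congrArg Subtype.val hk
  have := h.act_smul (pow_mem hn.norm k) ⟨x, hx⟩
  rw [h1, h.act_smul] at this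
  exact this

omit h in
theorem cj_congr {m k : G} (e : ∀ x ∈ (S : Subgroup G), m * x * m⁻¹ = k * x * k⁻¹) {H : Subgroup G}
    (hH : H ≤ (S : Subgroup G)) : cj m H = cj k H := by
  ext x
  constructor
  · rintro ⟨y, hy, rfl⟩
    exact ⟨y, hy, (e y (hH hy)).symm⟩
  · rintro ⟨y, hy, rfl⟩
    exact ⟨y, hy, e y (hH hy)⟩

omit h in
theorem cj_pow_eq {n : G} {H : Subgroup G} (e : cj n H = H) (k : ℕ) : cj (n ^ k) H = H := by
  induction k with
  | zero => rw [pow_zero, cj_one]
  | succ k ih => rw [pow_succ, ← cj_cj, e, ih]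

/-- The axis of a point. -/
theorem exists_axis {w : G} (hw : Pt S w) : ∃ V, IsLine (S : Subgroup G) V ∧ w ∉ V ∧
    ∀ m ∈ normalizer ((S : Subgroup G) : Set G), m * w * m⁻¹ = w → cj m V = V := by
  obtain ⟨n, hn⟩ := h.rot_exists hw
  haveI := h.isMulCommutative
  letI : CommGroup (S : Subgroup G) :=
    { (inferInstance : Group (S : Subgroup G)) with mul_comm := fun a b => Subtype.ext (h.comm a.2 b.2) }
  let α : MulAut (S : Subgroup G) := (h.act hn.norm : E8Cent.automizer S)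
  let N : (S : Subgroup G) →* (S : Subgroup G) :=
    { toFun := fun x => x * α x * α (α x)
      map_one' := by simp
      map_mul' := fun x y => by
        simp [map_mul, mul_comm, mul_assoc, mul_left_comm] }
  have hα : ∀ x : (S : Subgroup G), ((α x : (S : Subgroup G)) : G) = n * x * n⁻¹ := fun _ => rfl
  have hα3 : ∀ x : (S : Subgroup G), α (α (α x)) = x := by
    intro x
    refine Subtype.ext ?_
    rw [hα, hα, hα]
    have := mem_centralizer_iff.1 (h.cube_fix hn.norm hw hn.fix) x x.2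
    calc n * (n * (n * (x : G) * n⁻¹) * n⁻¹) * n⁻¹ = n ^ 3 * x * (n ^ 3)⁻¹ := (conj_cube n _).symm
      _ = x := by rw [← this]; group
  have hNfix : ∀ x, α (N x) = N x := by
    intro x
    show α (x * α x * α (α x)) = x * α x * α (α x)
    rw [map_mul, map_mul, hα3]
    ac_rfl
  have hrange : ∀ x, N x = 1 ∨ (N x : G) = w := by
    intro x
    by_cases h1 : N x = 1
    · exact Or.inl h1
    · refine Or.inr (h.eq_of_fix hn hw ⟨(N x).2, fun e => h1 (Subtype.ext e)⟩ ?_)
      rw [← hα, hNfix]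
  have hαw : α ⟨w, hw.1⟩ = ⟨w, hw.1⟩ := Subtype.ext hn.fix
  have hNw : N ⟨w, hw.1⟩ = ⟨w, hw.1⟩ := by
    show _ * α _ * α (α _) = _
    rw [hαw, hαw]
    refine Subtype.ext ?_
    show w * w * w = w
    rw [h.sq w hw.1, one_mul]
  let V : Subgroup G := N.ker.map (S : Subgroup G).subtype
  have hVc : Nat.card V = 4 := by
    rw [Cfsg.Lib.Core.card_map_subtype]
    have h2 : Nat.card N.range = 2 := by
      rw [← SetLike.coe_sort_coe, Nat.card_coe_set_eq]
      have : (N.range : Set (S : Subgroup G)) = {1, ⟨w, hw.1⟩} := by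
        ext y
        constructor
        · rintro ⟨x, rfl⟩
          rcases hrange x with e | e
          · exact Or.inl e
          · exact Or.inr (Subtype.ext e)
        · rintro (rfl | rfl)
          · exact one_mem N.range
          · exact ⟨_, hNw⟩
      rw [this, Set.ncard_pair fun e => hw.2 (congrArg Subtype.val e).symm]
    have h3 := N.ker.card_mul_index
    rw [Subgroup.index_ker, h2, h.card] at h3
    omega
  have hinv : cj n V = V := by
    refine eq_of_le_of_card_ge ?_ (by rw [card_cj])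
    rintro _ ⟨_, ⟨x, hx, rfl⟩, rfl⟩
    refine ⟨α x, ?_, hα x⟩
    show α x * α (α x) * α (α (α x)) = 1
    rw [hα3, ← (show x * α x * α (α x) = 1 from hx)]
    ac_rfl
  refine ⟨V, ⟨map_subtype_le _, hVc⟩, ?_, fun m hm em => ?_⟩
  · rintro ⟨x, hx, e⟩
    obtain rfl : x = ⟨w, hw.1⟩ := Subtype.ext e
    exact hw.2 (congrArg Subtype.val (hNw.symm.trans hx))
  · obtain ⟨k, hk⟩ := h.rot_stab hn hw hm em
    rw [Hyp.cj_congr hk (map_subtype_le _)]
    exact Hyp.cj_pow_eq hinv k

/-- The lines through the centre of a rotation are permuted transitively. -/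
theorem lines_through {n w : G} (hn : Rot S n w) (hw : Pt S w) {H K : Subgroup G}
    (hH : IsLine (S : Subgroup G) H) (hK : IsLine (S : Subgroup G) K) (wH : w ∈ H) (wK : w ∈ K) :
    ∃ k : ℕ, cj (n ^ k) H = K := by
  classical
  obtain ⟨V, hV, hwV, hinv⟩ := h.exists_axis hw
  have eV := hinv n hn.norm hn.fix
  obtain ⟨a, haH, haV, hpa⟩ := h.line_meet hH hV
  obtain ⟨b, hbK, hbV, hpb⟩ := h.line_meet hK hV
  set a' := n * a * n⁻¹ with ha'
  have ha'V : a' ∈ V := eV ▸ conj_mem_cj haV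
  have hpa' : Pt S a' := h.conj_pt hn.norm hpa
  have hne : a' ≠ a := fun e => hwV (h.eq_of_fix hn hw hpa e ▸ haV)
  have hb3 : b = a ∨ b = a' ∨ b = n * a' * n⁻¹ := by
    rcases (h.line_pts hV haV ha'V hpa.2 hpa'.2 (Ne.symm hne)).1 hbV with e | e | e | e
    · exact absurd e hpb.2
    · exact Or.inl e
    · exact Or.inr (Or.inl e)
    · refine Or.inr (Or.inr ?_)
      have hmem : n * a' * n⁻¹ ∈ V := eV ▸ conj_mem_cj ha'V
      rcases (h.line_pts hV haV ha'V hpa.2 hpa'.2 (Ne.symm hne)).1 hmem with e' | e' | e' | e'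
      · exact absurd (conj_eq_one_iff.1 e') hpa'.2
      · exfalso
        have hc := mem_centralizer_iff.1 (h.cube_fix hn.norm hw hn.fix) a hpa.1
        apply hne
        calc a' = n * (n * a' * n⁻¹) * n⁻¹ := by rw [e']
          _ = n ^ 3 * a * (n ^ 3)⁻¹ := by rw [ha', conj_cube]
          _ = a := by rw [← hc]; group
      · exact absurd (h.eq_of_fix hn hw hpa' e') fun e2 => hwV (e2 ▸ ha'V)
      · rw [e, e']
  obtain ⟨k, hk⟩ : ∃ k : ℕ, b = n ^ k * a * (n ^ k)⁻¹ := by
    rcases hb3 with e | e | e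
    · exact ⟨0, by rw [e]; simp⟩
    · exact ⟨1, by rw [e, ha', pow_one]⟩
    · exact ⟨2, by rw [e, ha', conj_two]⟩
  refine ⟨k, h.line_eq (h.conj_line (pow_mem hn.norm k) hH) hK hw.2 hpb.2
    (fun e => hwV (e ▸ hbV)) ?_ (hk ▸ conj_mem_cj haH) wK hbK⟩
  have e : n ^ k * w * (n ^ k)⁻¹ = w := by
    clear hk
    induction k with
    | zero => simp
    | succ k ih =>
      calc n ^ (k + 1) * w * (n ^ (k + 1))⁻¹ = n ^ k * (n * w * n⁻¹) * (n ^ k)⁻¹ := by
            rw [pow_succ]; group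
        _ = w := by rw [hn.fix, ih]
  exact e ▸ conj_mem_cj wH

/-- The centre of a line. -/
theorem exists_centre {B : Subgroup G} (hB : IsLine (S : Subgroup G) B) :
    ∃ w, Pt S w ∧ w ∉ B ∧
      ∀ m ∈ normalizer ((S : Subgroup G) : Set G), (m * w * m⁻¹ = w ↔ cj m B = B) := by
  obtain ⟨a, haB, a1⟩ : ∃ a ∈ B, a ≠ 1 := by
    obtain ⟨b, hb, b1, -⟩ := h.line_exists_pts hB (one_mem B)
    exact ⟨b, hb, b1⟩
  have hpa : Pt S a := ⟨hB.le haB, a1⟩
  obtain ⟨V, hV, hwV, hinv⟩ := h.exists_axis hpa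
  obtain ⟨c, hcV, c1⟩ : ∃ c ∈ V, c ≠ 1 := by
    obtain ⟨b, hb, b1, -⟩ := h.line_exists_pts hV (one_mem V)
    exact ⟨b, hb, b1⟩
  obtain ⟨g, hg, eg⟩ := h.trans (⟨hV.le hcV, c1⟩ : Pt S c) hpa
  have hgV := h.conj_line hg hV
  obtain ⟨r, hr⟩ := h.rot_exists hpa
  obtain ⟨k, hk⟩ := h.lines_through hr hpa hgV hB (eg ▸ conj_mem_cj hcV) haB
  set g' := r ^ k * g with hg'def
  have hg' : g' ∈ normalizer ((S : Subgroup G) : Set G) := mul_mem (pow_mem hr.norm k) hg
  have eB : cj g' V = B := by rw [hg'def, ← cj_cj, hk]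
  set w := g' * a * g'⁻¹ with hw
  have hpw : Pt S w := h.conj_pt hg' hpa
  have hwB : w ∉ B := by
    rw [← eB, mem_cj]
    have : g'⁻¹ * w * g' = a := by rw [hw]; group
    rwa [this]
  have fwd : ∀ m ∈ normalizer ((S : Subgroup G) : Set G), m * w * m⁻¹ = w → cj m B = B := by
    intro m hm em
    have h1 : cj (g'⁻¹ * m * g') V = V := hinv _ (mul_mem (mul_mem (inv_mem hg') hm) hg') (by
      calc g'⁻¹ * m * g' * a * (g'⁻¹ * m * g')⁻¹ = g'⁻¹ * (m * w * m⁻¹) * g' := by rw [hw]; group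
        _ = a := by rw [em, hw]; group)
    calc cj m B = cj g' (cj (g'⁻¹ * m * g') V) := by
          rw [← eB, cj_cj, cj_cj]; congr 1; group
      _ = B := by rw [h1, eB]
  refine ⟨w, hpw, hwB, fun m hm => ⟨fwd m hm, fun em => ?_⟩⟩
  -- the stabilizer of the line has order at most three
  obtain ⟨n, hn⟩ := h.rot_exists hpw
  have en := fwd n hn.norm hn.fix
  have hma : m * a * m⁻¹ ∈ B := em ▸ conj_mem_cj haB
  have hna : n * a * n⁻¹ ∈ B := en ▸ conj_mem_cj haB
  have hna2 : n * (n * a * n⁻¹) * n⁻¹ ∈ B := en ▸ conj_mem_cj hna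
  set a' := n * a * n⁻¹ with ha'
  have hne : a' ≠ a := fun e => hwB (h.eq_of_fix hn hpw hpa e ▸ haB)
  have hpa' : Pt S a' := h.conj_pt hn.norm hpa
  obtain ⟨j, hj⟩ : ∃ j : ℕ, m * a * m⁻¹ = n ^ j * a * (n ^ j)⁻¹ := by
    rcases (h.line_pts hB haB hna a1 hpa'.2 (Ne.symm hne)).1 hma with e | e | e | e
    · exact absurd (conj_eq_one_iff.1 e) a1
    · exact ⟨0, by rw [e]; simp⟩
    · exact ⟨1, by rw [e, ha', pow_one]⟩
    · refine ⟨2, ?_⟩
      rcases (h.line_pts hB haB hna a1 hpa'.2 (Ne.symm hne)).1 hna2 with e' | e' | e' | e'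
      · exact absurd (conj_eq_one_iff.1 e') hpa'.2
      · exfalso
        have hc := mem_centralizer_iff.1 (h.cube_fix hn.norm hpw hn.fix) a hpa.1
        apply hne
        calc a' = n * (n * a' * n⁻¹) * n⁻¹ := by rw [e']
          _ = n ^ 3 * a * (n ^ 3)⁻¹ := by rw [ha', conj_cube]
          _ = a := by rw [← hc]; group
      · exact absurd (h.eq_of_fix hn hpw hpa' e') fun e2 => hwB (e2 ▸ hna)
      · rw [e, ← e', ha', conj_two]
  have hc : (n ^ j)⁻¹ * m ∈ centralizer ((S : Subgroup G) : Set G) := by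
    refine h.flag_fix hB haB a1 (mul_mem (inv_mem (pow_mem hn.norm j)) hm) ?_ ?_
    · calc (n ^ j)⁻¹ * m * a * ((n ^ j)⁻¹ * m)⁻¹ = (n ^ j)⁻¹ * (m * a * m⁻¹) * n ^ j := by group
        _ = a := by rw [hj]; group
    · rw [← cj_cj, em]
      conv_lhs => rw [← Hyp.cj_pow_eq en j, cj_inv_cj]
  have hcw := mem_centralizer_iff.1 hc w hpw.1
  have e1 : m * w * m⁻¹ = n ^ j * w * (n ^ j)⁻¹ := by
    calc m * w * m⁻¹ = n ^ j * ((n ^ j)⁻¹ * m * w) * m⁻¹ := by group
      _ = n ^ j * (w * ((n ^ j)⁻¹ * m)) * m⁻¹ := by rw [hcw]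
      _ = n ^ j * w * (n ^ j)⁻¹ := by group
  rw [e1]
  clear hj hc hcw e1
  induction j with
  | zero => simp
  | succ j ih =>
    calc n ^ (j + 1) * w * (n ^ (j + 1))⁻¹ = n ^ j * (n * w * n⁻¹) * (n ^ j)⁻¹ := by
          rw [pow_succ]; group
      _ = w := by rw [hn.fix, ih]

/-- A subgroup of `S` invariant under a rotation about `w` lies in `⟨w⟩` or contains the axis. -/
theorem axis_le {n w : G} (hn : Rot S n w) (hw : Pt S w) {V : Subgroup G}
    (hV : IsLine (S : Subgroup G) V) (hwV : w ∉ V) (eV : cj n V = V) {T : Subgroup G}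
    (hT : T ≤ (S : Subgroup G)) (hTn : cj n T = T) {x : G} (hx : x ∈ T) (x1 : x ≠ 1) (xw : x ≠ w) :
    V ≤ T := by
  have key : ∀ y ∈ T, y ∈ V → y ≠ 1 → V ≤ T := by
    intro y hyT hyV y1
    have h1 : n * y * n⁻¹ ∈ V := eV ▸ conj_mem_cj hyV
    have h2 : n * y * n⁻¹ ∈ T := hTn ▸ conj_mem_cj hyT
    have hne : n * y * n⁻¹ ≠ y := fun e => hwV (h.eq_of_fix hn hw ⟨hV.le hyV, y1⟩ e ▸ hyV)
    intro z hz
    rcases (h.line_pts hV hyV h1 y1 (fun e => y1 (conj_eq_one_iff.1 e)) (Ne.symm hne)).1 hz with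
      rfl | rfl | rfl | rfl
    exacts [one_mem T, hyT, h2, mul_mem hyT h2]
  by_cases hxV : x ∈ V
  · exact key x hx hxV x1
  -- `x` and its image differ by a point of the axis
  have hpx : Pt S x := ⟨hT hx, x1⟩
  obtain ⟨H, hH, hwH, hxH⟩ := h.line_of hw hpx (Ne.symm xw)
  obtain ⟨v, hvH, hvV, hpv⟩ := h.line_meet hH hV
  have hvw : v ≠ w := fun e => hwV (e ▸ hvV)
  have hx' : x = w * v := by
    rcases (h.line_pts hH hwH hvH hw.2 hpv.2 (Ne.symm hvw)).1 hxH with e | e | e | e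
    · exact absurd e x1
    · exact absurd e xw
    · exact absurd (e ▸ hvV) hxV
    · exact e
  have hxn : x * (n * x * n⁻¹) = v * (n * v * n⁻¹) := by
    rw [hx', show n * (w * v) * n⁻¹ = n * w * n⁻¹ * (n * v * n⁻¹) by group, hn.fix,
      show w * v * (w * (n * v * n⁻¹)) = w * (v * w) * (n * v * n⁻¹) by group,
      h.comm hpv.1 hw.1, ← mul_assoc w w v, h.sq w hw.1, one_mul]
  refine key _ (mul_mem hx (hTn ▸ conj_mem_cj hx)) (hxn ▸ mul_mem hvV (eV ▸ conj_mem_cj hvV)) ?_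
  rw [hxn]
  intro e
  refine hwV (h.eq_of_fix hn hw hpv ?_ ▸ hvV)
  exact (mul_eq_one_iff_inv_eq.1 e).symm.trans (h.inv_eq hpv.1)

theorem transAt_of {Y : Subgroup G} {n m w : G} (hw : Pt S w) (hn : Rot S n w) (hnY : n ∈ Y)
    (hmY : m ∈ Y) (hm : m ∈ normalizer ((S : Subgroup G) : Set G)) (em : m * w * m⁻¹ ≠ w) :
    TransAt S Y := by
  intro a b ha hb
  let A' : Subgroup (E8Cent.automizer S) :=
    { carrier := {α | ∃ k ∈ Y, ∃ hk : k ∈ normalizer ((S : Subgroup G) : Set G), h.act hk = α}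
      one_mem' := ⟨1, one_mem Y, one_mem _, (h.act_eq_one _).2 (one_mem _)⟩
      mul_mem' := by
        rintro _ _ ⟨k, hkY, hk, rfl⟩ ⟨l, hlY, hl, rfl⟩
        exact ⟨k * l, mul_mem hkY hlY, mul_mem hk hl, h.act_mul hk hl⟩
      inv_mem' := by
        rintro _ ⟨k, hkY, hk, rfl⟩
        refine ⟨k⁻¹, inv_mem hkY, inv_mem hk, ?_⟩
        refine eq_inv_of_mul_eq_one_left ?_
        rw [← h.act_mul, h.act_eq_one, inv_mul_cancel]
        exact one_mem _ }
  set St := MulAction.stabilizer (E8Cent.automizer S) (⟨w, hw.1⟩ : (S : Subgroup G))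
  have htop : A' = ⊤ := by
    by_contra hne
    have hd : Nat.card A' ∣ 21 := h.aut ▸ card_subgroup_dvd_card A'
    have h1 : h.act hn.norm ∈ A' := ⟨n, hnY, hn.norm, rfl⟩
    have h3 : 3 ∣ Nat.card A' := by
      have ho : orderOf (h.act hn.norm) = 3 := by
        haveI : Fact (Nat.Prime 3) := ⟨Nat.prime_three⟩
        refine orderOf_eq_prime ?_ fun e => hn.move ((h.act_eq_one hn.norm).1 e)
        rw [← h.act_pow hn.norm, h.act_eq_one]
        exact h.cube_fix hn.norm hw hn.fix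
      exact ho ▸ (Subgroup.orderOf_mk _ h1 ▸ orderOf_dvd_natCard (⟨h.act hn.norm, h1⟩ : A'))
    have h21 : Nat.card A' = 3 := by
      have hlt : Nat.card A' ≠ 21 := fun e => hne (eq_top_of_card_eq A' (e.trans h.aut.symm))
      have := Nat.le_of_dvd (by norm_num) hd
      interval_cases hc : Nat.card A' <;> omega
    haveI : Fact (Nat.card A').Prime := ⟨h21 ▸ Nat.prime_three⟩
    have hz : zpowers (h.act hn.norm) = A' := by
      refine eq_of_le_of_card_ge (zpowers_le.2 h1) ?_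
      rw [h21, Nat.card_zpowers]
      haveI : Fact (Nat.Prime 3) := ⟨Nat.prime_three⟩
      refine (orderOf_eq_prime ?_ fun e => hn.move ((h.act_eq_one hn.norm).1 e)).ge
      rw [← h.act_pow hn.norm, h.act_eq_one]
      exact h.cube_fix hn.norm hw hn.fix
    have h2 : h.act hm ∈ St := by
      have h2' : h.act hm ∈ zpowers (h.act hn.norm) := hz ▸ ⟨m, hmY, hm, rfl⟩
      exact zpowers_le.2 (h.mem_stab hn.norm hw.1 hn.fix) h2'
    exact em (congrArg Subtype.val (MulAction.mem_stabilizer_iff.1 h2))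
  obtain ⟨g, hg, eg⟩ := h.trans ha hb
  obtain ⟨k, hkY, hk, e⟩ : h.act hg ∈ A' := htop ▸ mem_top _
  refine ⟨k, hkY, hk, ?_⟩
  have := h.act_smul hk ⟨a, ha.1⟩
  rw [e, h.act_smul] at this
  exact this.symm.trans eg

end Hyp

end Cfsg.Lib.Walter3
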