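import Cfsg.Agent.Lib.Walter3.Socle
import Cfsg.Agent.Lib.Dickson.Overgroups

/-!
# Groups with trivial odd core whose involution centralizers have order 24
-/

set_option autoImplicit false
set_option linter.style.haveILetI false
set_option linter.unusedSectionVars false

namespace Cfsg.Lib.Walter3

open Subgroup Cfsg
open scoped commutatorElement

universe u

/-- A group of order `24` is solvable. -/
theorem solvable_of_card_24 {C : Type u} [Group C] [Finite C] (h : Nat.card C = 24) :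
    Group.IsSolvable C := by
  classical
  haveI : Fact (Nat.Prime 2) := ⟨Nat.prime_two⟩
  obtain ⟨P⟩ : Nonempty (Sylow 2 C) := inferInstance
  have hP : Nat.card (P : Subgroup C) = 8 := by
    rw [P.card_eq_multiplicity, h]
    have : (24 : ℕ).factorization 2 = 3 := by
      have h1 : 3 ≤ (24 : ℕ).factorization 2 :=
        (Nat.prime_two.pow_dvd_iff_le_factorization (by norm_num)).1 (by norm_num)
      have h2 : ¬ 4 ≤ (24 : ℕ).factorization 2 := fun hh => by
        have := (Nat.prime_two.pow_dvd_iff_le_factorization (by norm_num : (24 : ℕ) ≠ 0)).2 hh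
        norm_num at this
      omega
    rw [this]; norm_num
  have hidx : (P : Subgroup C).index = 3 := by
    have := (P : Subgroup C).card_mul_index
    rw [hP, h] at this
    omega
  set φ := MulAction.toPermHom C (C ⧸ (P : Subgroup C))
  haveI : Group.IsSolvable φ.ker := by
    have hker : φ.ker ≤ (P : Subgroup C) := by
      rw [← normalCore_eq_ker]; exact normalCore_le _
    haveI : Group.IsNilpotent φ.ker := (P.2.to_le hker).isNilpotent
    infer_instance
  haveI : IsZGroup φ.range := IsZGroup.of_squarefree (by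
    have h1 := Subgroup.card_subgroup_dvd_card φ.range
    rw [Nat.card_perm, ← Subgroup.index_eq_card, hidx] at h1
    exact Squarefree.squarefree_of_dvd h1 (by decide +kernel))
  exact Group.isSolvable_of_ker_le_range φ.ker.subtype φ.rangeRestrict (by simp)

variable {X : Type u} [Group X] [Finite X]

/-- In a solvable group with trivial odd core and transitive automizer the Sylow subgroup is normal. -/
theorem normal_sylow_of_solvable (S : Sylow 2 X) (h8 : Nat.card (S : Subgroup X) = 8)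
    (hsq : ∀ v ∈ (S : Subgroup X), v * v = 1) (htr : TransAt S ⊤) (hO : oddCore X = ⊥)
    (hsol : Group.IsSolvable X) : (S : Subgroup X).Normal := by
  classical
  haveI : Fact (Nat.Prime 2) := ⟨Nat.prime_two⟩
  haveI := hsol
  haveI : Nontrivial (S : Subgroup X) := Finite.one_lt_card_iff_nontrivial.1 (by omega)
  haveI : Nontrivial X := (S : Subgroup X).subtype_injective.nontrivial
  obtain ⟨A, ⟨hAn, hA1⟩, hmin⟩ := (Set.toFinite {A : Subgroup X | A.Normal ∧ A ≠ ⊥}).exists_minimal
    ⟨⊤, inferInstance, top_ne_bot⟩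
  haveI := hAn
  have hab : IsMulCommutative A := by
    have hlt : ⁅A, A⁆ < A := Group.IsSolvable.commutator_lt_of_ne_bot hA1
    have h0 : ⁅A, A⁆ = ⊥ := by_contra fun h => hlt.ne (le_antisymm hlt.le (hmin ⟨inferInstance, h⟩ hlt.le))
    exact ⟨⟨fun a b => Subtype.ext (commutatorElement_eq_one_iff_mul_comm.1
      (mem_bot.1 (h0 ▸ commutator_mem_commutator a.2 b.2)))⟩⟩
  -- `A` meets `S`
  have hAS : ∃ a ∈ A, a ∈ (S : Subgroup X) ∧ a ≠ 1 := by
    by_contra hne
    push Not at hne
    have hodd : Odd (Nat.card A) := by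
      by_contra he
      rw [Nat.not_odd_iff_even, even_iff_two_dvd] at he
      obtain ⟨v, hv⟩ := exists_prime_orderOf_dvd_card' 2 he
      obtain ⟨Q, hQ⟩ := (IsPGroup.of_card (n := 1) (by rw [Nat.card_zpowers, Subgroup.orderOf_coe, hv, pow_one]) :
        IsPGroup 2 (zpowers (v : X))).exists_le_sylow
      obtain ⟨g, hg⟩ := MulAction.exists_smul_eq X Q S
      have hmem : g * (v : X) * g⁻¹ ∈ (S : Subgroup X) := by
        rw [← hg, Sylow.coe_subgroup_smul]
        exact Subgroup.smul_mem_pointwise_smul _ (MulAut.conj g) _ (hQ (mem_zpowers _))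
      have h1 := hne _ (hAn.conj_mem _ v.2 g) hmem
      rw [conj_eq_one_iff] at h1
      rw [← Subgroup.orderOf_coe, h1, orderOf_one] at hv
      omega
    exact hA1 (eq_bot_iff.2 (hO ▸ ZStar.le_oddCore hAn hodd))
  obtain ⟨w, hwA, hwS, hw1⟩ := hAS
  have hSA : (S : Subgroup X) ≤ A := by
    intro b hb
    rcases eq_or_ne b 1 with rfl | hb1
    · exact one_mem _
    obtain ⟨n, -, -, e⟩ := htr w b ⟨hwS, hw1⟩ ⟨hb, hb1⟩
    rw [← e]
    exact hAn.conj_mem w hwA n
  let T : Sylow 2 A := S.subtype hSA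
  haveI hTn : (T : Subgroup A).Normal := ⟨fun v hv g => by
    rwa [show g * v * g⁻¹ = v by rw [hab.is_comm.comm g v, mul_inv_cancel_right]]⟩
  haveI := Sylow.unique_of_normal T hTn
  refine ⟨fun v hv g => ?_⟩
  have hvA : v ∈ A := hSA hv
  have hgA : g * v * g⁻¹ ∈ A := hAn.conj_mem v hvA g
  have hz : IsPGroup 2 (zpowers (⟨g * v * g⁻¹, hgA⟩ : A)) := by
    obtain ⟨i, -, hi⟩ := (Nat.dvd_prime_pow Nat.prime_two).1 (orderOf_dvd_of_pow_eq_one
      (show (⟨g * v * g⁻¹, hgA⟩ : A) ^ 2 ^ 1 = 1 from Subtype.ext (by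
        show (g * v * g⁻¹) ^ 2 ^ 1 = 1
        rw [conj_pow, pow_one, pow_two, hsq v hv]; group)))
    exact IsPGroup.of_card (n := i) (by rw [Nat.card_zpowers, hi])
  obtain ⟨Q, hQ⟩ := hz.exists_le_sylow
  rw [Subsingleton.elim Q T] at hQ
  exact hQ (mem_zpowers _)

/-- A normal subgroup containing `S` and transitive on its points gives `X = N C(t)`. -/
theorem sup_cent_eq_top (S : Sylow 2 X) {N : Subgroup X} [N.Normal] (hSN : (S : Subgroup X) ≤ N)
    (htr : ∀ a, Pt S a → ∀ b, Pt S b → ∃ n ∈ N, n * a * n⁻¹ = b) {t : X} (ht : Pt S t) :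
    N ⊔ Cg t = ⊤ := by
  haveI : Fact (Nat.Prime 2) := ⟨Nat.prime_two⟩
  refine eq_top_iff.2 fun g _ => ?_
  let T : Sylow 2 N := S.subtype hSN
  have hgt : g * t * g⁻¹ ∈ N := (inferInstance : N.Normal).conj_mem _ (hSN ht.1) g
  have hT2 : IsPGroup 2 (zpowers (⟨t, hSN ht.1⟩ : N)) := by
    obtain ⟨Q, hQ⟩ : ∃ k : ℕ, (⟨t, ht.1⟩ : (S : Subgroup X)) ^ 2 ^ k = 1 := S.2 _
    obtain ⟨i, -, hi⟩ := (Nat.dvd_prime_pow Nat.prime_two).1 (orderOf_dvd_of_pow_eq_one
      (show (⟨t, hSN ht.1⟩ : N) ^ 2 ^ Q = 1 from Subtype.ext (congrArg Subtype.val hQ :)))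
    exact IsPGroup.of_card (n := i) (by rw [Nat.card_zpowers, hi])
  have hz : IsPGroup 2 (zpowers (⟨g * t * g⁻¹, hgt⟩ : N)) := by
    obtain ⟨n, hn⟩ := IsPGroup.iff_card.1 hT2
    refine IsPGroup.of_card (n := n) ?_
    rw [← hn, Nat.card_zpowers, Nat.card_zpowers, Subgroup.orderOf_mk, Subgroup.orderOf_mk,
      show g * t * g⁻¹ = MulAut.conj g t from rfl, MulEquiv.orderOf_eq]
  obtain ⟨Q, hQ⟩ := hz.exists_le_sylow
  obtain ⟨k, hk⟩ := MulAction.exists_smul_eq N Q T
  have hmem : (k : X) * (g * t * g⁻¹) * (k : X)⁻¹ ∈ (S : Subgroup X) := by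
    have h2 : MulAut.conj k • (⟨_, hgt⟩ : N) ∈ ((k • Q : Sylow 2 N) : Subgroup N) := by
      rw [Sylow.coe_subgroup_smul]
      exact Subgroup.smul_mem_pointwise_smul _ _ _ (hQ (mem_zpowers _))
    rw [hk] at h2
    exact h2
  obtain ⟨n, hn, e⟩ := htr t ht _ ⟨hmem, fun e => ht.2 (conj_eq_one_iff.1 (conj_eq_one_iff.1 e))⟩
  have hcz : n⁻¹ * k * g ∈ Cg t := mem_Cg.2 (by
    calc n⁻¹ * k * g * t = n⁻¹ * ((k : X) * (g * t * g⁻¹) * (k : X)⁻¹) * k * g := by group
      _ = t * (n⁻¹ * k * g) := by rw [← e]; group)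
  rw [show g = (k : X)⁻¹ * n * (n⁻¹ * k * g) by group]
  exact mul_mem_sup (mul_mem (inv_mem k.2) hn) hcz

/-- There are seven points. -/
theorem card_pts {S : Sylow 2 X} (h8 : Nat.card (S : Subgroup X) = 8) :
    Nat.card {a : X // Pt S a} = 7 := by
  classical
  haveI := Fintype.ofFinite X
  have h : Nat.card {a : X // Pt S a} + 1 = Nat.card (S : Subgroup X) := by
    rw [Nat.card_eq_fintype_card, Nat.card_eq_fintype_card, Fintype.card_subtype, Fintype.card_subtype,
      show (Finset.univ.filter fun a : X => Pt S a) =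
        (Finset.univ.filter fun a : X => a ∈ (S : Subgroup X)).erase 1 by
          ext a
          rw [Finset.mem_filter, Finset.mem_erase, Finset.mem_filter, Pt]
          simp only [Finset.mem_univ, true_and, ne_eq]
          tauto,
      Finset.card_erase_add_one (by simp [one_mem])]
  omega

/-- `PSL₂(8)` has an element of order nine. -/
theorem exists_orderOf_nine {F : Type} [Field F] [Fintype F] (hF : Fintype.card F = 8) :
    ∃ x : Matrix.ProjectiveSpecialLinearGroup (Fin 2) F, orderOf x = 9 := by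
  haveI : Fact (Nat.Prime 2) := ⟨Nat.prime_two⟩
  haveI : Fact (Nat.Prime 3) := ⟨Nat.prime_three⟩
  haveI : CharP F 2 := by
    obtain ⟨p, hp⟩ := CharP.exists F
    haveI := hp
    obtain ⟨k, hpp, hk⟩ := FiniteField.card F p
    have h2 : 2 ∣ p ^ (k : ℕ) := by rw [← hk, hF]; norm_num
    rwa [(Nat.prime_dvd_prime_iff_eq Nat.prime_two hpp).1 (Nat.prime_two.dvd_of_dvd_pow h2)]
  have hg : Nat.gcd 2 (Fintype.card F - 1) = 1 := by rw [hF]; rfl
  have h3 : 3 ∣ Nat.card (Matrix.ProjectiveSpecialLinearGroup (Fin 2) F) := by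
    have hcF := Cfsg.Lib.Linear.Two.card_PSL_two (F := F)
    rw [hg, one_mul, hF] at hcF
    rw [hcF]; norm_num
  obtain ⟨x, hx⟩ := exists_prime_orderOf_dvd_card' 3 h3
  have hx1 : x ≠ 1 := fun e => by rw [e, orderOf_one] at hx; omega
  have hx2 : x ^ 2 ≠ 1 := fun e => by
    have := orderOf_dvd_of_pow_eq_one e; rw [hx] at this; norm_num at this
  have hp : ¬ 2 ∣ orderOf x := by rw [hx]; norm_num
  set C := Subgroup.centralizer ({x} : Set (Matrix.ProjectiveSpecialLinearGroup (Fin 2) F)) with hC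
  have h9 : Nat.card C = 9 := by
    rcases Dickson.card_centralizer_semisimple (by omega) 2 hx2 hp with ⟨h, -⟩ | ⟨-, h⟩
    · rw [hC, h, hg, hF]
    · rw [hx, hg, hF] at h; norm_num at h
  have hxC : x ∈ C := Subgroup.mem_centralizer_singleton_iff.2 rfl
  rcases Dickson.psl_subgroup_cases 2 C with ⟨k, -, ⟨hc, -⟩ | ⟨⟨e⟩⟩⟩ | ⟨h, -⟩ | ⟨hnn, -⟩
  · obtain ⟨r, hr⟩ := IsCyclic.exists_ofOrder_eq_natCard (α := C)
    exact ⟨r, by rw [Subgroup.orderOf_coe, hr, h9]⟩
  · rw [Nat.card_congr e.toEquiv, DihedralGroup.nat_card] at h9; omega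
  · rw [h9] at h; norm_num at h
  · exfalso
    have hn : ((Subgroup.zpowers x).subgroupOf C).Normal := ⟨fun a ha b => by
      have hba : Commute (b : Matrix.ProjectiveSpecialLinearGroup (Fin 2) F) a := by
        obtain ⟨k, hk⟩ := Subgroup.mem_zpowers_iff.mp (Subgroup.mem_subgroupOf.mp ha)
        rw [← hk]
        exact Commute.zpow_right (Subgroup.mem_centralizer_singleton_iff.mp b.2) k
      rwa [show b * a * b⁻¹ = a from Subtype.ext (by simp [hba.eq])]⟩
    haveI : IsCyclic ((Subgroup.zpowers x).subgroupOf C) :=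
      isCyclic_of_injective (Subgroup.subgroupOfEquivOfLe (Subgroup.zpowers_le.mpr hxC)).toMonoidHom
        (Subgroup.subgroupOfEquivOfLe (Subgroup.zpowers_le.mpr hxC)).injective
    have h := hnn _ hn inferInstance
    have hmem : (⟨x, hxC⟩ : C) ∈ (Subgroup.zpowers x).subgroupOf C := Subgroup.mem_zpowers x
    rw [h, Subgroup.mem_bot] at hmem
    exact hx1 (congrArg Subtype.val hmem)

/-- With socle `PSL₂(q)` the order is `1512`. -/
theorem card_of_psl_socle (S : Sylow 2 X) (h8 : Nat.card (S : Subgroup X) = 8)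
    (hsq : ∀ v ∈ (S : Subgroup X), v * v = 1) (htr : TransAt S ⊤) (hO : oddCore X = ⊥) {t : X}
    (ht : Pt S t) (hC : Nat.card (Cg t) = 24)
    (hCN : Cg t ≤ normalizer ((S : Subgroup X) : Set X)) {F : Type} [Field F] [Fintype F]
    (hq : ((Fintype.card F % 8 = 3 ∨ Fintype.card F % 8 = 5) ∧ 5 ≤ Fintype.card F) ∨
      ∃ n : ℕ, 2 ≤ n ∧ Fintype.card F = 2 ^ n)
    {N0 : Subgroup (X ⧸ oddCore X)} (hN0 : N0.Normal)
    (e0 : N0 ≃* Matrix.ProjectiveSpecialLinearGroup (Fin 2) F) :
    Nat.card X = 1512 ∧ ∃ x : X, orderOf x = 9 := by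
  classical
  haveI : Fact (Nat.Prime 2) := ⟨Nat.prime_two⟩
  let f : X ≃* X ⧸ oddCore X :=
    ((QuotientGroup.quotientMulEquivOfEq hO).trans QuotientGroup.quotientBot).symm
  set N := N0.comap f.toMonoidHom with hN
  haveI hNn : N.Normal := hN0.comap _
  let eN : N ≃* Matrix.ProjectiveSpecialLinearGroup (Fin 2) F :=
    ({ toFun := fun v => ⟨f v, v.2⟩
       invFun := fun v => ⟨f.symm v, by show f (f.symm v) ∈ N0; rw [f.apply_symm_apply]; exact v.2⟩
       left_inv := fun v => Subtype.ext (f.symm_apply_apply _)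
       right_inv := fun v => Subtype.ext (f.apply_symm_apply _)
       map_mul' := fun a b => Subtype.ext (map_mul f _ _) } : N ≃* N0).trans e0
  have h4 : 4 ≤ Fintype.card F := by
    rcases hq with ⟨-, h⟩ | ⟨n, hn, h⟩
    · omega
    · rw [h]; exact (Nat.pow_le_pow_right two_pos hn)
  haveI := psl_simple (F := F) h4
  haveI : IsSimpleGroup N := MulEquiv.isSimpleGroup eN
  have hNcard : Nat.card N = Nat.card (Matrix.ProjectiveSpecialLinearGroup (Fin 2) F) :=
    Nat.card_congr eN.toEquiv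
  -- `S ≤ N`
  obtain ⟨v, hv⟩ := exists_prime_orderOf_dvd_card' (G := N) 2 (hNcard ▸ two_dvd_psl h4)
  have hvo : orderOf (v : X) = 2 := (Subgroup.orderOf_coe v).trans hv
  obtain ⟨Q, hQ⟩ := (IsPGroup.of_card (n := 1) (by rw [Nat.card_zpowers, hvo, pow_one]) :
    IsPGroup 2 (zpowers (v : X))).exists_le_sylow
  obtain ⟨g, hg⟩ := MulAction.exists_smul_eq X Q S
  have hgS : g * (v : X) * g⁻¹ ∈ (S : Subgroup X) := by
    rw [← hg, Sylow.coe_subgroup_smul]
    exact Subgroup.smul_mem_pointwise_smul _ (MulAut.conj g) _ (hQ (mem_zpowers _))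
  have hSN : (S : Subgroup X) ≤ N := by
    intro b hb
    rcases eq_or_ne b 1 with rfl | hb1
    · exact one_mem _
    obtain ⟨n, -, -, e⟩ := htr _ b ⟨hgS, fun e => by rw [conj_eq_one_iff] at e; rw [e, orderOf_one] at hvo; omega⟩ ⟨hb, hb1⟩
    rw [← e]
    exact hNn.conj_mem _ (hNn.conj_mem _ v.2 g) n
  let T : Sylow 2 N := S.subtype hSN
  have hT8 : Nat.card (T : Subgroup N) = 8 :=
    (Nat.card_congr (subgroupOfEquivOfLe hSN).toEquiv).trans h8
  have h8d : 8 ∣ Nat.card N := hT8 ▸ Subgroup.card_subgroup_dvd_card _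
  have h16 : ¬ 16 ∣ Nat.card N := fun h => by
    have h1 := T.card_eq_multiplicity
    rw [hT8] at h1
    have h2 := (Nat.prime_two.pow_dvd_iff_le_factorization Nat.card_pos.ne').1
      (show 2 ^ 4 ∣ Nat.card N from h)
    have h3 : (Nat.card N).factorization 2 = 3 := (Nat.pow_right_injective le_rfl (by simpa using h1)).symm
    omega
  have h504' : Nat.card N = 504 ∧ Fintype.card F = 8 := by
    rw [hNcard] at h8d h16 ⊢
    have hcF := Cfsg.Lib.Linear.Two.card_PSL_two (F := F)
    rcases hq with ⟨h38, -⟩ | ⟨n, hn, hF⟩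
    · exfalso
      have hc := Dickson.card_psl_mul (K := F) (by omega)
      obtain ⟨k, hk⟩ : ∃ k, Fintype.card F = 8 * k + Fintype.card F % 8 :=
        ⟨Fintype.card F / 8, by omega⟩
      have hmul : 16 ∣ Fintype.card F * (Fintype.card F ^ 2 - 1) := by
        rw [← hc]; exact Nat.mul_dvd_mul_left 2 h8d
      have h := (Nat.Coprime.pow_left 4
        (Nat.coprime_two_left.2 (Nat.odd_iff.2 (by omega)))).dvd_of_dvd_mul_left hmul
      rcases h38 with h' | h' <;> rw [h'] at hk
      · rw [show Fintype.card F ^ 2 = 16 * (4 * k * k + 3 * k) + 9 by rw [hk]; ring] at h; omega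
      · rw [show Fintype.card F ^ 2 = 16 * (4 * k * k + 5 * k + 1) + 9 by rw [hk]; ring] at h; omega
    · have hev : Nat.gcd 2 (Fintype.card F - 1) = 1 := by
        refine Nat.coprime_two_left.2 ?_
        have : 2 ∣ Fintype.card F := hF ▸ dvd_pow_self 2 (by omega)
        rw [Nat.odd_iff]; omega
      rw [hev, one_mul] at hcF
      rw [hcF, hF] at h8d h16 ⊢
      have hodd : Odd ((2 ^ n) ^ 2 - 1) := by
        have : 2 ∣ (2 ^ n) ^ 2 := dvd_pow (dvd_pow_self 2 (by omega)) two_ne_zero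
        have : 1 ≤ (2 ^ n) ^ 2 := Nat.one_le_pow _ _ (by positivity)
        rw [Nat.odd_iff]; omega
      have h3 : 3 ≤ n := by
        by_contra hlt
        obtain rfl : n = 2 := by omega
        norm_num at h8d
      have h3' : n ≤ 3 := by
        by_contra hlt
        exact h16 (dvd_mul_of_dvd_left ((show (16 : ℕ) = 2 ^ 4 by norm_num) ▸
          pow_dvd_pow 2 (by omega : 4 ≤ n)) _)
      obtain rfl : n = 3 := by omega
      norm_num
  have h504 : Nat.card N = 504 := h504'.1
  refine ⟨?_, ?_⟩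
  swap
  · obtain ⟨z, hz⟩ := exists_orderOf_nine h504'.2
    exact ⟨eN.symm z, by rw [Subgroup.orderOf_coe, MulEquiv.orderOf_eq, hz]⟩
  have hTsq : ∀ v ∈ (T : Subgroup N), v * v = 1 := fun v hv => Subtype.ext (hsq _ hv)
  have hna : ¬ IsMulCommutative N := fun h => by
    haveI := h
    haveI : Group.IsSolvable N := Group.isSolvable_of_comm fun a b => mul_comm' a b
    have hp := IsSimpleGroup.comm_iff_isSolvable.2 ‹Group.IsSolvable N›
    letI : CommGroup N := { (inferInstance : Group N) with mul_comm := hp }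
    have := IsSimpleGroup.prime_card (α := N)
    rw [h504] at this
    norm_num at this
  have htr' : ∀ a, Pt S a → ∀ b, Pt S b →
      ∃ n ∈ N, n ∈ normalizer ((S : Subgroup X) : Set X) ∧ n * a * n⁻¹ = b := by
    intro a ha b hb
    obtain ⟨n, -, hn, e⟩ := transAt_top hna T hT8 hTsq ⟨a, hSN ha.1⟩ ⟨b, hSN hb.1⟩
      ⟨ha.1, fun e => ha.2 (congrArg Subtype.val e)⟩ ⟨hb.1, fun e => hb.2 (congrArg Subtype.val e)⟩
    refine ⟨n, n.2, mem_normalizer_fintype fun w hw => ?_, congrArg Subtype.val e⟩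
    exact (mem_normalizer_iff.1 hn ⟨w, hSN hw⟩).1 hw
  set D := N ⊓ Cg t
  have hSD : (S : Subgroup X) ≤ D := le_inf hSN fun s hs =>
    mem_Cg.2 (congrArg Subtype.val ((comm_of_sq hsq).is_comm.comm (⟨s, hs⟩ : (S : Subgroup X)) ⟨t, ht.1⟩))
  have hD8 : 8 ∣ Nat.card D := h8 ▸ card_dvd_of_le hSD
  have hD24 : Nat.card D ∣ 24 := hC ▸ card_dvd_of_le inf_le_right
  have hD : Nat.card D = 8 ∨ Nat.card D = 24 := by
    obtain ⟨k, hk⟩ := hD8
    rw [hk] at hD24 ⊢
    have hk3 : k ∣ 3 := Nat.dvd_of_mul_dvd_mul_left (by norm_num : 0 < 8) (show 8 * k ∣ 8 * 3 from hD24)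
    rcases (Nat.dvd_prime Nat.prime_three).1 hk3 with rfl | rfl <;> simp
  have hsup := sup_cent_eq_top S (N := N) hSN
    (fun a ha b hb => (htr' a ha b hb).imp fun n h => ⟨h.1, h.2.2⟩) ht
  have hidx : N.index * Nat.card D = 24 := by
    rw [← hC, ← relIndex_top_right, ← hsup, relIndex_sup_left, ← inf_relIndex_right, mul_comm, relIndex,
      ← Nat.card_congr (subgroupOfEquivOfLe (inf_le_right : D ≤ Cg t)).toEquiv, Subgroup.card_mul_index]
  rcases hD with hD | hD
  · rw [hD] at hidx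
    rw [← N.card_mul_index, h504, show N.index = 3 by omega]
  · exfalso
    have hCle : Cg t ≤ N := (eq_of_le_of_card_ge (inf_le_right : D ≤ Cg t) (hD ▸ hC.le)).ge.trans inf_le_left
    set H := (normalizer ((S : Subgroup X) : Set X)).subgroupOf N
    have hNS : normalizer ((S : Subgroup X) : Set X) ≤ N := fun n hn => by
      obtain ⟨m, hm, -, e⟩ := htr' t ht (n * t * n⁻¹)
        ⟨(mem_normalizer_iff.1 hn _).1 ht.1, fun e => ht.2 (conj_eq_one_iff.1 e)⟩
      have hcz : m⁻¹ * n ∈ N := hCle (mem_Cg.2 (by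
        calc m⁻¹ * n * t = m⁻¹ * (n * t * n⁻¹) * n := by group
          _ = t * (m⁻¹ * n) := by rw [← e]; group))
      simpa using mul_mem hm hcz
    -- a subgroup of index three
    let f7 : normalizer ((S : Subgroup X) : Set X) ⧸ (Cg t).subgroupOf (normalizer ((S : Subgroup X) : Set X)) →
        {a : X // Pt S a} := fun q => Quotient.liftOn' q
      (fun n => ⟨n * t * (n : X)⁻¹, (mem_normalizer_iff.1 n.2 _).1 ht.1,
        fun e => ht.2 (conj_eq_one_iff.1 e)⟩)
      (fun a b hab => Subtype.ext (by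
        rw [QuotientGroup.leftRel_apply] at hab
        have h := mem_Cg.1 (mem_subgroupOf.1 hab)
        simp only [Subgroup.coe_mul, Subgroup.coe_inv] at h
        show (a : X) * t * (a : X)⁻¹ = b * t * (b : X)⁻¹
        calc (a : X) * t * (a : X)⁻¹ = a * (t * ((a : X)⁻¹ * b)) * (b : X)⁻¹ := by group
          _ = a * ((a : X)⁻¹ * b * t) * (b : X)⁻¹ := by rw [h]
          _ = _ := by group))
    have hf7 : Function.Bijective f7 := by
      constructor
      · intro p q
        refine Quotient.inductionOn₂' p q fun a b h => Quotient.sound' ?_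
        rw [QuotientGroup.leftRel_apply, mem_subgroupOf]
        have h' : (a : X) * t * (a : X)⁻¹ = b * t * (b : X)⁻¹ := congrArg Subtype.val h
        refine mem_Cg.2 ?_
        simp only [Subgroup.coe_mul, Subgroup.coe_inv]
        calc (a : X)⁻¹ * b * t = (a : X)⁻¹ * (b * t * (b : X)⁻¹) * b := by group
          _ = (a : X)⁻¹ * (a * t * (a : X)⁻¹) * b := by rw [h']
          _ = _ := by group
      · rintro ⟨a, ha⟩
        obtain ⟨n, -, hn, e⟩ := htr t a ht ha
        exact ⟨QuotientGroup.mk ⟨n, hn⟩, Subtype.ext e⟩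
    have h168 : Nat.card H = 24 * 7 := by
      rw [Nat.card_congr (subgroupOfEquivOfLe hNS).toEquiv,
        ← ((Cg t).subgroupOf (normalizer ((S : Subgroup X) : Set X))).card_mul_index,
        Nat.card_congr (subgroupOfEquivOfLe hCN).toEquiv, hC, Subgroup.index_eq_card,
        Nat.card_congr (Equiv.ofBijective f7 hf7)]
      rw [card_pts h8]
    have hi3 : H.index = 3 := by
      have := H.card_mul_index
      rw [h168, h504] at this
      omega
    have hcore : H.normalCore = ⊥ := by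
      rcases (normalCore_normal H).eq_bot_or_eq_top with h | h
      · exact h
      · have hle := H.normalCore_le
        rw [h, top_le_iff] at hle
        rw [hle, index_top] at hi3
        omega
    have hinj : Function.Injective (MulAction.toPermHom N (N ⧸ H)) := by
      rw [← MonoidHom.ker_eq_bot_iff, ← normalCore_eq_ker, hcore]
    have hle := Nat.card_le_card_of_injective _ hinj
    rw [Nat.card_perm, ← Subgroup.index_eq_card, hi3, h504] at hle
    norm_num [Nat.factorial] at hle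

end Cfsg.Lib.Walter3
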