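import Cfsg.Agent.Lib.E8Cent.Auto
import Mathlib.GroupTheory.Transfer

/-!
# The odd part `F` of `C(t) = (⟨t⟩ × L).F` divides the number of involutions

If an element `x` of `C(t)` has, for each of its powers, a centralizer that is transitive on the
conjugates of `t` it contains, then the transfer of `G` into an abelian quotient of `C(t)` sends `x`
to the image of `x ^ |G : C(t)|`.  In a simple group the transfer is trivial.
-/

set_option autoImplicit false
set_option linter.style.haveILetI false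
set_option linter.unusedSectionVars false

namespace Cfsg.Lib.Walter3

open Subgroup Cfsg

universe u v

variable {G : Type u} [Group G] [Finite G]

/-- The transfer on an element whose powers have transitive centralizers. -/
theorem transfer_eq_pow_index {A : Type v} [CommGroup A] {t : G}
    (φ : centralizer ({t} : Set G) →* A) (x : centralizer ({t} : Set G))
    (htr : ∀ (m : ℕ) (g : G), Commute ((x : G) ^ m) (g * t * g⁻¹) →
      ∃ c : G, Commute c ((x : G) ^ m) ∧ c * t * c⁻¹ = g * t * g⁻¹) :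
    MonoidHom.transfer φ (x : G) = φ x ^ (centralizer ({t} : Set G)).index := by
  classical
  haveI := Fintype.ofFinite (Quotient (MulAction.orbitRel (zpowers (x : G)) (G ⧸ centralizer ({t} : Set G))))
  rw [MonoidHom.transfer_eq_prod_quotient_orbitRel_zpowers_quot,
    Subgroup.index_eq_sum_minimalPeriod _ (x : G), ← Finset.prod_pow_eq_pow_sum]
  refine Finset.prod_congr rfl fun q _ => ?_
  set m := Function.minimalPeriod ((x : G) • ·) q.out with hm
  set g := q.out.out with hg
  have hmem : g⁻¹ * (x : G) ^ m * g ∈ centralizer ({t} : Set G) :=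
    QuotientGroup.out_conj_pow_minimalPeriod_mem _ (x : G) q.out
  have hxg : Commute ((x : G) ^ m) (g * t * g⁻¹) := by
    have h := mem_centralizer_singleton_iff.1 hmem
    show (x : G) ^ m * (g * t * g⁻¹) = g * t * g⁻¹ * (x : G) ^ m
    calc (x : G) ^ m * (g * t * g⁻¹) = g * (g⁻¹ * (x : G) ^ m * g * t) * g⁻¹ := by group
      _ = g * (t * (g⁻¹ * (x : G) ^ m * g)) * g⁻¹ := by rw [h]
      _ = _ := by group
  obtain ⟨c, hc, hct⟩ := htr m g hxg
  have hd : g⁻¹ * c ∈ centralizer ({t} : Set G) := mem_centralizer_singleton_iff.2 (by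
    calc g⁻¹ * c * t = g⁻¹ * (c * t * c⁻¹) * c := by group
      _ = g⁻¹ * (g * t * g⁻¹) * c := by rw [hct]
      _ = t * (g⁻¹ * c) := by group)
  have e : (⟨g⁻¹ * (x : G) ^ m * g, hmem⟩ : centralizer ({t} : Set G)) = ⟨g⁻¹ * c, hd⟩ * x ^ m * (⟨g⁻¹ * c, hd⟩)⁻¹ := by
    refine Subtype.ext ?_
    show g⁻¹ * (x : G) ^ m * g = g⁻¹ * c * (x : G) ^ m * (g⁻¹ * c)⁻¹
    rw [mul_assoc g⁻¹ c, hc.eq]
    group
  show φ ⟨g⁻¹ * (x : G) ^ m * g, hmem⟩ = φ x ^ m
  rw [e, map_mul, map_mul, map_inv, map_pow, mul_comm (φ ⟨g⁻¹ * c, hd⟩), mul_inv_cancel_right]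

/-- In a simple nonabelian group the image of such an element is killed by the index. -/
theorem pow_index_eq_one [IsSimpleGroup G] (hna : ¬ IsMulCommutative G) {A : Type v} [CommGroup A]
    {t : G} (φ : centralizer ({t} : Set G) →* A) (x : centralizer ({t} : Set G))
    (htr : ∀ (m : ℕ) (g : G), Commute ((x : G) ^ m) (g * t * g⁻¹) →
      ∃ c : G, Commute c ((x : G) ^ m) ∧ c * t * c⁻¹ = g * t * g⁻¹) :
    φ x ^ (centralizer ({t} : Set G)).index = 1 := by
  rw [← transfer_eq_pow_index φ x htr]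
  rcases IsSimpleGroup.eq_bot_or_eq_top_of_normal (MonoidHom.transfer φ).ker inferInstance with h | h
  · refine absurd ⟨⟨fun a b => ?_⟩⟩ hna
    exact (MonoidHom.ker_eq_bot_iff _).1 h (by rw [map_mul, map_mul, mul_comm])
  · exact MonoidHom.mem_ker.1 (h ▸ mem_top _)

/-- An element centralizing a Sylow two-subgroup and its normalizer has transitive centralizers. -/
theorem transitive_of_centralizes_normalizer (S : Sylow 2 G) [IsMulCommutative (S : Subgroup G)]
    (h8 : Nat.card (S : Subgroup G) = 8) (hel : IsElementaryAbelian 2 (S : Subgroup G))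
    (h7 : 7 ∣ Nat.card (E8Cent.automizer S)) {t : G} (htS : t ∈ (S : Subgroup G)) (ht : t ≠ 1)
    {y : G} (hy : ∀ n ∈ normalizer ((S : Subgroup G) : Set G), Commute n y) {s : G}
    (hys : Commute y s) (hs2 : s ^ 2 = 1) (hs1 : s ≠ 1) :
    ∃ c : G, Commute c y ∧ c * t * c⁻¹ = s := by
  haveI : Fact (Nat.Prime 2) := ⟨Nat.prime_two⟩
  set Y := centralizer ({y} : Set G)
  have hSY : (S : Subgroup G) ≤ Y := fun a ha =>
    mem_centralizer_singleton_iff.2 (hy a (le_normalizer ha)).eq
  let T : Sylow 2 Y := S.subtype hSY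
  have hsY : s ∈ Y := mem_centralizer_singleton_iff.2 hys.symm.eq
  have hso : orderOf (⟨s, hsY⟩ : Y) = 2 := by
    rw [Subgroup.orderOf_mk]
    exact orderOf_eq_prime hs2 hs1
  obtain ⟨P, hP⟩ := (IsPGroup.of_card (n := 1) (by rw [Nat.card_zpowers, hso, pow_one]) :
    IsPGroup 2 (zpowers (⟨s, hsY⟩ : Y))).exists_le_sylow
  obtain ⟨g, hg⟩ := MulAction.exists_smul_eq Y P T
  have hgs : (g : G) * s * (g : G)⁻¹ ∈ (S : Subgroup G) := by
    have : g * ⟨s, hsY⟩ * g⁻¹ ∈ (T : Subgroup Y) := by
      rw [← hg, Sylow.coe_subgroup_smul]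
      exact ⟨_, hP (mem_zpowers _), rfl⟩
    exact this
  obtain ⟨a, ha⟩ := E8Cent.transitive_of_seven h8 hel h7
    (s := ⟨_, hgs⟩) (t := ⟨t, htS⟩) (fun e => hs1 (conj_eq_one_iff.1 (congrArg Subtype.val e)))
    (fun e => ht (congrArg Subtype.val e))
  obtain ⟨n, hn, hna'⟩ := (E8Cent.mem_automizer_iff S).1 a.2
  refine ⟨(g : G)⁻¹ * n, ((Commute.inv_left (mem_centralizer_singleton_iff.1 g.2)).mul_left
    (hy n hn)), ?_⟩
  have h' : n * t * n⁻¹ = (g : G) * s * (g : G)⁻¹ := by
    rw [← hna' ⟨t, htS⟩]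
    exact congrArg Subtype.val ha
  calc (g : G)⁻¹ * n * t * ((g : G)⁻¹ * n)⁻¹ = (g : G)⁻¹ * (n * t * n⁻¹) * g := by group
    _ = s := by rw [h']; group

/-- A subgroup normalised by `N(S)` and centralised by `C(S)` and by `C(t) ∩ N(S)` is centralised
by `N(S)`. -/
theorem normalizer_centralizes (S : Sylow 2 G) [IsMulCommutative (S : Subgroup G)]
    (h8 : Nat.card (S : Subgroup G) = 8) (hel : IsElementaryAbelian 2 (S : Subgroup G))
    (h21 : Nat.card (E8Cent.automizer S) = 21) {t : G} (htS : t ∈ (S : Subgroup G)) (ht : t ≠ 1)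
    (F : Subgroup G) (hF : normalizer ((S : Subgroup G) : Set G) ≤ normalizer (F : Set G))
    (hC : centralizer ((S : Subgroup G) : Set G) ≤ centralizer (F : Set G))
    (hCt : centralizer ({t} : Set G) ⊓ normalizer ((S : Subgroup G) : Set G) ≤
      centralizer (F : Set G)) :
    normalizer ((S : Subgroup G) : Set G) ≤ centralizer (F : Set G) := by
  classical
  haveI : Fact (Nat.Prime 3) := ⟨Nat.prime_three⟩
  set N := normalizer ((S : Subgroup G) : Set G) with hN
  set A := E8Cent.automizer S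
  let f : N →* A := (S : Subgroup G).normalizerMonoidHom.rangeRestrict
  have hf : Function.Surjective f := MonoidHom.rangeRestrict_surjective _
  set I := ((centralizer (F : Set G)).subgroupOf N).map f with hI
  haveI : ((centralizer (F : Set G)).subgroupOf N).Normal := by
    refine ⟨fun k hk n => ?_⟩
    rw [mem_subgroupOf, mem_centralizer_iff] at hk ⊢
    intro y hy
    have hy' : (n : G)⁻¹ * y * (n : G) ∈ F := (mem_normalizer_iff.1 (hF n.2) _).2 (by
      simpa [mul_assoc] using hy)
    have h := hk _ hy'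
    calc y * ((n : G) * k * (n : G)⁻¹) = n * ((n : G)⁻¹ * y * n * k) * (n : G)⁻¹ := by group
      _ = n * (k * ((n : G)⁻¹ * y * n)) * (n : G)⁻¹ := by rw [h]
      _ = (n : G) * k * (n : G)⁻¹ * y := by group
  haveI hIn : I.Normal := Subgroup.Normal.map inferInstance f hf
  set t' : (S : Subgroup G) := ⟨t, htS⟩
  have ht' : t' ≠ 1 := fun h => ht (congrArg Subtype.val h)
  have hstI : MulAction.stabilizer A t' ≤ I := by
    intro a ha
    obtain ⟨n, rfl⟩ := hf a
    refine ⟨n, ?_, rfl⟩
    show (n : G) ∈ centralizer (F : Set G)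
    refine hCt ⟨mem_centralizer_singleton_iff.2 ?_, n.2⟩
    exact mul_inv_eq_iff_eq_mul.1 (congrArg Subtype.val (MulAction.mem_stabilizer_iff.1 ha))
  have hst := E8Cent.card_stabilizer_of_21 h8 hel h21 ht'
  have hItop : I = ⊤ := by
    obtain ⟨k, hk⟩ := hst ▸ card_dvd_of_le hstI
    have hd : k ∣ 7 := Nat.dvd_of_mul_dvd_mul_left (by norm_num : 0 < 3)
      (show 3 * k ∣ 3 * 7 by rw [← hk, show 3 * 7 = Nat.card A from h21.symm]; exact card_subgroup_dvd_card I)
    rcases (Nat.dvd_prime (by norm_num : Nat.Prime 7)).1 hd with rfl | rfl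
    · exfalso
      have hIst : I = MulAction.stabilizer A t' :=
        (eq_of_le_of_card_ge hstI (by rw [hk, hst])).symm
      have hfix : ∀ a ∈ I, a = 1 := by
        intro a ha
        refine Subtype.ext (MulEquiv.ext fun s => ?_)
        show (a : MulAut (S : Subgroup G)) s = s
        by_cases hs : s = 1
        · rw [hs, map_one]
        obtain ⟨b, rfl⟩ := E8Cent.transitive_of_seven h8 hel (h21 ▸ by norm_num) hs ht'
        have h := hIn.conj_mem a ha b⁻¹
        rw [inv_inv] at h
        have h' : b⁻¹ * a * b ∈ MulAction.stabilizer A t' := hIst ▸ h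
        have h'' := congrArg (fun z => b • z) (MulAction.mem_stabilizer_iff.1 h')
        rw [mul_smul, mul_smul, smul_inv_smul] at h''
        exact h''
      have : MulAction.stabilizer A t' = ⊥ := (eq_bot_iff_forall _).2 fun a ha => hfix a (hstI ha)
      rw [this, card_bot] at hst
      omega
    · exact eq_top_of_card_eq _ (by rw [hk, h21])
  intro n hn
  obtain ⟨m, hm, hmn⟩ : f ⟨n, hn⟩ ∈ I := hItop ▸ mem_top _
  have hker : (⟨n, hn⟩ : N)⁻¹ * m ∈ (S : Subgroup G).normalizerMonoidHom.ker := by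
    rw [MonoidHom.mem_ker, map_mul, map_inv, inv_mul_eq_one]
    exact (congrArg Subtype.val hmn).symm
  rw [normalizerMonoidHom_ker, mem_subgroupOf] at hker
  have h1 : n⁻¹ * (m : G) ∈ centralizer (F : Set G) := hC hker
  have h2 : (m : G) ∈ centralizer (F : Set G) := hm
  have h3 := mul_mem h2 (inv_mem h1)
  rwa [mul_inv_rev, inv_inv, mul_inv_cancel_left] at h3

/-- **Step 0.**  The order of an element of `F` divides the index of the centralizer of `t`. -/
theorem orderOf_dvd_index [IsSimpleGroup G] (hna : ¬ IsMulCommutative G) (S : Sylow 2 G)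
    [IsMulCommutative (S : Subgroup G)] (h8 : Nat.card (S : Subgroup G) = 8)
    (hel : IsElementaryAbelian 2 (S : Subgroup G)) (h21 : Nat.card (E8Cent.automizer S) = 21)
    {t : G} (htS : t ∈ (S : Subgroup G)) (ht : t ≠ 1) {A : Type v} [CommGroup A]
    (φ : centralizer ({t} : Set G) →* A) (F : Subgroup G) (hFt : F ≤ centralizer ({t} : Set G))
    (hφ : ∀ x : centralizer ({t} : Set G), (x : G) ∈ F → φ x = 1 → x = 1)
    (hF : normalizer ((S : Subgroup G) : Set G) ≤ normalizer (F : Set G))
    (hC : centralizer ((S : Subgroup G) : Set G) ≤ centralizer (F : Set G))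
    (hCt : centralizer ({t} : Set G) ⊓ normalizer ((S : Subgroup G) : Set G) ≤
      centralizer (F : Set G))
    {x : G} (hx : x ∈ F) : orderOf x ∣ (centralizer ({t} : Set G)).index := by
  have hN := normalizer_centralizes S h8 hel h21 htS ht F hF hC hCt
  have ht2 : t ^ 2 = 1 := hel.2 t htS
  set x' : centralizer ({t} : Set G) := ⟨x, hFt hx⟩
  have h1 : φ x' ^ (centralizer ({t} : Set G)).index = 1 := by
    refine pow_index_eq_one hna φ x' fun m g hcm => ?_
    refine transitive_of_centralizes_normalizer S h8 hel (h21 ▸ by norm_num) htS ht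
      (fun n hn => ?_) hcm (by rw [conj_pow, ht2, mul_one, mul_inv_cancel])
      (fun e => ht (conj_eq_one_iff.1 e))
    exact (mem_centralizer_iff.1 (hN hn) _ (pow_mem hx m)).symm
  rw [← map_pow] at h1
  have h2 := hφ (x' ^ (centralizer ({t} : Set G)).index) (by
    rw [SubmonoidClass.coe_pow]; exact pow_mem hx _) h1
  exact orderOf_dvd_iff_pow_eq_one.2 (by
    simpa [x'] using congrArg Subtype.val h2)

/-- A cyclic `F` has order dividing the index. -/
theorem card_dvd_index [IsSimpleGroup G] (hna : ¬ IsMulCommutative G) (S : Sylow 2 G)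
    [IsMulCommutative (S : Subgroup G)] (h8 : Nat.card (S : Subgroup G) = 8)
    (hel : IsElementaryAbelian 2 (S : Subgroup G)) (h21 : Nat.card (E8Cent.automizer S) = 21)
    {t : G} (htS : t ∈ (S : Subgroup G)) (ht : t ≠ 1) {A : Type v} [CommGroup A]
    (φ : centralizer ({t} : Set G) →* A) (F : Subgroup G) [IsCyclic F]
    (hFt : F ≤ centralizer ({t} : Set G))
    (hφ : ∀ x : centralizer ({t} : Set G), (x : G) ∈ F → φ x = 1 → x = 1)
    (hF : normalizer ((S : Subgroup G) : Set G) ≤ normalizer (F : Set G))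
    (hC : centralizer ((S : Subgroup G) : Set G) ≤ centralizer (F : Set G))
    (hCt : centralizer ({t} : Set G) ⊓ normalizer ((S : Subgroup G) : Set G) ≤
      centralizer (F : Set G)) :
    Nat.card F ∣ (centralizer ({t} : Set G)).index := by
  obtain ⟨x, hx⟩ := IsCyclic.exists_ofOrder_eq_natCard (α := F)
  rw [← hx, ← Subgroup.orderOf_coe]
  exact orderOf_dvd_index hna S h8 hel h21 htS ht φ F hFt hφ hF hC hCt x.2

end Cfsg.Lib.Walter3
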