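import Cfsg.Agent.Lib.Walter3.CoreBot

/-!
# The data on the centralizers of the points used for balance

From the model of `C(x)/O(C(x))`: an invariant `p`-subgroup is centralized by a line modulo the core,
the torus at `x` has no fixed point of `S` outside the core, and an element of `O(C(S))` centralizing
one torus lies in the core.
-/

set_option autoImplicit false
set_option linter.unusedSectionVars false
set_option linter.style.haveILetI false

namespace Cfsg.Lib.Walter3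

open Subgroup Cfsg
open scoped commutatorElement

universe u

local notation "PSL2[" F "]" => Matrix.ProjectiveSpecialLinearGroup (Fin 2) F

/-- An odd element is not conjugate to its product with a commuting involution. -/
theorem eq_one_of_conj_odd {C : Type u} [Group C] {z y c : C} (hy : Odd (orderOf y)) (hc : c * c = 1)
    (hcy : c * y = y * c) (e : z * y * z⁻¹ = c * y) : c = 1 := by
  have h1 : (z * y * z⁻¹) ^ orderOf y = 1 := by
    rw [conj_pow, pow_orderOf_eq_one]; group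
  obtain ⟨k, hk⟩ := hy
  rw [e, Commute.mul_pow hcy, pow_orderOf_eq_one, mul_one, hk, pow_succ, pow_mul, pow_two, hc, one_pow,
    one_mul] at h1
  exact h1

variable {G : Type u} [Group G] [Finite G] {S : Sylow 2 G}

set_option quotPrecheck false in
local notation "Q[" t "]" => (↥(Cg t) ⧸ Cfsg.oddCore ↥(Cg t))

namespace Hyp

variable (h : Hyp S)
include h

theorem odd_orderOf_image {t : G} {y : Cg t} (hy : Odd (orderOf (y : G))) : Odd (orderOf (yπ (Cg t) y)) := by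
  refine hy.of_dvd_nat ?_
  rw [Subgroup.orderOf_coe]
  exact orderOf_map_dvd _ y

/-- The centralizer of a line at the point, modulo the core. -/
theorem cent_line_decomp {t : G} (ht : Pt S t) {H : Subgroup G} (hH : IsLine (S : Subgroup G) H)
    (htH : t ∈ H) {s : Cg t} (hs : Pt S (s : G)) (hst : (s : G) ≠ t) (hsH : (s : G) ∈ H) {z : Q[t]}
    (hz : z ∈ Cg (yπ (Cg t) s)) :
    ∃ o r : Cg t, (o : G) ∈ cor (centralizer (H : Set G)) ∧ (r : G) ∈ (S : Subgroup G) ∧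
      z = yπ (Cg t) o * yπ (Cg t) r := by
  rw [← map_cent_eq (yπ (Cg t)) (yπ_surjective _) (odd_ker_yπ _) (Subtype.ext (h.sq _ hs.1))] at hz
  obtain ⟨c, hc, rfl⟩ := hz
  have hct : (c : G) * t = t * c := mem_Cg.1 c.2
  have hcs : (c : G) * (s : G) = (s : G) * c := congrArg Subtype.val (mem_Cg.1 hc)
  have hcH : (c : G) ∈ centralizer (H : Set G) := mem_centralizer_iff.2 fun x hx => by
    rcases (h.line_pts hH htH hsH ht.2 hs.2 hst.symm).1 hx with rfl | rfl | rfl | rfl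
    · simp
    · exact hct.symm
    · exact hcs.symm
    · rw [mul_assoc, ← hcs, ← mul_assoc, ← hct, mul_assoc]
  obtain ⟨o, ho, r, hr, e⟩ := h.two_nilp (h.sylow_le_centralizer_line hH.le) (h.fix_centralizer_line hH) hcH
  have hoC : o ∈ Cg t := mem_Cg.2 ((mem_centralizer_iff.1 (cor_le _ ho) t htH).symm)
  refine ⟨⟨o, hoC⟩, ⟨r, (h.le_Cg ht.1) hr⟩, ho, hr, ?_⟩
  rw [← map_mul]
  exact congrArg _ (Subtype.ext e)

section Model

variable {t : G} (ht : Pt S t) {L : Subgroup Q[t]}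
  (hL : FieldModel (ySyl S (h.le_Cg ht.1) : Subgroup Q[t]) (h.tbar ht) L)
include hL

/-- An element normalizing `C(S)` centralizes its odd elements modulo the core. -/
theorem comm_odd_cent {z y : Q[t]}
    (hz : z ∈ normalizer ((ySyl S (h.le_Cg ht.1) : Subgroup Q[t]) : Set Q[t]))
    (hy : y ∈ centralizer ((ySyl S (h.le_Cg ht.1) : Subgroup Q[t]) : Set Q[t])) (hyo : Odd (orderOf y)) :
    z * y = y * z := by
  haveI := hL.normalP
  haveI := hL.cyclic
  set V := (ySyl S (h.le_Cg ht.1) : Subgroup Q[t]) with hV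
  set c := z * y * z⁻¹ * y⁻¹ with hc
  have hzy : z * y * z⁻¹ ∈ centralizer (V : Set Q[t]) := by
    rw [mem_centralizer_iff]
    intro v hv
    have h1 : z⁻¹ * v * z ∈ V := by
      have := (mem_normalizer_iff.1 (inv_mem hz) v).1 hv
      rwa [inv_inv] at this
    have h2 := mem_centralizer_iff.1 hy _ h1
    calc v * (z * y * z⁻¹) = z * (z⁻¹ * v * z * y) * z⁻¹ := by group
      _ = z * (y * (z⁻¹ * v * z)) * z⁻¹ := by rw [h2]
      _ = z * y * z⁻¹ * v := by group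
  have hcC : c ∈ centralizer (V : Set Q[t]) := mul_mem hzy (inv_mem hy)
  have hcP : c ∈ zpowers (h.tbar ht) ⊔ L := by
    rw [← QuotientGroup.eq_one_iff]
    show (QuotientGroup.mk' (zpowers (h.tbar ht) ⊔ L)) (z * y * z⁻¹ * y⁻¹) = 1
    haveI : IsMulCommutative (Q[t] ⧸ (zpowers (h.tbar ht) ⊔ L)) := IsCyclic.isMulCommutative
    rw [map_mul, map_mul, map_mul, map_inv, map_inv, IsMulCommutative.is_comm.comm
      ((QuotientGroup.mk' (zpowers (h.tbar ht) ⊔ L)) z), mul_inv_cancel_right, mul_inv_cancel]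
  have hcV : c ∈ V := hL.selfCent ⟨hcP, hcC⟩
  have hc1 : c = 1 := eq_one_of_conj_odd hyo (h.sq_ySyl (h.le_Cg ht.1) c hcV)
    (mem_centralizer_iff.1 hy c hcV) (show z * y * z⁻¹ = c * y by rw [hc, inv_mul_cancel_right])
  rw [hc, mul_inv_eq_one] at hc1
  exact mul_inv_eq_iff_eq_mul.1 hc1

/-- An element of `L` commuting with two involutions of `V` centralizes the Sylow subgroup. -/
theorem mem_cent_of_pair {v v' z : Q[t]} (hv : v ∈ (ySyl S (h.le_Cg ht.1) : Subgroup Q[t]))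
    (hv' : v' ∈ (ySyl S (h.le_Cg ht.1) : Subgroup Q[t])) (hvL : v ∈ L) (hv'L : v' ∈ L) (v1 : v ≠ 1)
    (v'1 : v' ≠ 1) (hne : v ≠ v') (hzv : z * v = v * z) (hzv' : z * v' = v' * z) :
    z ∈ centralizer ((ySyl S (h.le_Cg ht.1) : Subgroup Q[t]) : Set Q[t]) := by
  obtain ⟨s, hs, rfl⟩ := (mem_ySyl (h.le_Cg ht.1)).1 hv
  obtain ⟨s', hs', rfl⟩ := (mem_ySyl (h.le_Cg ht.1)).1 hv'
  have hpt : ∀ {y : Cg t}, (y : G) ∈ (S : Subgroup G) → yπ (Cg t) y ∈ L → yπ (Cg t) y ≠ 1 →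
      Pt S (y : G) ∧ (y : G) ≠ t := by
    intro y hy hyL hy1
    refine ⟨⟨hy, fun e => hy1 (by rw [show y = 1 from Subtype.ext e, map_one])⟩, fun e => hL.notMem ?_⟩
    have : (⟨t, (h.le_Cg ht.1) ht.1⟩ : Cg t) = y := Subtype.ext e.symm
    rwa [tbar, this]
  obtain ⟨hsP, hst⟩ := hpt hs hvL v1
  obtain ⟨hs'P, hs't⟩ := hpt hs' hv'L v'1
  refine h.mem_cent_sylow ht hL hsP hs'P hst hs't (fun e => hne ?_) (fun e => hL.notMem ?_)
    (mem_Cg.2 hzv) (mem_Cg.2 hzv')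
  · rw [show s' = s from Subtype.ext e]
  · have h1 : s' = ⟨t, (h.le_Cg ht.1) ht.1⟩ * s := Subtype.ext e
    rw [h1, map_mul] at hv'L
    have := mul_mem hv'L (inv_mem hvL)
    rwa [mul_inv_cancel_right] at this

/-- An element of `O(C(S))` centralizing one torus lies in the core. -/
theorem mem_core_of_torus {H : Subgroup G} (hH : IsLine (S : Subgroup G) H) (htH : t ∈ H) {y : G}
    (hy : y ∈ cor (centralizer ((S : Subgroup G) : Set G)))
    (hd : ∀ d ∈ ⁅cor (centralizer (H : Set G)), (S : Subgroup G)⁆, ⁅d, y⁆ ∈ Og t) : y ∈ Og t := by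
  haveI := hL.normal
  haveI := hL.normalP
  have hS := h.le_Cg ht.1
  set V := (ySyl S hS : Subgroup Q[t]) with hV
  have hyS : y ∈ centralizer ((S : Subgroup G) : Set G) := cor_le _ hy
  have hyC : y ∈ Cg t := mem_Cg.2 (mem_centralizer_iff.1 hyS t ht.1).symm
  set yb := yπ (Cg t) ⟨y, hyC⟩ with hyb
  have hyo : Odd (orderOf yb) := h.odd_orderOf_image (y := ⟨y, hyC⟩) (odd_orderOf (odd_cor _) hy)
  have hybV : yb ∈ centralizer (V : Set Q[t]) := by
    rw [mem_centralizer_iff]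
    intro v hv
    obtain ⟨r, hr, rfl⟩ := (mem_ySyl hS).1 hv
    rw [hyb, ← map_mul, ← map_mul]
    exact congrArg _ (Subtype.ext (mem_centralizer_iff.1 hyS r hr))
  suffices hy1 : yb = 1 by
    rw [hyb, ← MonoidHom.mem_ker, ker_yπ] at hy1
    exact ⟨_, hy1, rfl⟩
  obtain ⟨F, i, j, h38, h5, ⟨e⟩⟩ := hL.iso
  have hodd : Fintype.card F % 2 = 1 := by omega
  have hfin : yb ∈ zpowers (h.tbar ht) → yb = 1 := fun hz => by
    obtain ⟨k, hk⟩ := mem_zpowers_iff.1 hz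
    refine eq_one_of_sq_odd hyo ?_
    rw [← hk, ← pow_two, ← zpow_natCast, ← zpow_mul, mul_comm, zpow_mul, zpow_natCast, pow_two,
      show h.tbar ht * h.tbar ht = 1 from h.sq_ySyl hS _ (h.pt_ySyl hS ht).1, one_zpow]
  by_cases hq : Fintype.card F = 5
  · have hP : zpowers (h.tbar ht) ⊔ L = ⊤ := index_eq_one.1 (Nat.dvd_one.1
      (hL.index_dvd (h.sq_ySyl hS _ (h.pt_ySyl hS ht).1) (Nat.odd_iff.2 hodd) e
        (by norm_num : Nat.Prime 5) le_rfl (by rw [hq, pow_one])))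
    exact eq_one_of_sq_odd hyo (h.sq_ySyl hS _ (hL.selfCent ⟨hP ▸ mem_top _, hybV⟩))
  -- a point of the line whose image lies in `L`
  obtain ⟨s, hsH, hsP, hst, hsL⟩ : ∃ s : Cg t, (s : G) ∈ H ∧ Pt S (s : G) ∧ (s : G) ≠ t ∧
      yπ (Cg t) s ∈ L := by
    obtain ⟨b, hbH, b1, bt⟩ := h.line_exists_pts hH htH
    have hne : ∀ (s : Cg t), yπ (Cg t) s ∈ L → (s : G) ≠ t := fun s hs e => hL.notMem (by
      rwa [tbar, show (⟨t, hS ht.1⟩ : Cg t) = s from Subtype.ext e.symm])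
    rcases h.mem_model_or ht hL (hH.le hbH) with hl | hl
    · exact ⟨_, hbH, ⟨hH.le hbH, b1⟩, hne _ hl, hl⟩
    · refine ⟨_, mul_mem htH hbH, ⟨hH.le (mul_mem htH hbH), fun e => bt ?_⟩, hne _ hl, hl⟩
      exact (eq_inv_of_mul_eq_one_right e).trans (h.inv_eq ht.1)
  -- `C(s)` centralizes `y`
  have hline : Cg (yπ (Cg t) s) ≤ Cg yb := by
    intro z hz
    obtain ⟨o, r, ho, hr, rfl⟩ := h.cent_line_decomp ht hH htH hsP hst hsH hz
    refine mul_mem ?_ (mem_Cg.2 (mem_centralizer_iff.1 hybV _ ((mem_ySyl hS).2 ⟨r, hr, rfl⟩)))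
    set O := cor (centralizer (H : Set G)) with hO
    have hSO : (S : Subgroup G) ≤ normalizer (O : Set G) :=
      (h.sylow_le_centralizer_line hH.le).trans (le_normalizer_cor _)
    obtain ⟨d, hdm, c, hc, e'⟩ := Coprime.exists_mul_centralizer_of_commutator_mem (G := O)
      (A := (S : Subgroup G)) hSO (h.coprime_odd (odd_cor _)) (Or.inl h.solvable_S)
      (N := ⁅O, (S : Subgroup G)⁆) (Coprime.commutator_le_of_le_normalizer hSO) Hyp.commutator_norm ho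
      (fun a ha => commutator_mem_commutator ho ha)
    have hOC : O ≤ Cg t := fun x hx => mem_Cg.2 (mem_centralizer_iff.1 (cor_le _ hx) t htH).symm
    have hdC : d ∈ Cg t := hOC (Coprime.commutator_le_of_le_normalizer hSO hdm)
    have hcC : c ∈ Cg t := hOC hc.1
    have hker : yπ (Cg t) ⁅(⟨d, hdC⟩ : Cg t), ⟨y, hyC⟩⁆ = 1 := by
      rw [← MonoidHom.mem_ker, ker_yπ]
      obtain ⟨w, hw, e0⟩ := hd d hdm
      rwa [show ⁅(⟨d, hdC⟩ : Cg t), ⟨y, hyC⟩⁆ = w from Subtype.ext e0.symm]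
    rw [show o = ⟨d, hdC⟩ * ⟨c, hcC⟩ from Subtype.ext e', map_mul]
    refine mul_mem (mem_Cg.2 ?_) (mem_Cg.2 ?_)
    · rwa [map_commutatorElement, commutatorElement_eq_one_iff_mul_comm] at hker
    · refine (h.comm_odd_cent ht hL (centralizer_le_normalizer _ ?_) hybV hyo)
      rw [mem_centralizer_iff]
      intro v hv
      obtain ⟨r', hr', rfl⟩ := (mem_ySyl hS).1 hv
      rw [← map_mul, ← map_mul]
      exact congrArg _ (Subtype.ext (mem_centralizer_iff.1 hc.2 r' hr'))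
  -- a second point, by a rotation
  obtain ⟨n, hn⟩ := h.rot_exists ht
  have hnC : n ∈ Cg t := mem_Cg.2 (mul_inv_eq_iff_eq_mul.1 hn.fix)
  set nb := yπ (Cg t) ⟨n, hnC⟩ with hnb
  have hnV : nb ∈ normalizer (V : Set Q[t]) := by
    refine mem_normalizer_of_cj_eq (eq_of_le_of_card_ge ?_ (by rw [card_cj]))
    rintro _ ⟨v, hv, rfl⟩
    obtain ⟨r, hr, rfl⟩ := (mem_ySyl hS).1 hv
    refine (mem_ySyl hS).2 ⟨⟨n, hnC⟩ * r * ⟨n, hnC⟩⁻¹, (mem_normalizer_iff.1 hn.norm _).1 hr, ?_⟩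
    rw [map_mul, map_mul, map_inv]
    rfl
  have hnc : nb ∈ Cg yb := mem_Cg.2 (h.comm_odd_cent ht hL hnV hybV hyo)
  set s' : Cg t := ⟨n, hnC⟩ * s * ⟨n, hnC⟩⁻¹ with hs'
  have hs'G : (s' : G) = n * (s : G) * n⁻¹ := rfl
  have hs'P : Pt S (s' : G) := hs'G ▸ h.conj_pt hn.norm hsP
  have hs'L : yπ (Cg t) s' ∈ L := by
    rw [hs', map_mul, map_mul, map_inv]
    exact ‹L.Normal›.conj_mem _ hsL _
  have hne : (s' : G) ≠ s := fun e' => hst (h.eq_of_fix hn ht hsP e')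
  have hs't : (s' : G) ≠ t := fun e' => hst (by
    have h1 : n * (s : G) * n⁻¹ = n * t * n⁻¹ := (hs'G ▸ e').trans hn.fix.symm
    exact mul_left_cancel (mul_right_cancel h1))
  have hne' : (s' : G) ≠ t * s := fun e' => hL.notMem (by
    have h1 : s' = ⟨t, hS ht.1⟩ * s := Subtype.ext e'
    have h2 := hs'L
    rw [h1, map_mul] at h2
    have := mul_mem h2 (inv_mem hsL)
    rwa [mul_inv_cancel_right] at this)
  have hline' : L ⊓ Cg (yπ (Cg t) s') ≤ Cg yb := by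
    intro z hz
    have hz' : nb⁻¹ * z * nb ∈ Cg (yπ (Cg t) s) := by
      have h1 : z * (nb * yπ (Cg t) s * nb⁻¹) = nb * yπ (Cg t) s * nb⁻¹ * z := by
        have := mem_Cg.1 hz.2
        rwa [hs', map_mul, map_mul, map_inv] at this
      rw [mem_Cg]
      calc nb⁻¹ * z * nb * yπ (Cg t) s = nb⁻¹ * (z * (nb * yπ (Cg t) s * nb⁻¹)) * nb := by group
        _ = nb⁻¹ * (nb * yπ (Cg t) s * nb⁻¹ * z) * nb := by rw [h1]
        _ = yπ (Cg t) s * (nb⁻¹ * z * nb) := by group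
    have h2 := mul_mem (mul_mem hnc (hline hz')) (inv_mem hnc)
    simpa [mul_assoc] using h2
  have hLy : L ≤ Cg yb := h.model_le_of_cent ht hL hodd (by omega) e hsP hs'P hst hs't hne hne' hsL hs'L
    (inf_le_right.trans hline) hline'
  refine hfin ?_
  rw [← hL.cent, mem_centralizer_iff]
  intro l hl
  exact mem_Cg.1 (hLy hl)

/-- An invariant `p`-group is centralized by an involution of `V`. -/
theorem exists_fixed_invol {p : ℕ} (hp : p.Prime) (hp2 : p ≠ 2) {Q : Subgroup Q[t]} (hQ : IsPGroup p Q)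
    (hn : (ySyl S (h.le_Cg ht.1) : Subgroup Q[t]) ≤ normalizer (Q : Set Q[t])) :
    ∃ s : Cg t, Pt S (s : G) ∧ (s : G) ≠ t ∧ Q ≤ Cg (yπ (Cg t) s) := by
  haveI := hL.normal
  haveI := Fact.mk hp
  have hS := h.le_Cg ht.1
  set V := (ySyl S hS : Subgroup Q[t]) with hV
  obtain ⟨s, s', hs, hs', hst, -, -, -, hsL, hs'L, hs1, hs'1, hss⟩ := h.exists_pair ht hL
  have hsV : yπ (Cg t) s ∈ V := (mem_ySyl hS).2 ⟨s, hs.1, rfl⟩
  by_cases hR : Q ⊓ L = ⊥
  · refine ⟨s, hs, hst, fun q hq => mem_Cg.2 (commutatorElement_eq_one_iff_mul_comm.1 ?_)⟩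
    rw [← mem_bot, ← hR, commutatorElement_def]
    refine mem_inf.2 ⟨?_, ?_⟩
    · rw [mul_assoc, mul_assoc]
      refine mul_mem hq ?_
      have := (mem_normalizer_iff.1 (hn hsV) _).1 (inv_mem hq)
      simpa [mul_assoc] using this
    · exact L.mul_mem (‹L.Normal›.conj_mem _ hsL q) (L.inv_mem hsL)
  set R := Q ⊓ L with hRdef
  obtain ⟨F, i, j, h38, h5, ⟨e⟩⟩ := hL.iso
  haveI hRnt : Nontrivial R := (Subgroup.nontrivial_iff_ne_bot R).2 hR
  have hRp : IsPGroup p R := hQ.to_le inf_le_left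
  set Z := (center R).map R.subtype with hZ
  have hZne : Z ≠ ⊥ := fun e' => by
    have := hRp.center_nontrivial
    exact (Subgroup.nontrivial_iff_ne_bot _).1 this ((Subgroup.map_eq_bot_iff_of_injective _ R.subtype_injective).1 e')
  have hZR : Z ≤ R := map_subtype_le _
  have hRn : ∀ v ∈ V, v ∈ normalizer (R : Set Q[t]) := fun v hv =>
    inf_normalizer_le_normalizer_inf ⟨hn hv, by rw [normalizer_eq_top_iff.2 inferInstance]; exact mem_top v⟩
  set W := V ⊓ L with hW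
  haveI : IsMulCommutative W := comm_of_sq fun v hv => h.sq_ySyl hS v (mem_inf.1 hv).1
  have hs'V : yπ (Cg t) s' ∈ V := (mem_ySyl hS).2 ⟨s', hs'.1, rfl⟩
  have hcyc : ¬ IsCyclic W := by
    intro hc
    obtain ⟨g, hg⟩ := hc.exists_generator
    have h1 := orderOf_eq_card_of_forall_mem_zpowers hg
    have h2 : orderOf g ∣ 2 :=
      orderOf_dvd_of_pow_eq_one (by rw [pow_two]; exact Subtype.ext (h.sq_ySyl hS g (mem_inf.1 g.2).1))
    classical
    have h3 : ({1, ⟨_, ⟨hsV, hsL⟩⟩, ⟨_, ⟨hs'V, hs'L⟩⟩} : Finset W).card = 3 :=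
      Finset.card_eq_three.2 ⟨1, ⟨_, ⟨hsV, hsL⟩⟩, ⟨_, ⟨hs'V, hs'L⟩⟩,
        fun e0 => hs1 (congrArg Subtype.val e0).symm, fun e0 => hs'1 (congrArg Subtype.val e0).symm,
        fun e0 => hss (congrArg Subtype.val e0), rfl⟩
    haveI := Fintype.ofFinite W
    have := Finset.card_le_univ ({1, ⟨_, ⟨hsV, hsL⟩⟩, ⟨_, ⟨hs'V, hs'L⟩⟩} : Finset W)
    rw [h3, ← Nat.card_eq_fintype_card, ← h1] at this
    have := Nat.le_of_dvd two_pos h2
    omega
  have hWZ : W ≤ normalizer (Z : Set Q[t]) := by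
    intro v hv
    refine mem_normalizer_of_cj_eq (eq_of_le_of_card_ge ?_ (by rw [card_cj]))
    rintro _ ⟨_, ⟨r, hr, rfl⟩, rfl⟩
    have hr' : v * (r : Q[t]) * v⁻¹ ∈ R := (mem_normalizer_iff.1 (hRn v (mem_inf.1 hv).1) _).1 r.2
    refine ⟨⟨_, hr'⟩, mem_center_iff.2 fun x => Subtype.ext ?_, rfl⟩
    have hx' : v⁻¹ * (x : Q[t]) * v ∈ R := by
      have := (mem_normalizer_iff.1 (inv_mem (hRn v (mem_inf.1 hv).1)) _).1 x.2
      rwa [inv_inv] at this
    have h2 : v⁻¹ * (x : Q[t]) * v * r = r * (v⁻¹ * (x : Q[t]) * v) :=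
      congrArg Subtype.val (mem_center_iff.1 hr ⟨_, hx'⟩)
    calc (x : Q[t]) * (v * r * v⁻¹) = v * (v⁻¹ * (x : Q[t]) * v * r) * v⁻¹ := by group
      _ = v * (r * (v⁻¹ * (x : Q[t]) * v)) * v⁻¹ := by rw [h2]
      _ = v * r * v⁻¹ * x := by group
  have hoddR : Odd (Nat.card R) := odd_of_pGroup hp hp2 hRp
  obtain ⟨a, z, hz, hz1⟩ : ∃ a : {a : Q[t] // a ∈ W ∧ a ≠ 1}, ∃ z ∈ Z ⊓ Cg (a : Q[t]), z ≠ 1 := by
    by_contra hcon
    push Not at hcon
    refine hZne (le_bot_iff.1 ((Cfsg.Lib.Coprime.le_iSup_centralizer_of_not_isCyclic hcyc hWZ ?_).trans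
      (iSup_le fun a x hx => mem_bot.2 (hcon a x hx))))
    exact Nat.Coprime.coprime_dvd_left (by
      have := card_dvd_of_le (inf_le_left : W ≤ V)
      rwa [h.card_ySyl hS, show (8 : ℕ) = 2 ^ 3 by norm_num] at this)
      ((Nat.coprime_two_left.2 (odd_of_le hZR hoddR)).pow_left 3)
  have hzR : z ∈ R := hZR (mem_inf.1 hz).1
  have hzL : z ∈ L := (mem_inf.1 hzR).2
  have haz : (a : Q[t]) * z = z * a := (mem_Cg.1 (mem_inf.1 hz).2).symm
  -- the centralizer of `z` in `L` is abelian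
  have hab : ∀ x ∈ L, ∀ y ∈ L, x * z = z * x → y * z = z * y → x * y = y * x := by
    intro x hx y hy hxz hyz
    have hzo : e ⟨z, hzL⟩ * e ⟨z, hzL⟩ ≠ 1 := fun e' => hz1 (eq_one_of_sq_odd (odd_orderOf hoddR hzR) (by
      rw [← map_mul, e.map_eq_one_iff] at e'
      exact congrArg Subtype.val e'))
    have hm : ∀ w (hw : w ∈ L), w * z = z * w → e ⟨w, hw⟩ ∈ centralizer ({e ⟨z, hzL⟩} : Set PSL2[F]) :=
      fun w hw hwz => mem_centralizer_singleton_iff.2 (by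
        rw [← map_mul, ← map_mul]; exact congrArg _ (Subtype.ext hwz))
    have h1 := (MinNonCA.comm_cent_of_sq_ne hzo _ (hm x hx hxz) _ (hm y hy hyz)).eq
    rw [← map_mul, ← map_mul] at h1
    exact congrArg Subtype.val (e.injective h1)
  have hRz : ∀ r ∈ R, r * z = z * r := fun r hr => by
    obtain ⟨z', hz', e'⟩ := (mem_inf.1 hz).1
    rw [← e']
    exact congrArg Subtype.val (mem_center_iff.1 hz' ⟨r, hr⟩)
  have haV : (a : Q[t]) ∈ V := (mem_inf.1 a.2.1).1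
  have haL : (a : Q[t]) ∈ L := (mem_inf.1 a.2.1).2
  obtain ⟨r, hr, hra⟩ := (mem_ySyl hS).1 haV
  refine ⟨r, ⟨hr, fun e' => a.2.2 (by rw [← hra, show r = 1 from Subtype.ext e', map_one])⟩,
    fun e' => hL.notMem (by rwa [tbar, show (⟨t, hS ht.1⟩ : Cg t) = r from Subtype.ext e'.symm, hra]),
    fun q hq => ?_⟩
  rw [hra]
  set b := q * (a : Q[t]) * q⁻¹ with hb
  suffices hba : b = a by exact mem_Cg.2 (mul_inv_eq_iff_eq_mul.1 hba)
  have hbL : b ∈ L := ‹L.Normal›.conj_mem _ haL q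
  have hqR : q⁻¹ * z * q ∈ R :=
    ⟨Q.mul_mem (Q.mul_mem (Q.inv_mem hq) (mem_inf.1 hzR).1) hq, ‹L.Normal›.conj_mem' _ hzL q⟩
  have haR : ∀ x ∈ R, (a : Q[t]) * x = x * a := fun x hx =>
    hab _ haL _ (mem_inf.1 hx).2 haz (hRz x hx)
  have hbz : b * z = z * b := by
    calc b * z = q * ((a : Q[t]) * (q⁻¹ * z * q)) * q⁻¹ := by rw [hb]; group
      _ = q * (q⁻¹ * z * q * a) * q⁻¹ := by rw [haR _ hqR]
      _ = z * b := by rw [hb]; group
  by_contra hne
  -- two commuting involutions of `L` centralizing `z`: then `z` centralizes a Sylow subgroup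
  have hab' : (a : Q[t]) * b = b * a := hab _ haL _ hbL haz hbz
  have ha2 : (a : Q[t]) * a = 1 := h.sq_ySyl hS _ haV
  have hb2 : b * b = 1 := by rw [hb, show q * (a : Q[t]) * q⁻¹ * (q * a * q⁻¹) = q * (a * a) * q⁻¹ by group, ha2]; group
  let T : Subgroup Q[t] :=
    { carrier := {w | w ∈ L ∧ w * z = z * w ∧ w * w = 1}
      one_mem' := ⟨one_mem _, by simp, one_mul 1⟩
      mul_mem' := fun {x y} hx hy => ⟨mul_mem hx.1 hy.1,
        (Commute.mul_left (show Commute x z from hx.2.1) hy.2.1).eq,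
        by rw [mul_assoc, ← mul_assoc y, ← hab x hx.1 y hy.1 hx.2.1 hy.2.1, mul_assoc x y y, hy.2.2,
          mul_one, hx.2.2]⟩
      inv_mem' := fun {x} hx => ⟨inv_mem hx.1, (show Commute x z from hx.2.1).inv_left.eq,
        by rw [← mul_inv_rev, hx.2.2, inv_one]⟩ }
  haveI : Fact (Nat.Prime 2) := ⟨Nat.prime_two⟩
  have hT : IsPGroup 2 T := fun w => ⟨1, Subtype.ext (by
    rw [pow_one, Subgroup.coe_pow, pow_two]; exact w.2.2.2)⟩
  obtain ⟨P, hP⟩ := hT.exists_le_sylow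
  obtain ⟨g, hg⟩ := MulAction.exists_smul_eq Q[t] P (ySyl S hS)
  have hmov : ∀ w ∈ T, g * w * g⁻¹ ∈ V := fun w hw => by
    rw [hV, ← hg, Sylow.coe_subgroup_smul]
    exact ⟨w, hP hw, rfl⟩
  have hz' := h.mem_cent_of_pair ht hL (z := g * z * g⁻¹) (hmov _ ⟨haL, haz, ha2⟩) (hmov _ ⟨hbL, hbz, hb2⟩)
    (‹L.Normal›.conj_mem _ haL g) (‹L.Normal›.conj_mem _ hbL g) (fun e' => a.2.2 (conj_eq_one_iff.1 e'))
    (fun e' => a.2.2 (conj_eq_one_iff.1 (conj_eq_one_iff.1 e')))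
    (fun e' => hne (mul_left_cancel (mul_right_cancel e')).symm)
    (by
      calc g * z * g⁻¹ * (g * a * g⁻¹) = g * (z * a) * g⁻¹ := by group
        _ = g * a * g⁻¹ * (g * z * g⁻¹) := by rw [← haz]; group)
    (by
      calc g * z * g⁻¹ * (g * b * g⁻¹) = g * (z * b) * g⁻¹ := by group
        _ = g * b * g⁻¹ * (g * z * g⁻¹) := by rw [← hbz]; group)
  have hgz := h.sq_ySyl hS _ (hL.selfCent ⟨mem_sup_right (‹L.Normal›.conj_mem _ hzL g), hz'⟩)
  refine hz1 (eq_one_of_sq_odd (odd_orderOf hoddR hzR) ?_)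
  rw [show g * z * g⁻¹ * (g * z * g⁻¹) = g * (z * z) * g⁻¹ by group, conj_eq_one_iff] at hgz
  exact hgz

end Model

variable {t : G} (ht : Pt S t) (hns : ¬ Group.IsSolvable ↥(Cg t))
include ht hns

/-- Invariant `p`-groups are centralized by a line modulo the core. -/
theorem torusData : Torus S := by
  intro p hp hp2 x hx Q hQC hQ hn
  obtain ⟨L, hL⟩ := h.exists_model hx (h.not_solvable_cent ht hx hns)
  have hS := h.le_Cg hx.1
  obtain ⟨s, hs, hst, hsQ⟩ := h.exists_fixed_invol hx hL hp hp2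
    ((hQ.comap_subtype (K := Cg x)).map (yπ (Cg x))) (by
      intro v hv
      obtain ⟨r, hr, rfl⟩ := (mem_ySyl hS).1 hv
      refine mem_normalizer_of_cj_eq (eq_of_le_of_card_ge ?_ (by rw [card_cj]))
      rintro _ ⟨_, ⟨q, hq, rfl⟩, rfl⟩
      refine ⟨r * q * r⁻¹, ?_, by rw [map_mul, map_mul, map_inv]; rfl⟩
      rw [SetLike.mem_coe, mem_comap] at hq ⊢
      exact (mem_normalizer_iff.1 (hn hr) _).1 hq)
  obtain ⟨H, hH, hxH, hsH⟩ := h.line_of hx hs hst.symm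
  refine ⟨H, hH, hxH, commutator_le.2 fun q hq a ha => ?_⟩
  have hqC : q ∈ Cg x := hQC hq
  have haC : a ∈ Cg x := hS (hH.le ha)
  have h1 : yπ (Cg x) ⟨q, hqC⟩ * yπ (Cg x) s = yπ (Cg x) s * yπ (Cg x) ⟨q, hqC⟩ :=
    mem_Cg.1 (hsQ (mem_map_of_mem _ (mem_subgroupOf.2 hq)))
  have h2 : yπ (Cg x) ⟨q, hqC⟩ * yπ (Cg x) ⟨x, hS hx.1⟩ = yπ (Cg x) ⟨x, hS hx.1⟩ * yπ (Cg x) ⟨q, hqC⟩ := by
    rw [← map_mul, ← map_mul]
    exact congrArg _ (Subtype.ext (mem_Cg.1 hqC))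
  have hker : yπ (Cg x) ⁅(⟨q, hqC⟩ : Cg x), ⟨a, haC⟩⁆ = 1 := by
    rw [map_commutatorElement, commutatorElement_eq_one_iff_mul_comm]
    rcases (h.line_pts hH hxH hsH hx.2 hs.2 hst.symm).1 ha with rfl | rfl | rfl | rfl
    · rw [show (⟨1, haC⟩ : Cg x) = 1 from rfl, map_one, mul_one, one_mul]
    · exact h2
    · exact h1
    · rw [show (⟨x * (s : G), haC⟩ : Cg x) = ⟨x, hS hx.1⟩ * s from rfl, map_mul]
      exact (Commute.mul_right (show Commute _ _ from h2) h1).eq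
  rw [← MonoidHom.mem_ker, ker_yπ] at hker
  exact ⟨_, hker, rfl⟩

/-- An element of `O(C(S))` centralizing a torus lies in the core. -/
theorem faithfulData : Faithful S := by
  intro x hx H hH hxH y hy hd
  obtain ⟨L, hL⟩ := h.exists_model hx (h.not_solvable_cent ht hx hns)
  exact h.mem_core_of_torus hx hL hH hxH hy hd

/-- The torus has no fixed point of `S` outside the core. -/
theorem torusFixData : TorusFix S := by
  intro x hx H hH hxH d hd
  obtain ⟨L, hL⟩ := h.exists_model hx (h.not_solvable_cent ht hx hns)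
  haveI := hL.normalP
  have hS := h.le_Cg hx.1
  set O := cor (centralizer (H : Set G)) with hO
  have hSO : (S : Subgroup G) ≤ normalizer (O : Set G) :=
    (h.sylow_le_centralizer_line hH.le).trans (le_normalizer_cor _)
  have hdO : d ∈ O := Coprime.commutator_le_of_le_normalizer hSO (mem_inf.1 hd).1
  have hOC : O ≤ Cg x := fun y hy => mem_Cg.2 (mem_centralizer_iff.1 (cor_le _ hy) x hxH).symm
  set P := zpowers (h.tbar hx) ⊔ L with hP
  have hdP : yπ (Cg x) ⟨d, hOC hdO⟩ ∈ P := by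
    have hle : ⁅O, (S : Subgroup G)⁆ ≤ (P.comap (yπ (Cg x))).map (Cg x).subtype := by
      rw [commutator_le]
      intro o ho a ha
      refine ⟨⁅(⟨o, hOC ho⟩ : Cg x), ⟨a, hS ha⟩⁆, ?_, rfl⟩
      rw [SetLike.mem_coe, mem_comap, map_commutatorElement, commutatorElement_def]
      exact mul_mem (‹P.Normal›.conj_mem _ (hL.le ((mem_ySyl hS).2 ⟨⟨a, hS ha⟩, ha, rfl⟩)) _)
        (inv_mem (hL.le ((mem_ySyl hS).2 ⟨⟨a, hS ha⟩, ha, rfl⟩)))
    obtain ⟨d', hd', e⟩ := hle (mem_inf.1 hd).1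
    rwa [show (⟨d, hOC hdO⟩ : Cg x) = d' from Subtype.ext e.symm]
  have hdV : yπ (Cg x) ⟨d, hOC hdO⟩ ∈ (ySyl S hS : Subgroup Q[x]) := hL.selfCent ⟨hdP, by
    refine mem_centralizer_iff.2 ?_
    intro v hv
    obtain ⟨r, hr, rfl⟩ := (mem_ySyl hS).1 hv
    rw [← map_mul, ← map_mul]
    exact congrArg _ (Subtype.ext (mem_centralizer_iff.1 (mem_inf.1 hd).2 r hr))⟩
  have hd1 : yπ (Cg x) ⟨d, hOC hdO⟩ = 1 := eq_one_of_sq_odd
    (h.odd_orderOf_image (y := ⟨d, hOC hdO⟩) (odd_orderOf (odd_cor _) hdO)) (h.sq_ySyl hS _ hdV)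
  rw [← MonoidHom.mem_ker, ker_yπ] at hd1
  exact ⟨_, hd1, rfl⟩

end Hyp

end Cfsg.Lib.Walter3
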