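import Cfsg.Agent.Lib.Walter3.SocleModel
import Cfsg.Agent.Lib.Walter3.Plane
import Cfsg.Agent.Lib.WalterBig.Main
import Cfsg.Agent.S0251
import Cfsg.Prelude.Def_TwoFusion

/-!
# An involution centralizer `⟨t⟩ × E`, `E` almost simple over `PSL₂(q)`, in a simple group with abelian
Sylow two-subgroups

The field has at least five elements, the Sylow subgroup is elementary of order eight and the
centralizer is nonsolvable with trivial odd core.
-/

set_option autoImplicit false
set_option linter.unusedSectionVars false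
set_option linter.style.haveILetI false

namespace Cfsg.Lib.Walter3

open Subgroup Cfsg

universe u

variable {G : Type u} [Group G] [Finite G]

local notation "PSL2[" F "]" => Matrix.ProjectiveSpecialLinearGroup (Fin 2) F

theorem card_psl_odd {F : Type} [Field F] [Fintype F] (hodd : Fintype.card F % 2 = 1) :
    2 * Nat.card PSL2[F] = Fintype.card F * (Fintype.card F ^ 2 - 1) := by
  have h := Cfsg.Lib.Linear.Two.card_PSL_two (F := F)
  rwa [Nat.gcd_eq_left (show 2 ∣ Fintype.card F - 1 by omega)] at h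

theorem four_dvd_psl {F : Type} [Field F] [Fintype F] (hodd : Fintype.card F % 2 = 1) :
    4 ∣ Nat.card PSL2[F] := by
  obtain ⟨m, hm⟩ : ∃ m, Fintype.card F = 2 * m + 1 := ⟨Fintype.card F / 2, by omega⟩
  obtain ⟨j, hj⟩ := Nat.even_mul_succ_self m
  have h := card_psl_odd hodd
  rw [hm, show (2 * m + 1) ^ 2 - 1 = 2 * (2 * (m * (m + 1))) by ring_nf; omega, hj] at h
  exact ⟨(2 * m + 1) * j, by nlinarith⟩

theorem four_facts :
    (∀ a b : alternatingGroup (Fin 4), a * a = 1 → b * b = 1 → a * b * (a * b) = 1) ∧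
    (∀ c : alternatingGroup (Fin 4), (∀ v, v * v = 1 → c * v = v * c) → c * c = 1) ∧
    (∀ g c : alternatingGroup (Fin 4), g * g ≠ 1 → c * c = 1 → ∃ v, v * v = 1 ∧ v * g = c * g * v) ∧
    (∀ g y : alternatingGroup (Fin 4), g * g ≠ 1 → ∃ v, v * v = 1 ∧ (y = v ∨ y = v * g ∨ y = v * g * g)) ∧
    ∃ g : alternatingGroup (Fin 4), g * g ≠ 1 := by
  refine ⟨?_, ?_, ?_, ?_, ?_⟩ <;> decide +kernel

/-- An abelian Sylow two-subgroup of an automorphism group of `A₄` leaves it as `A₄`. -/
theorem eq_of_three {E : Subgroup G} {E₀ : Subgroup G} (hle : E₀ ≤ E) (hn : E ≤ normalizer (E₀ : Set G))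
    {F : Type} [Field F] [Fintype F] (hF : Fintype.card F = 3) (e₀ : E₀ ≃* PSL2[F])
    (hCE : E ⊓ centralizer (E₀ : Set G) = ⊥) (S : Sylow 2 G) (hS : IsMulCommutative (S : Subgroup G)) :
    E = E₀ := by
  classical
  haveI : Fact (Nat.Prime 2) := ⟨Nat.prime_two⟩
  obtain ⟨φ⟩ := Cfsg.Agent.S0251.result (F := F) hF
  set e := e₀.trans φ with he
  obtain ⟨hmul, hcent, hconj, hgen, g', hg'⟩ := four_facts
  have tr : ∀ {a : E₀}, a * a = 1 ↔ e a * e a = 1 := fun {a} => by
    rw [← map_mul, ← map_one e, e.apply_eq_iff_eq]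
  set g := e.symm g' with hgdef
  have hg : e g = g' := e.apply_symm_apply g'
  let V₀ : Subgroup E₀ :=
    { carrier := {v | v * v = 1}
      one_mem' := one_mul 1
      mul_mem' := fun {a b} ha hb => tr.2 (by rw [map_mul]; exact hmul _ _ (tr.1 ha) (tr.1 hb))
      inv_mem' := fun {a} ha => by
        show a⁻¹ * a⁻¹ = 1
        rw [← mul_inv_rev, show a * a = 1 from ha, inv_one] }
  haveI : (E₀.subgroupOf E).Normal := (normal_subgroupOf_iff_le_normalizer hle).2 hn
  let V : Subgroup E := V₀.map (inclusion hle)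
  haveI hVnE : V.Normal := by
    refine ⟨?_⟩
    rintro _ ⟨v, hv, rfl⟩ x
    refine ⟨⟨(x : G) * v * (x : G)⁻¹, (mem_normalizer_iff.1 (hn x.2) _).1 v.2⟩, ?_, rfl⟩
    refine Subtype.ext ?_
    show (x : G) * v * (x : G)⁻¹ * ((x : G) * v * (x : G)⁻¹) = 1
    calc (x : G) * v * (x : G)⁻¹ * ((x : G) * v * (x : G)⁻¹) = x * ((v : G) * v) * (x : G)⁻¹ := by group
      _ = 1 := by rw [show (v : G) * v = 1 from congrArg Subtype.val hv]; group
  obtain ⟨P⟩ : Nonempty (Sylow 2 E) := inferInstance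
  have hPc : ∀ a ∈ (P : Subgroup E), ∀ b ∈ (P : Subgroup E), a * b = b * a := by
    intro a ha b hb
    obtain ⟨P', hP'⟩ := (P.2.map E.subtype).exists_le_sylow
    have := AbTwo.abelian_of_one S hS P'
    exact Subtype.ext (congrArg Subtype.val
      (this.is_comm.comm (⟨(a : G), hP' ⟨a, ha, rfl⟩⟩ : (P' : Subgroup G)) ⟨(b : G), hP' ⟨b, hb, rfl⟩⟩) :)
  have hVp : IsPGroup 2 V₀ := fun v => ⟨1, Subtype.ext (by
    rw [pow_one, Subgroup.coe_pow, pow_two]; exact v.2)⟩
  have hVP : V ≤ (P : Subgroup E) := IsPGroup.le_sylow_of_normal (N := V) (hVp.map _) P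
  have hx : ∀ x ∈ (P : Subgroup E), (x : G) ∈ E₀ := by
    intro x hx
    let ψ : E₀ →* E₀ :=
      { toFun := fun y => ⟨(x : G) * y * (x : G)⁻¹, (mem_normalizer_iff.1 (hn x.2) _).1 y.2⟩
        map_one' := Subtype.ext (by simp)
        map_mul' := fun a b => Subtype.ext (by simp only [Subgroup.coe_mul]; group) }
    have hψ : ∀ y : E₀, ((ψ y : E₀) : G) = x * y * (x : G)⁻¹ := fun y => rfl
    have hψV : ∀ v : E₀, v * v = 1 → ψ v = v := fun v hv => Subtype.ext (by
      rw [hψ, show (x : G) * (v : G) = (v : G) * x from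
        congrArg Subtype.val (hPc x hx _ (hVP ⟨v, hv, rfl⟩)), mul_inv_cancel_right])
    set c := ψ g * g⁻¹ with hc
    have hcV : c * c = 1 := tr.2 (hcent (e c) fun w hw => by
      obtain ⟨v, rfl⟩ := e.surjective w
      have hv : v * v = 1 := tr.2 hw
      have h1 : g⁻¹ * v * g * (g⁻¹ * v * g) = 1 := by
        calc g⁻¹ * v * g * (g⁻¹ * v * g) = g⁻¹ * (v * v) * g := by group
          _ = 1 := by rw [hv]; group
      have h2 := hψV _ h1
      rw [map_mul, map_mul, map_inv, hψV v hv] at h2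
      rw [← map_mul, ← map_mul]
      refine congrArg e ?_
      calc c * v = ψ g * (g⁻¹ * v * g) * g⁻¹ := by rw [hc]; group
        _ = ψ g * ((ψ g)⁻¹ * v * ψ g) * g⁻¹ := by rw [h2]
        _ = v * c := by rw [hc]; group)
    obtain ⟨v', hv', hvg'⟩ := hconj g' (e c) hg' (tr.1 hcV)
    obtain ⟨v, rfl⟩ := e.surjective v'
    have hv : v * v = 1 := tr.2 hv'
    have hcg : e (ψ g) = e c * g' := by
      rw [show ψ g = c * g by rw [hc]; group, map_mul, hg]
    have hvg : v * g = ψ g * v := e.injective (by rw [map_mul, map_mul, hg, hvg', hcg])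
    have hψg : ψ g = v * g * v⁻¹ := by rw [hvg]; group
    have hcomm : ∀ w : E₀, w * w = 1 → ψ w = v * w * v⁻¹ := fun w hw => by
      rw [hψV w hw]
      have h2 : v * w * (v * w) = 1 := tr.2 (by rw [map_mul]; exact hmul _ _ (tr.1 hv) (tr.1 hw))
      rw [inv_eq_of_mul_eq_one_left hv]
      calc w = v * v * w * (w * w) := by rw [hv, hw, one_mul, mul_one]
        _ = v * (v * w) * (w * w) := by group
        _ = v * (v * w)⁻¹ * (w * w) := by rw [inv_eq_of_mul_eq_one_left h2]
        _ = v * w⁻¹ * v⁻¹ * (w * w) := by group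
        _ = v * w * v := by rw [hw, mul_one, inv_eq_of_mul_eq_one_left hw, inv_eq_of_mul_eq_one_left hv]
    have key : ∀ y : E₀, ψ y = v * y * v⁻¹ := by
      intro y
      obtain ⟨w', hw', h⟩ := hgen g' (e y) hg'
      obtain ⟨w, rfl⟩ := e.surjective w'
      have hw : w * w = 1 := tr.2 hw'
      rcases h with h | h | h
      · rw [e.injective h, hcomm w hw]
      · rw [show y = w * g from e.injective (by rw [h, map_mul, hg]), map_mul, hcomm w hw, hψg]; group
      · rw [show y = w * g * g from e.injective (by rw [h, map_mul, map_mul, hg]), map_mul, map_mul, hcomm w hw,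
          hψg]
        group
    have hz : (v : G)⁻¹ * x ∈ centralizer (E₀ : Set G) := by
      rw [mem_centralizer_iff]
      intro y hy
      have key' : (x : G) * y * (x : G)⁻¹ = (v : G) * y * (v : G)⁻¹ := congrArg Subtype.val (key ⟨y, hy⟩)
      calc y * ((v : G)⁻¹ * x) = (v : G)⁻¹ * ((v : G) * y * (v : G)⁻¹) * x := by group
        _ = (v : G)⁻¹ * ((x : G) * y * (x : G)⁻¹) * x := by rw [key']
        _ = (v : G)⁻¹ * x * y := by group
    have h1 : (v : G)⁻¹ * x ∈ E ⊓ centralizer (E₀ : Set G) := ⟨mul_mem (E.inv_mem (hle v.2)) x.2, hz⟩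
    rw [hCE, mem_bot] at h1
    rw [← inv_mul_eq_one.1 h1]
    exact v.2
  -- so the index is odd, hence one
  set E' := E₀.subgroupOf E with hE'
  have hodd : Odd E'.index := Nat.not_even_iff_odd.1 fun he => P.not_dvd_index
    ((even_iff_two_dvd.1 he).trans (index_dvd_of_le fun y hy => mem_subgroupOf.2 (hx y hy)))
  have hC' : centralizer (E' : Set E) = ⊥ := by
    rw [eq_bot_iff]
    intro y hy
    have h1 : (y : G) ∈ E ⊓ centralizer (E₀ : Set G) := ⟨y.2, mem_centralizer_iff.2 fun z hz =>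
      congrArg Subtype.val (mem_centralizer_iff.1 hy ⟨z, hle hz⟩ (mem_subgroupOf.2 hz))⟩
    rw [hCE, mem_bot] at h1
    exact mem_bot.2 (Subtype.ext h1)
  have hd := index_dvd_degree (E := E') ((subgroupOfEquivOfLe hle).trans e₀) (by rw [hF]; decide) hC' hodd
    Nat.prime_three le_rfl (by rw [hF, pow_one])
  have htop : E' = ⊤ := index_eq_one.1 (Nat.dvd_one.1 hd)
  exact le_antisymm (subgroupOf_eq_top.1 htop) hle

theorem not_solvable_psl {C : Type u} [Group C] [Finite C] {F : Type} [Field F] [Fintype F]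
    (hodd : Fintype.card F % 2 = 1) (h4 : 4 ≤ Fintype.card F) (e : C ≃* PSL2[F]) : ¬ Group.IsSolvable C := by
  intro hs
  haveI := hs
  haveI := psl_simple (F := F) h4
  haveI : Group.IsSolvable PSL2[F] := Group.isSolvable_of_surjective (f := e.toMonoidHom) e.surjective
  have hc := (IsSimpleGroup.comm_iff_isSolvable (G := PSL2[F])).mpr inferInstance
  letI : CommGroup PSL2[F] := { (inferInstance : Group PSL2[F]) with mul_comm := hc }
  have hp : (Nat.card PSL2[F]).Prime := IsSimpleGroup.prime_card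
  have h := four_dvd_psl hodd
  rcases hp.eq_one_or_self_of_dvd 4 h with h4' | h4'
  · norm_num at h4'
  · rw [← h4'] at hp
    norm_num at hp

/-- The shape of the group and of the centralizer. -/
theorem cent_shape [IsSimpleGroup G] (hna : ¬ IsMulCommutative G) (S : Sylow 2 G)
    (hS : IsMulCommutative (S : Subgroup G)) {t : G} (ht : orderOf t = 2) (E E₀ : Subgroup G)
    (hprod : IsInternalDirectProduct (zpowers t) E (Cg t)) (hle : E₀ ≤ E) (hn : (E₀.subgroupOf E).Normal)
    {F : Type} [Field F] [Fintype F] (hodd : Odd (Fintype.card F)) (e : E₀ ≃* PSL2[F])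
    (hCE : E ⊓ centralizer (E₀ : Set G) = ⊥) :
    ∃ T : Sylow 2 G, Hyp T ∧ Pt T t ∧ ¬ Group.IsSolvable ↥(Cg t) ∧ oddCore ↥(Cg t) = ⊥ := by
  classical
  haveI : Fact (Nat.Prime 2) := ⟨Nat.prime_two⟩
  obtain ⟨htC, hEC, hcomm, hinf, hsup⟩ := hprod
  have hnE : E ≤ normalizer (E₀ : Set G) := (normal_subgroupOf_iff_le_normalizer hle).1 hn
  have hab : ∀ P : Sylow 2 G, ∀ a b : P, a * b = b * a := fun P a b =>
    (AbTwo.abelian_of_one S hS P).is_comm.comm a b
  have ht2 : Nat.card (zpowers t) = 2 := by rw [Nat.card_zpowers, ht]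
  have hq : Fintype.card F % 2 = 1 := Nat.odd_iff.1 hodd
  let m : zpowers t × E →* Cg t :=
    MonoidHom.noncommCoprod (inclusion htC) (inclusion hEC) fun a b => Subtype.ext (hcomm a a.2 b b.2)
  have hm : Function.Bijective m := by
    constructor
    · refine (injective_iff_map_eq_one m).2 ?_
      rintro ⟨a, b⟩ hab'
      have h1 : (a : G) * (b : G) = 1 := congrArg Subtype.val hab'
      have h2 : (a : G) ∈ zpowers t ⊓ E := ⟨a.2, by rw [eq_inv_of_mul_eq_one_left h1]; exact E.inv_mem b.2⟩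
      rw [hinf, mem_bot] at h2
      rw [h2, one_mul] at h1
      exact Prod.ext (Subtype.ext h2) (Subtype.ext h1)
    · intro c
      let m₀ : zpowers t × E →* G :=
        MonoidHom.noncommCoprod (zpowers t).subtype E.subtype fun a b => hcomm a a.2 b b.2
      have h0 : (c : G) ∈ m₀.range := by
        have hr : zpowers t ⊔ E ≤ m₀.range := sup_le
          (fun a ha => ⟨(⟨a, ha⟩, 1), by show a * ((1 : E) : G) = a; simp⟩)
          (fun b hb => ⟨(1, ⟨b, hb⟩), by show ((1 : zpowers t) : G) * b = b; simp⟩)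
        exact hr (hsup.ge c.2)
      obtain ⟨y, hy⟩ := h0
      exact ⟨y, Subtype.ext hy⟩
  have hC : Nat.card (Cg t) = 2 * Nat.card E := by
    rw [← Nat.card_congr (MulEquiv.ofBijective m hm).toEquiv, Nat.card_prod, ht2]
  have hq5 : 5 ≤ Fintype.card F := by
    by_contra hlt
    have h1 := Fintype.one_lt_card (α := F)
    have h3 : Fintype.card F = 3 := by omega
    have hEq := eq_of_three hle hnE h3 e hCE S hS
    have eC : Cg t ≃* Multiplicative (ZMod 2) × PSL2[F] :=
      (MulEquiv.ofBijective m hm).symm.trans (MulEquiv.prodCongr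
        (mulEquivOfCyclicCardEq (by rw [ht2]; simp)) ((MulEquiv.subgroupCongr hEq).trans e))
    rcases Walter8.main hab (by omega) t ht eC with ⟨k, hk, hF, -⟩ | ⟨h45, -⟩
    · have : 3 ^ 2 ≤ 3 ^ (2 * k + 1) := Nat.pow_le_pow_right (by norm_num) (by omega)
      omega
    · omega
  have hns : ¬ Group.IsSolvable ↥(Cg t) := fun hs => by
    haveI := hs
    exact not_solvable_psl hq (by omega) e
      (Group.isSolvable_of_isSolvable_injective (inclusion_injective (hle.trans hEC)))
  obtain ⟨T, hT⟩ := (IsPGroup.of_card (n := 1) (by rw [ht2, pow_one]) : IsPGroup 2 (zpowers t)).exists_le_sylow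
  have htT : t ∈ (T : Subgroup G) := hT (mem_zpowers t)
  have ht1 : t ≠ 1 := fun h => by rw [h, orderOf_one] at ht; omega
  haveI hTc := AbTwo.abelian_of_one S hS T
  have hsmall : (∀ v ∈ (T : Subgroup G), v * v = 1) ∧ Nat.card (T : Subgroup G) < 16 := by
    by_contra hbig
    obtain ⟨a, K, iK, jK, -, hK, ⟨eK⟩⟩ := WalterBig.big hna T hTc (by
      by_cases h1 : ∀ v ∈ (T : Subgroup G), v * v = 1
      · exact Or.inr (Nat.le_of_not_lt fun h => hbig ⟨h1, h⟩)
      · exact Or.inl h1)
    exact hns ((WalterBig.psl_two_torus hK eK T).2.2.2 t (by rw [← pow_two, ← ht, pow_orderOf_eq_one]) ht1)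
  have h8d : 8 ∣ Nat.card G := by
    refine dvd_trans ?_ (card_subgroup_dvd_card (Cg t))
    rw [hC, show (8 : ℕ) = 2 * 4 from rfl]
    refine Nat.mul_dvd_mul_left 2 ((four_dvd_psl hq).trans ?_)
    rw [← Nat.card_congr e.toEquiv]
    exact card_dvd_of_le hle
  have h8 : Nat.card (T : Subgroup G) = 8 := by
    obtain ⟨k, hk⟩ := IsPGroup.iff_card.1 T.2
    have h1 : 2 ^ 3 ∣ Nat.card (T : Subgroup G) := T.pow_dvd_card_of_pow_dvd_card h8d
    rw [hk] at h1
    have h2 := (Nat.pow_dvd_pow_iff_le_right (by norm_num)).1 h1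
    have h3 : 2 ^ k < 2 ^ 4 := hk ▸ hsmall.2
    have h4 := (Nat.pow_lt_pow_iff_right (by norm_num)).1 h3
    rw [hk, show k = 3 by omega]
    norm_num
  have hh : Hyp T :=
    ⟨inferInstance, hna, h8, hsmall.1, automizer_eq_twentyone hna T h8 hsmall.1 htT ht1 hns⟩
  refine ⟨T, hh, ⟨htT, ht1⟩, hns, ?_⟩
  -- the odd core
  set R := cor (Cg t) with hR
  have hE0C : Cg t ≤ normalizer (E₀ : Set G) := by
    rw [← hsup]
    exact sup_le (fun a ha => centralizer_le_normalizer _
      (mem_centralizer_iff.2 fun b hb => (hcomm a ha b (hle hb)).symm)) hnE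
  have hE0 : E₀ ⊓ R = ⊥ := by
    haveI := psl_simple (F := F) (by omega)
    haveI : IsSimpleGroup E₀ := MulEquiv.isSimpleGroup e
    haveI : (R.subgroupOf E₀).Normal := normal_subgroupOf_iff_le_normalizer_inf.2
      ((le_inf ((hle.trans hEC).trans (le_normalizer_cor _)) le_normalizer).trans inf_normalizer_le_normalizer_inf)
    rcases IsSimpleGroup.eq_bot_or_eq_top_of_normal (R.subgroupOf E₀) inferInstance with h1 | h1
    · rw [subgroupOf_eq_bot, disjoint_iff] at h1
      rw [inf_comm]; exact h1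
    · exfalso
      have h2 := ((four_dvd_psl hq).trans (dvd_of_eq (Nat.card_congr e.toEquiv).symm)).trans
        (card_dvd_of_le (subgroupOf_eq_top.1 h1))
      obtain ⟨k, hk⟩ := odd_cor (Cg t)
      rw [hR] at h2
      omega
  have hRt : R ≤ zpowers t := by
    intro r hr
    obtain ⟨⟨⟨a, ha⟩, ⟨b, hb⟩⟩, e'⟩ := hm.2 ⟨r, cor_le _ hr⟩
    have e'' : a * b = r := congrArg Subtype.val e'
    have hb1 : b ∈ E ⊓ centralizer (E₀ : Set G) := by
      refine ⟨hb, mem_centralizer_iff.2 fun y hy => ?_⟩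
      have h1 : r * y * r⁻¹ * y⁻¹ ∈ E₀ ⊓ R := by
        refine ⟨E₀.mul_mem ((mem_normalizer_iff.1 (hE0C (cor_le _ hr)) y).1 hy) (E₀.inv_mem hy), ?_⟩
        rw [show r * y * r⁻¹ * y⁻¹ = r * (y * r⁻¹ * y⁻¹) by group]
        exact R.mul_mem hr ((mem_normalizer_iff.1 (le_normalizer_cor _ (hEC (hle hy))) _).1 (R.inv_mem hr))
      rw [hE0, mem_bot] at h1
      have h2 : b * y * b⁻¹ = y := by
        have h3 : a * (b * y * b⁻¹) * a⁻¹ = y := by
          rw [← e''] at h1
          rw [← mul_inv_eq_one, ← h1]; group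
        have h4 : b * y * b⁻¹ ∈ E := mul_mem (mul_mem hb (hle hy)) (E.inv_mem hb)
        rwa [hcomm a ha _ h4, mul_inv_cancel_right] at h3
      exact (mul_inv_eq_iff_eq_mul.1 h2).symm
    rw [hCE, mem_bot] at hb1
    rw [← e'', hb1, mul_one]
    exact ha
  have hRbot : R = ⊥ := by
    obtain ⟨k, hk⟩ := odd_cor (Cg t)
    have hd : Nat.card R ∣ 2 := ht2 ▸ card_dvd_of_le hRt
    refine eq_bot_of_card_eq _ ?_
    rcases (Nat.dvd_prime Nat.prime_two).1 hd with h1 | h1
    · exact h1
    · rw [hR] at h1; omega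
  rwa [hR, cor, map_eq_bot_iff_of_injective _ (Subgroup.subtype_injective _)] at hRbot

end Cfsg.Lib.Walter3
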