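import Cfsg.Agent.Lib.Walter3.Local
import Cfsg.Agent.Lib.Local.GlaubermanComplement
import Cfsg.Agent.Lib.Local.SL2Involved
import Cfsg.Agent.Lib.Fusion.Alperin
import Cfsg.Agent.Lib.Sig.PConstrained

/-!
# Anchored subgroups: the maximal invariant subgroup above an anchor
-/

set_option autoImplicit false
set_option linter.unusedSectionVars false
set_option linter.style.haveILetI false

namespace Cfsg.Lib.Walter3

open Subgroup Cfsg
open scoped commutatorElement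
open Cfsg.Lib.Local.GlaubermanZJ

universe u

variable {G : Type u} [Group G] [Finite G] {S : Sylow 2 G} {p : ℕ}

/-- The elements normalizing `S` and fixing `w`. -/
def Nw (S : Sylow 2 G) (w : G) : Subgroup G := normalizer ((S : Subgroup G) : Set G) ⊓ Cg w

theorem mem_Nw {w n : G} :
    n ∈ Nw S w ↔ n ∈ normalizer ((S : Subgroup G) : Set G) ∧ n * w * n⁻¹ = w := by
  refine ⟨fun hn => ⟨hn.1, ?_⟩, fun hn => ⟨hn.1, mem_Cg.2 ?_⟩⟩
  · rw [mem_Cg.1 hn.2]; group
  · calc n * w = n * w * n⁻¹ * n := by group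
      _ = w * n := by rw [hn.2]

/-- `R` contains a conjugate of `M` by an element normalizing `S` and fixing `w`. -/
def Cls (S : Sylow 2 G) (w : G) (M R : Subgroup G) : Prop := ∃ c ∈ Nw S w, cj c M ≤ R

/-- An anchor: an invariant `p`-subgroup `M` whose overgroups see only rotations about `w`. -/
structure Anchor (p : ℕ) (S : Sylow 2 G) (w : G) (M : Subgroup G) : Prop where
  pt : Pt S w
  inv : Inv p S ⊤ M
  ne : M ≠ ⊥
  stable : ∃ n, Rot S n w ∧ n ∈ normalizer (M : Set G)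
  fix : ∀ R, Inv p S ⊤ R → Cls S w M R → FixAt S (normalizer (R : Set G)) w
  nocent : ∀ n, Rot S n w → ∀ c ∈ Nw S w, n ∉ centralizer (cj c M : Set G)
  core : ∀ Y : Subgroup G, (S : Subgroup G) ≤ Y → FixAt S Y w →
    ∀ c ∈ Nw S w, cj c M ≤ Y → cj c M ≤ cor Y
  proper : ∀ Y : Subgroup G, (S : Subgroup G) ≤ Y → Y ≠ ⊤ → ∀ c ∈ Nw S w, cj c M ≤ Y → ¬ TransAt S Y

namespace Hyp

variable (h : Hyp S) (hT : Torus S) [hp : Fact p.Prime] (hp2 : p ≠ 2)
include h

omit h [Finite G] hp in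
theorem cj_top (g : G) : cj g (⊤ : Subgroup G) = ⊤ :=
  eq_top_iff.2 fun x _ => mem_cj.2 (mem_top _)

omit h hp in
theorem cls_mono {w : G} {M R R' : Subgroup G} (hR : Cls S w M R) (hle : R ≤ R') : Cls S w M R' :=
  hR.imp fun _ hc => ⟨hc.1, hc.2.trans hle⟩

omit h in
theorem inv_normalizer {K R Q : Subgroup G} (hQ : Inv p S K Q) (hR : (S : Subgroup G) ≤ normalizer (R : Set G)) :
    Inv p S (normalizer (R : Set G)) (Q ⊓ normalizer (R : Set G)) :=
  ⟨inf_le_right, hQ.pgrp.to_le inf_le_left, le_normalizer_inf hQ.norm (hR.trans le_normalizer)⟩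

include hT hp2 in
/-- All maximal invariant `p`-subgroups above conjugates of the anchor are conjugate. -/
theorem conj_anchor {w : G} {M : Subgroup G} (hA : Anchor p S w M) {P P' : Subgroup G}
    (hP : MaxIn p S ⊤ P) (hP' : MaxIn p S ⊤ P') (hMP : Cls S w M P) (hMP' : Cls S w M P') :
    ∃ γ ∈ Nw S w, cj γ P' = P := by
  classical
  let Bad : Subgroup G × Subgroup G → Prop := fun z => MaxIn p S ⊤ z.1 ∧ MaxIn p S ⊤ z.2 ∧
    Cls S w M (z.1 ⊓ z.2) ∧ ¬ ∃ γ ∈ Nw S w, cj γ z.1 = z.2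
  by_cases hbad : ∃ z, Bad z
  · exfalso
    obtain ⟨⟨P₁, P₂⟩, ⟨h1, h2, hc, hno⟩, hmax⟩ := Set.exists_max_image {z | Bad z}
      (fun z => Nat.card (z.1 ⊓ z.2 : Subgroup G)) (Set.toFinite _) hbad
    set R := P₁ ⊓ P₂ with hRdef
    have hR : Inv p S ⊤ R := ⟨le_top, h1.pgrp.to_le inf_le_left, le_normalizer_inf h1.norm h2.norm⟩
    set Y := normalizer (R : Set G)
    have hSY : (S : Subgroup G) ≤ Y := hR.norm
    have hfix := hA.fix R hR hc
    have hlt : ∀ {U V : Subgroup G}, MaxIn p S ⊤ U → MaxIn p S ⊤ V → R = U ⊓ V →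
        ¬ (∃ γ ∈ Nw S w, cj γ U = V) → R < U := by
      intro U V hU hV e hn
      refine lt_of_le_of_ne (e ▸ inf_le_left) fun e' => hn ⟨1, one_mem _, ?_⟩
      rw [cj_one]
      exact (hU.max V hV.toInv (e' ▸ e ▸ inf_le_right)).symm
    have hno' : ¬ ∃ γ ∈ Nw S w, cj γ P₂ = P₁ := fun ⟨γ, hγ, e⟩ =>
      hno ⟨γ⁻¹, inv_mem hγ, by rw [← e, cj_inv_cj]⟩
    obtain ⟨Q₁, hQ₁, hle₁⟩ := exists_maxIn_ge (inv_normalizer h1.toInv hR.norm)
    obtain ⟨Q₂, hQ₂, hle₂⟩ := exists_maxIn_ge (inv_normalizer h2.toInv hR.norm)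
    obtain ⟨γ, hγY, hγS, eγ⟩ := h.conj_maxIn_fix hT hSY hA.pt hfix hp2 hQ₁ hQ₂
    have hγ : γ ∈ Nw S w := mem_Nw.2 ⟨hγS, hfix γ hγY hγS⟩
    obtain ⟨P₃, hP₃, hle₃⟩ := exists_maxIn_ge (p := p) (S := S) (hQ₁.toInv.mono le_top)
    have big : ∀ {U V : Subgroup G}, R < U → IsPGroup p U → U ⊓ Y ≤ V →
        Nat.card R < Nat.card (U ⊓ V : Subgroup G) := by
      intro U V hlt' hU hle
      have := Fusion.lt_inf_normalizer hU hlt'
      exact lt_of_lt_of_le (Set.Finite.card_lt_card (Set.toFinite _) this)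
        (card_le_of_le (le_inf inf_le_left hle))
    have c1 : ∃ δ ∈ Nw S w, cj δ P₁ = P₃ := by
      by_contra hno1
      refine not_lt.2 (hmax (P₁, P₃) ⟨h1, hP₃, ?_, hno1⟩)
        (big (hlt h1 h2 rfl hno) h1.pgrp (hle₁.trans hle₃))
      exact cls_mono hc (le_inf inf_le_left ((le_inf inf_le_left le_normalizer).trans
        (hle₁.trans hle₃)))
    have hP₄ : MaxIn p S ⊤ (cj γ P₃) := cj_top γ ▸ h.maxIn_cj hγS hP₃
    have hle₄ : P₂ ⊓ Y ≤ cj γ P₃ := hle₂.trans (eγ ▸ cj_mono hle₃)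
    have c2 : ∃ δ ∈ Nw S w, cj δ P₂ = cj γ P₃ := by
      by_contra hno2
      refine not_lt.2 (hmax (P₂, cj γ P₃) ⟨h2, hP₄, ?_, hno2⟩)
        (big (hlt h2 h1 (inf_comm _ _) hno') h2.pgrp hle₄)
      exact cls_mono hc (le_inf inf_le_right ((le_inf inf_le_right le_normalizer).trans hle₄))
    obtain ⟨δ₁, hδ₁, e₁⟩ := c1
    obtain ⟨δ₂, hδ₂, e₂⟩ := c2
    exact hno ⟨δ₂⁻¹ * (γ * δ₁), mul_mem (inv_mem hδ₂) (mul_mem hγ hδ₁), by
      rw [← cj_cj, ← cj_cj, e₁, ← e₂, cj_inv_cj]⟩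
  · push Not at hbad
    obtain ⟨c, hc, hcP⟩ := hMP
    obtain ⟨c', hc', hcP'⟩ := hMP'
    have hd : c * c'⁻¹ ∈ Nw S w := mul_mem hc (inv_mem hc')
    have hP'' : MaxIn p S ⊤ (cj (c * c'⁻¹) P') := cj_top (c * c'⁻¹) ▸ h.maxIn_cj hd.1 hP'
    have hle : cj c M ≤ cj (c * c'⁻¹) P' := by
      refine le_trans (le_of_eq ?_) (cj_mono hcP')
      rw [cj_cj, mul_assoc, inv_mul_cancel, mul_one]
    by_contra hno
    refine hbad (cj (c * c'⁻¹) P', P) ⟨hP'', hP, ⟨c, hc, le_inf hle hcP⟩, fun ⟨γ, hγ, e⟩ => ?_⟩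
    exact hno ⟨γ * (c * c'⁻¹), mul_mem hγ hd, by rw [← cj_cj, e]⟩

omit h hp in
theorem rot_conj {n g w : G} (hn : Rot S n w) (hg : g ∈ Nw S w) : Rot S (g * n * g⁻¹) w := by
  obtain ⟨hgS, hgw⟩ := mem_Nw.1 hg
  refine ⟨mul_mem (mul_mem hgS hn.norm) (inv_mem hgS), ?_, fun hc => hn.move ?_⟩
  · calc g * n * g⁻¹ * w * (g * n * g⁻¹)⁻¹ = g * (n * (g⁻¹ * w * g) * n⁻¹) * g⁻¹ := by group
      _ = w := by
        have : g⁻¹ * w * g = w := by
          calc g⁻¹ * w * g = g⁻¹ * (g * w * g⁻¹) * g := by rw [hgw]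
            _ = w := by group
        rw [this, hn.fix, hgw]
  · refine mem_centralizer_iff.2 fun s hs => ?_
    have h1 := mem_centralizer_iff.1 hc _ ((mem_normalizer_iff.1 hgS s).1 hs)
    calc s * n = g⁻¹ * ((g * s * g⁻¹) * (g * n * g⁻¹)) * g := by group
      _ = g⁻¹ * ((g * n * g⁻¹) * (g * s * g⁻¹)) * g := by rw [h1]
      _ = n * s := by group

omit h hp in
theorem rot_mul {c n w : G} (hw : Pt S w) (hn : Rot S n w)
    (hc : c ∈ centralizer ((S : Subgroup G) : Set G)) : Rot S (c * n) w := by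
  have hcS := centralizer_le_normalizer_S hc
  refine ⟨mul_mem hcS hn.norm, ?_, fun h' => hn.move ?_⟩
  · calc c * n * w * (c * n)⁻¹ = c * (n * w * n⁻¹) * c⁻¹ := by group
      _ = w := by rw [hn.fix, ← mem_centralizer_iff.1 hc w hw.1]; group
  · simpa using mul_mem (inv_mem hc) h'

omit h in
theorem le_normalizer_of_maxIn {K Q U : Subgroup G} (hK : (S : Subgroup G) ≤ normalizer (K : Set G))
    (hU : MaxIn p S K U) (hQ : Inv p S ⊤ Q) (hQK : Q ≤ normalizer (K : Set G)) (hUQ : U ≤ Q) :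
    Q ≤ normalizer (U : Set G) := by
  have e : Q ⊓ K = U := hU.max _
    ⟨inf_le_right, hQ.pgrp.to_le inf_le_left, le_normalizer_inf hQ.norm hK⟩ (le_inf hUQ hU.le)
  rw [← e]
  exact (le_inf le_normalizer hQK).trans inf_normalizer_le_normalizer_inf

/-- Maximal invariant subgroups of `Y` have the largest order. -/
theorem card_maxIn_eq (hT : Torus S) (hp2 : p ≠ 2) {Y : Subgroup G} (hSY : (S : Subgroup G) ≤ Y)
    {w : G} (hw : Pt S w) (hfix : FixAt S Y w) {Q R : Subgroup G} (hQ : MaxIn p S Y Q)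
    (hR : Inv p S Y R) : Nat.card R ≤ Nat.card Q := by
  obtain ⟨R', hR', hle⟩ := exists_maxIn_ge hR
  obtain ⟨γ, -, -, e⟩ := h.conj_maxIn_fix hT hSY hw hfix hp2 hR' hQ
  rw [← e, card_cj]
  exact card_le_of_le hle

include hT hp2 in
/-- The rotation about `w` normalizes `ZJ` of the maximal invariant subgroup above the anchor. -/
theorem exists_rot_normalizer_ZJ {w : G} {M P : Subgroup G} (hA : Anchor p S w M)
    (hP : MaxIn p S ⊤ P) (hMP : Cls S w M P)
    (hPfix : ∀ n ∈ normalizer (P : Set G), n ∈ normalizer ((S : Subgroup G) : Set G) →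
      n ∈ centralizer ((S : Subgroup G) : Set G)) :
    ∃ n, Rot S n w ∧ n ∈ normalizer (centerThompsonAOf P : Set G) := by
  classical
  haveI := h.simple
  -- the family and its measure
  let Fam : Set (Subgroup G) := {X | Inv p S ⊤ X ∧ Cls S w M X ∧
    ∃ n, Rot S n w ∧ n ∈ normalizer (X : Set G)}
  let mm : Subgroup G → ℕ := fun X =>
    ((Set.toFinite {R : Subgroup G | Inv p S (normalizer (X : Set G)) R}).toFinset).sup
      fun R => Nat.card R
  have le_mm : ∀ {X R : Subgroup G}, Inv p S (normalizer (X : Set G)) R → Nat.card R ≤ mm X :=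
    fun {X R} hR => Finset.le_sup (f := fun R : Subgroup G => Nat.card R) (by simpa using hR)
  obtain ⟨n₀, hn₀, hn₀M⟩ := hA.stable
  obtain ⟨X, ⟨hX, hXc, n, hn, hnX⟩, hXmax⟩ := Set.exists_max_image Fam
    (fun X => mm X * (Nat.card G + 1) + Nat.card X) (Set.toFinite _)
    ⟨M, hA.inv, ⟨1, one_mem _, (cj_one M).le⟩, n₀, hn₀, hn₀M⟩
  have hfam : ∀ {Z : Subgroup G}, Z ∈ Fam → mm Z ≤ mm X := by
    intro Z hZ
    by_contra hlt
    have h1 := hXmax Z hZ
    have h2 : (mm X + 1) * (Nat.card G + 1) ≤ mm Z * (Nat.card G + 1) :=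
      Nat.mul_le_mul_right _ (by omega)
    have h3 : Nat.card X ≤ Nat.card G := card_le_card_group X
    rw [add_mul, one_mul] at h2
    omega
  set Y := normalizer (X : Set G) with hY
  have hSY : (S : Subgroup G) ≤ Y := hX.norm
  have hfix : FixAt S Y w := hA.fix X hX hXc
  have hnY : n ∈ Y := hnX
  have hKo := odd_cor Y
  have hKS : (S : Subgroup G) ≤ normalizer (cor Y : Set G) := hSY.trans (le_normalizer_cor Y)
  have hXodd := odd_of_pGroup hp.out hp2 hX.pgrp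
  have hXK : X ≤ cor Y := le_cor le_normalizer hXodd le_rfl
  -- `X` is a Sylow subgroup of the odd core
  obtain ⟨U, hU, hXU⟩ := exists_maxIn_ge (p := p) (S := S) (K := cor Y) ⟨hXK, hX.pgrp, hX.norm⟩
  have hUX : MaxIn p S (cor Y) X := by
    obtain ⟨c, hc, hcS, hcn⟩ := h.frattini hKo hKS hU hn.norm (le_normalizer_cor Y hnY)
    have hUF : U ∈ Fam := ⟨⟨le_top, hU.pgrp, hU.norm⟩, cls_mono hXc hXU, c * n,
      rot_mul hA.pt hn hcS, hcn⟩
    obtain ⟨Q, hQ, hUQ⟩ := exists_maxIn_ge (p := p) (S := S) (hU.toInv.mono (cor_le Y))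
    have hQn : Q ≤ normalizer (U : Set G) := le_normalizer_of_maxIn hKS hU (hQ.toInv.mono le_top)
      (hQ.le.trans (le_normalizer_cor Y)) hUQ
    have h1 : Nat.card Q ≤ mm U := le_mm ⟨hQn, hQ.pgrp, hQ.norm⟩
    have h2 : mm X ≤ Nat.card Q := Finset.sup_le fun R hR =>
      h.card_maxIn_eq hT hp2 hSY hA.pt hfix hQ (by simpa using hR)
    have h3 := hXmax U hUF
    have h4 : mm X * (Nat.card G + 1) ≤ mm U * (Nat.card G + 1) := Nat.mul_le_mul_right _ (h2.trans h1)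
    have h5 : X = U := eq_of_le_of_card_ge hXU (by omega)
    exact h5 ▸ hU
  -- a maximal invariant subgroup of `Y`
  obtain ⟨Q, hQ⟩ := exists_maxIn p S Y
  have hQodd := odd_of_pGroup hp.out hp2 hQ.pgrp
  have hXQ : X ≤ Q := by
    have hsup : Inv p S Y (Q ⊔ X) := ⟨sup_le hQ.le le_normalizer,
      hQ.pgrp.to_sup_of_normal_right' hX.pgrp hQ.le,
      (le_inf hQ.norm hX.norm).trans (Subgroup.normalizer_inf_normalizer_le_normalizer_sup _ _)⟩
    exact sup_eq_left.1 (hQ.max _ hsup le_sup_left)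
  have hQc : Cls S w M Q := cls_mono hXc hXQ
  have hQm : ∀ {R : Subgroup G}, Inv p S Y R → Nat.card R ≤ Nat.card Q := fun hR =>
    h.card_maxIn_eq hT hp2 hSY hA.pt hfix hQ hR
  have hmX : mm X ≤ Nat.card Q := Finset.sup_le fun R hR => hQm (by simpa using hR)
  have finish : MaxIn p S ⊤ Q → ∀ y, Rot S y w → y ∈ normalizer (centerThompsonAOf Q : Set G) →
      ∃ m, Rot S m w ∧ m ∈ normalizer (centerThompsonAOf P : Set G) := by
    intro hQmax y hy hyn
    obtain ⟨γ, hγ, e⟩ := h.conj_anchor hT hp2 hA hP hQmax hMP hQc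
    refine ⟨γ * y * γ⁻¹, rot_conj hy hγ, mem_normalizer_of_cj_eq ?_⟩
    have e' : centerThompsonAOf P = cj γ (centerThompsonAOf Q) := by
      rw [← e]; exact (map_centerThompsonAOf (MulAut.conj γ) Q).symm
    rw [e', cj_cj, show γ * y * γ⁻¹ * γ = γ * y by group, ← cj_cj, cj_eq_self hyn]
  by_cases hQS : ⁅Q, (S : Subgroup G)⁆ ≤ cor Y
  · -- no torus: `Q` is stable
    exfalso
    have hOle := h.le_OH hSY le_rfl (fun n hn _ => hn) hQodd hQ.le hQ.norm hQS
    have hQO : MaxIn p S (OH Y (S : Subgroup G)) Q :=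
      ⟨⟨hOle, hQ.pgrp, hQ.norm⟩, fun R hR => hQ.max R (hR.mono (OH_le Y _))⟩
    have hnO : n ∈ normalizer (OH Y (S : Subgroup G) : Set G) :=
      mem_normalizer_of_cj_eq (by rw [h.cj_OH hnY, cj_eq_self hn.norm])
    obtain ⟨c, -, hcS, hcn⟩ := h.frattini (odd_OH Y _) (h.norm_OH hSY le_rfl) hQO hn.norm hnO
    have hrot := rot_mul hA.pt hn hcS
    by_cases hQmax : MaxIn p S ⊤ Q
    · obtain ⟨γ, hγ, e⟩ := h.conj_anchor hT hp2 hA hP hQmax hMP hQc
      have h1 := rot_conj hrot hγ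
      refine h1.move (hPfix _ (mem_normalizer_of_cj_eq ?_) h1.norm)
      rw [← e, cj_cj, show γ * (c * n) * γ⁻¹ * γ = γ * (c * n) by group, ← cj_cj, cj_eq_self hcn]
    · obtain ⟨P', hP', hQP'⟩ := exists_maxIn_ge (p := p) (S := S) (hQ.toInv.mono le_top)
      have hlt : Q < P' := lt_of_le_of_ne hQP' fun e => hQmax (e ▸ hP')
      have hQ1 := inv_normalizer hP'.toInv hQ.norm
      have h1 := (Set.Finite.card_lt_card (Set.toFinite _) (Fusion.lt_inf_normalizer hP'.pgrp hlt) :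
        Nat.card Q < Nat.card (P' ⊓ normalizer (Q : Set G) : Subgroup G))
      simp only [SetLike.coe_sort_coe] at h1
      have h2 := hfam (Z := Q) ⟨hQ.toInv.mono le_top, hQc, c * n, hrot, hcn⟩
      have h3 := le_mm hQ1
      omega
  -- the torus case
  obtain ⟨H, hH, hwH, hQH⟩ := h.cover hT hSY hA.pt hfix hp2 hQ.toInv
  have hQsyl : ∀ R : Subgroup G, IsPGroup p R → Q ≤ R → R ≤ Y → R = Q := by
    intro R hR hQR hRY
    by_contra hne
    set N₁ := Y ⊓ normalizer (Q : Set G) with hN₁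
    have hSN₁ : (S : Subgroup G) ≤ N₁ := le_inf hSY hQ.norm
    have htriv : ∀ m ∈ N₁, m ∈ normalizer ((S : Subgroup G) : Set G) →
        m ∈ centralizer ((S : Subgroup G) : Set G) := by
      intro m hm hmS
      refine h.flag_fix hH hwH hA.pt.2 hmS (hfix m hm.1 hmS) ?_
      by_contra hne'
      refine hQS ?_
      have hQH' : ⁅Q, cj m H⁆ ≤ cor Y := by
        rw [← cj_eq_self hm.2, ← cj_commutator, ← cj_eq_self (le_normalizer_cor Y hm.1)]
        exact cj_mono hQH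
      rw [← h.line_sup (h.conj_line hmS hH) hH hne']
      exact commutator_sup_le hQH' hQH (((h.conj_line hmS hH).le).trans hKS) (hH.le.trans hKS)
    have hQR' : Q < R := lt_of_le_of_ne hQR (Ne.symm hne)
    have hlt := Fusion.lt_inf_normalizer hR hQR'
    have hR1 : R ⊓ normalizer (Q : Set G) ≤ cor N₁ :=
      h.le_cor_of_two_nilp hSN₁ htriv (inf_le_inf_right _ hRY)
        (odd_of_le inf_le_left (odd_of_pGroup hp.out hp2 hR))
    have hQN : Inv p S (cor N₁) Q :=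
      ⟨h.le_cor_of_two_nilp hSN₁ htriv (le_inf hQ.le le_normalizer) hQodd, hQ.pgrp, hQ.norm⟩
    obtain ⟨U₁, hU₁, hQU₁⟩ := exists_maxIn_ge hQN
    have h1 := h.maxIn_card (odd_cor N₁) (hSN₁.trans (le_normalizer_cor N₁)) hU₁ hR1
      (hR.to_le inf_le_left)
    have h2 : U₁ = Q := hQ.max U₁ (hU₁.toInv.mono ((cor_le _).trans inf_le_left)) hQU₁
    have h3 := Set.Finite.card_lt_card (Set.toFinite _) hlt
    rw [h2] at h1
    exact absurd h3 (not_lt.2 h1)
  -- the centralizer of `X`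
  set C := Y ⊓ centralizer (X : Set G) with hC
  have hCn : Y ≤ normalizer (C : Set G) := by
    intro y hy
    refine mem_normalizer_of_cj_eq ?_
    rw [hC, cj_inf, cj_eq_self (le_normalizer hy), cj_centralizer, cj_eq_self hy]
  have hCS : ∀ m ∈ C, m ∈ normalizer ((S : Subgroup G) : Set G) →
      m ∈ centralizer ((S : Subgroup G) : Set G) := by
    intro m hm hmS
    by_contra hc
    obtain ⟨c, hcN, hcX⟩ := hXc
    exact hA.nocent m ⟨hmS, hfix m hm.1 hmS, hc⟩ c hcN (centralizer_le hcX hm.2)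
  set CS := C ⊔ (S : Subgroup G) with hCSdef
  have hSC : (S : Subgroup G) ≤ normalizer (C : Set G) := hSY.trans hCn
  have hCStriv : ∀ m ∈ CS, m ∈ normalizer ((S : Subgroup G) : Set G) →
      m ∈ centralizer ((S : Subgroup G) : Set G) := by
    intro m hm hmS
    obtain ⟨x, hx, s, hs, rfl⟩ := Coprime.exists_mul_of_mem_sup hSC hm
    have hxS : x ∈ normalizer ((S : Subgroup G) : Set G) := by
      simpa using mul_mem hmS (inv_mem (le_normalizer hs))
    exact mul_mem (hCS x hx hxS) (mem_centralizer_iff.2 fun y hy => h.comm hy hs)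
  have hCodd : ∀ K : Subgroup G, K ≤ C → Odd (Nat.card K) → K ≤ cor Y := by
    intro K hK hKodd
    have h1 : K ≤ C ⊓ cor CS :=
      le_inf hK (h.le_cor_of_two_nilp le_sup_right hCStriv (hK.trans le_sup_left) hKodd)
    have h2 : C ⊓ cor CS ≤ cor C := le_cor inf_le_left (odd_of_le inf_le_right (odd_cor _))
      ((le_inf le_normalizer ((le_sup_left : C ≤ CS).trans (le_normalizer_cor CS))).trans
        inf_normalizer_le_normalizer_inf)
    have h3 : cor C ≤ cor Y := le_cor ((cor_le C).trans inf_le_left) (odd_cor C)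
      (hCn.trans (normalizer_le_normalizer_cor C))
    exact h1.trans (h2.trans h3)
  obtain ⟨V, hV, hwV, hVn⟩ := h.exists_axis hA.pt
  have hCsmall : ∀ x ∈ (S : Subgroup G), x ∈ C → x = 1 ∨ x = w := by
    intro x hxS hxC
    by_contra hcon
    push Not at hcon
    have hVC : V ≤ (S : Subgroup G) ⊓ C :=
      h.axis_le hn hA.pt hV hwV (hVn n hn.norm hn.fix) inf_le_left
        (by rw [cj_inf, cj_eq_self hn.norm, cj_eq_self (hCn hnY)]) ⟨hxS, hxC⟩ hcon.1 hcon.2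
    have hQV : ⁅Q, V⁆ ≤ cor Y := by
      have h1 : ⁅Q, V⁆ ≤ C := by
        rw [Subgroup.commutator_comm]
        exact (commutator_mono (hVC.trans inf_le_right) le_rfl).trans
          (Coprime.commutator_le_of_le_normalizer (hQ.le.trans hCn))
      exact (le_inf (Coprime.commutator_le_of_le_normalizer (hV.le.trans hQ.norm)) h1).trans
        (hCodd _ inf_le_right (odd_of_le inf_le_left hQodd))
    refine hQS ?_
    rw [← h.line_sup hV hH fun e => hwV (e.symm ▸ hwH)]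
    exact commutator_sup_le hQV hQH (hV.le.trans hKS) (hH.le.trans hKS)
  -- the quotient by the `p'`-core
  set N' := Cfsg.pPrimeCore p ↥Y with hN'
  set f := QuotientGroup.mk' N' with hf
  have hfs : Function.Surjective f := QuotientGroup.mk'_surjective N'
  have hN'c : (Nat.card N').Coprime p := Core.pPrimeCore_coprime p _
  have hker : (Nat.card f.ker).Coprime p := by rw [hf, QuotientGroup.ker_mk']; exact hN'c
  set X' := X.subgroupOf Y with hX'
  haveI hX'n : X'.Normal := (normal_subgroupOf_iff_le_normalizer le_normalizer).2 le_rfl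
  have hX'p : IsPGroup p X' := hX.pgrp.of_equiv (subgroupOfEquivOfLe le_normalizer).symm
  have hN'C : ∀ d ∈ N', (d : G) ∈ C := by
    intro d hd
    refine ⟨d.2, mem_centralizer_iff.2 fun x hx => ?_⟩
    have hc : Commute (⟨x, le_normalizer hx⟩ : Y) d :=
      Subgroup.commute_of_normal_of_disjoint X' N' hX'n inferInstance
        (Coprime.disjoint_of_coprime_card (by
          obtain ⟨i, hi⟩ := IsPGroup.iff_card.1 hX'p
          rw [hi]; exact (hN'c.symm).pow_left i))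
        _ _ (mem_subgroupOf.2 hx) hd
    exact congrArg Subtype.val hc.eq
  have hCY : (C.subgroupOf Y).Normal := (normal_subgroupOf_iff_le_normalizer inf_le_left).2 hCn
  have hCX : C.subgroupOf Y ≤ N' ⊔ X' := by
    set C' := C.subgroupOf Y
    obtain ⟨Z⟩ : Nonempty (Sylow p C') := inferInstance
    have hp' : IsPGroup p (((Z : Subgroup C').map C'.subtype).map Y.subtype) := (Z.2.map _).map _
    have hZle : ((Z : Subgroup C').map C'.subtype).map Y.subtype ≤ C := by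
      rintro _ ⟨_, ⟨z, -, rfl⟩, rfl⟩
      exact mem_subgroupOf.1 z.2
    have hZcor := hCodd _ hZle (odd_of_pGroup hp.out hp2 hp')
    have hZX : ((Z : Subgroup C').map C'.subtype).map Y.subtype ≤ X := by
      have hsup := hp'.to_sup_of_normal_right' hUX.pgrp
        (hZcor.trans (cor_le Y) : _ ≤ normalizer (X : Set G))
      have hcard := h.maxIn_card hKo hKS hUX (sup_le hZcor hUX.le) hsup
      exact sup_eq_right.1 (eq_of_le_of_card_ge le_sup_right hcard).symm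
    have hcent : normalizer ((Z : Subgroup C') : Set C') ≤ centralizer ((Z : Subgroup C') : Set C') := by
      intro m _
      refine mem_centralizer_iff.2 fun z hz => Subtype.ext (Subtype.ext ?_)
      exact mem_centralizer_iff.1 (mem_subgroupOf.1 m.2).2 _
        (hZX ⟨_, ⟨z, hz, rfl⟩, rfl⟩)
    have hcompl := MonoidHom.ker_transferSylow_isComplement' Z hcent
    set D := (MonoidHom.transferSylow Z hcent).ker
    have hDcop : (Nat.card D).Coprime p := by
      refine ((Nat.Prime.coprime_iff_not_dvd hp.out).2 fun hd => Z.not_dvd_index ?_).symm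
      rw [hcompl.index_eq_card]; exact hd
    have hD : D ≤ Cfsg.pPrimeCore p ↥C' := Core.le_pPrimeCore' inferInstance hDcop
    have hmap : (Cfsg.pPrimeCore p ↥C').map C'.subtype ≤ N' := by
      haveI := hCY
      haveI : ((Cfsg.pPrimeCore p ↥C').map C'.subtype).Normal := Core.normal_map_char_of_normal _
      refine Core.le_pPrimeCore' inferInstance ?_
      rw [Core.card_map_subtype]
      exact Core.pPrimeCore_coprime p _
    intro x hx
    obtain ⟨⟨d, z⟩, e⟩ := hcompl.2 ⟨x, hx⟩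
    have ex : x = ((d : C') : Y) * ((z : C') : Y) := (congrArg Subtype.val e).symm
    rw [ex]
    exact mul_mem_sup (hmap ⟨_, hD d.2, rfl⟩) (mem_subgroupOf.2 (hZX ⟨_, ⟨_, z.2, rfl⟩, rfl⟩))
  have hXbar : X'.map f ≤ Cfsg.pCore p (Y ⧸ N') :=
    Core.le_pCore' (hX'n.map f hfs) (hX'p.map f)
  have hconstr : centralizer (Cfsg.pCore p (Y ⧸ N') : Set (Y ⧸ N')) ≤ Cfsg.pCore p (Y ⧸ N') := by
    intro x hx
    have h1 : x ∈ centralizer ((X'.map f : Subgroup (Y ⧸ N')) : Set (Y ⧸ N')) :=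
      centralizer_le hXbar hx
    rw [Sig.centralizer_map_mk' N' hN'c hX'p] at h1
    obtain ⟨y, hy, rfl⟩ := h1
    have hyC : y ∈ C.subgroupOf Y := mem_subgroupOf.2 ⟨y.2, mem_centralizer_iff.2 fun z hz =>
      congrArg Subtype.val (mem_centralizer_iff.1 hy ⟨z, le_normalizer hz⟩ (mem_subgroupOf.2 hz))⟩
    refine hXbar ?_
    have h2 := mem_map_of_mem f (hCX hyC)
    rw [Subgroup.map_sup, show N'.map f = ⊥ by
      rw [Subgroup.map_eq_bot_iff, hf, QuotientGroup.ker_mk'], bot_sup_eq] at h2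
    exact h2
  -- `Q` gives a Sylow subgroup; `ZJ` is normal
  set Q' := Q.subgroupOf Y with hQ'
  have hQ'p : IsPGroup p Q' := hQ.pgrp.of_equiv (subgroupOfEquivOfLe hQ.le).symm
  obtain ⟨P₀, hP₀⟩ := hQ'p.exists_le_sylow
  have hP₀eq : (P₀ : Subgroup Y) = Q' := by
    have e := hQsyl ((P₀ : Subgroup Y).map Y.subtype) (P₀.2.map _)
      (fun x hx => ⟨⟨x, hQ.le hx⟩, hP₀ (mem_subgroupOf.2 hx), rfl⟩) (map_subtype_le _)
    rw [hQ', ← e, subgroupOf, comap_map_eq_self_of_injective Y.subtype_injective]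
  let P₁ : Sylow p (Y ⧸ N') := P₀.mapSurjective hfs
  have hP₁ : (P₁ : Subgroup (Y ⧸ N')) = Q'.map f := by rw [← hP₀eq]; rfl
  have hab2 : ∀ T : Sylow 2 (Y ⧸ N'), IsMulCommutative T := by
    intro T
    haveI : Fact (Nat.Prime 2) := ⟨Nat.prime_two⟩
    obtain ⟨g, hg⟩ := MulAction.exists_smul_eq (Y ⧸ N') ((S.subtype hSY).mapSurjective hfs) T
    refine ⟨⟨fun a b => Subtype.ext ?_⟩⟩
    have hmem : ∀ x ∈ (T : Subgroup (Y ⧸ N')), ∃ s : Y, (s : G) ∈ (S : Subgroup G) ∧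
        x = g * f s * g⁻¹ := by
      intro x hx
      rw [← hg, Sylow.coe_subgroup_smul] at hx
      obtain ⟨_, ⟨s, hs, rfl⟩, rfl⟩ := hx
      exact ⟨s, mem_subgroupOf.1 hs, rfl⟩
    obtain ⟨s, hs, es⟩ := hmem _ a.2
    obtain ⟨t, ht, et⟩ := hmem _ b.2
    show (a : Y ⧸ N') * b = b * a
    rw [es, et]
    have : f s * f t = f t * f s := by
      rw [← map_mul, ← map_mul, show s * t = t * s from Subtype.ext (h.comm hs ht)]
    calc g * f s * g⁻¹ * (g * f t * g⁻¹) = g * (f s * f t) * g⁻¹ := by group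
      _ = g * (f t * f s) * g⁻¹ := by rw [this]
      _ = _ := by group
  have hfree : ¬ Involves (qd p) (Y ⧸ N') :=
    Local.SL2Involved.not_involves_qd_of_not_involves_SL2
      (Local.SL2Involved.not_involves_SL2_of_abelian_sylow_two hp2 hab2)
  have hnormal : (centerThompsonAOf (P₁ : Subgroup (Y ⧸ N'))).Normal :=
    centerThompsonA_normal hp2 hconstr
      (fun V _ hV => Local.QdInvolved.isPStableOn_of_not_involves_qd hp2 hfree V hV) P₁
  set Z' := centerThompsonAOf Q' with hZ'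
  set Z := centerThompsonAOf Q with hZ
  have hZmap : Z'.map Y.subtype = Z := by
    rw [hZ', Local.GlaubermanZJ.map_centerThompsonAOf' Y.subtype _ Y.subtype_injective.injOn,
      map_subgroupOf_eq_of_le hQ.le]
  have hinjQ : Set.InjOn f (Q' : Set Y) := by
    intro a ha b hb e
    have h1 : a⁻¹ * b ∈ N' := QuotientGroup.eq.1 e
    have hd : Disjoint Q' N' := Coprime.disjoint_of_coprime_card (by
      obtain ⟨i, hi⟩ := IsPGroup.iff_card.1 hQ'p
      rw [hi]; exact (hN'c.symm).pow_left i)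
    exact inv_mul_eq_one.1 (mem_bot.1 (disjoint_iff.1 hd ▸
      (⟨Q'.mul_mem (Q'.inv_mem ha) hb, h1⟩ : a⁻¹ * b ∈ Q' ⊓ N')))
  have hZbar : Z'.map f = centerThompsonAOf (P₁ : Subgroup (Y ⧸ N')) := by
    rw [hP₁, hZ', Local.GlaubermanZJ.map_centerThompsonAOf' f _ hinjQ]
  obtain ⟨x, hxn, hfx⟩ := Local.GlaubermanZJ.exists_normalizer_lift f hfs hker
    (K := Z') (hQ'p.to_le (centerThompsonAOf_le _)) (f ⟨n, hnY⟩) (by
      rw [hZbar, normalizer_eq_top_iff.2 hnormal]; exact mem_top _)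
  have hxZ : (x : G) ∈ normalizer (Z : Set G) := by
    rw [← hZmap]
    exact Subgroup.le_normalizer_map Y.subtype (mem_map_of_mem _ hxn)
  have hSZ : (S : Subgroup G) ≤ normalizer (Z : Set G) :=
    hQ.norm.trans (normalizer_le_normalizer_centerThompsonAOf Q)
  -- correct `x` to normalize `S`
  set N'G := N'.map Y.subtype with hN'G
  have hSN' : (S : Subgroup G) ≤ normalizer (N'G : Set G) := fun s hs =>
    Subgroup.le_normalizer_map Y.subtype (mem_map_of_mem _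
      (normalizer_eq_top_iff.2 (inferInstance : N'.Normal) ▸ mem_top (⟨s, hSY hs⟩ : Y)))
  set B := (N'G ⊔ (S : Subgroup G)) ⊓ normalizer (Z : Set G)
  have hBY : B ≤ Y := inf_le_left.trans (sup_le (map_subtype_le _) hSY)
  have hSB : (S : Subgroup G) ≤ B := le_inf le_sup_right hSZ
  have hxB : ∀ s ∈ (S : Subgroup G), (x : G) * s * (x : G)⁻¹ ∈ B := by
    intro s hs
    refine ⟨?_, (normalizer (Z : Set G)).mul_mem ((normalizer (Z : Set G)).mul_mem hxZ (hSZ hs))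
      ((normalizer (Z : Set G)).inv_mem hxZ)⟩
    have hs' : n * s * n⁻¹ ∈ (S : Subgroup G) := (mem_normalizer_iff.1 hn.norm s).1 hs
    have h1 : f (x * ⟨s, hSY hs⟩ * x⁻¹) = f ⟨n * s * n⁻¹, hSY hs'⟩ := by
      rw [map_mul, map_mul, map_inv, hfx, ← map_inv, ← map_mul, ← map_mul]
      rfl
    have h2 := QuotientGroup.eq.1 h1.symm
    have e : (x : G) * s * (x : G)⁻¹ = n * s * n⁻¹ * ((n * s * n⁻¹)⁻¹ * ((x : G) * s * (x : G)⁻¹)) := by
      group
    rw [e]
    exact mul_mem (mem_sup_right hs') (mem_sup_left ⟨_, h2, rfl⟩)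
  haveI : Fact (Nat.Prime 2) := ⟨Nat.prime_two⟩
  obtain ⟨k, hk⟩ : ∃ k : B, cj ((k : G) * x) (S : Subgroup G) = (S : Subgroup G) := by
    have hxS : cj (x : G) (S : Subgroup G) ≤ B := by
      rintro _ ⟨s, hs, rfl⟩; exact hxB s hs
    let T₁ : Sylow 2 B := S.subtype hSB
    let T₂ : Sylow 2 B := Sylow.ofCard ((cj (x : G) (S : Subgroup G)).subgroupOf B) (by
      rw [Nat.card_congr (subgroupOfEquivOfLe hxS).toEquiv, card_cj,
        ← Nat.card_congr (subgroupOfEquivOfLe hSB).toEquiv]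
      exact T₁.card_eq_multiplicity)
    obtain ⟨k, hk⟩ := MulAction.exists_smul_eq B T₂ T₁
    refine ⟨k, ?_⟩
    have hk' := congrArg (fun T : Sylow 2 B => (T : Subgroup B).map B.subtype) hk
    simp only [Sylow.coe_subgroup_smul, T₂, Sylow.coe_ofCard, T₁] at hk'
    rw [Sylow.coe_subtype, map_subgroupOf_eq_of_le hSB] at hk'
    refine (cj_cj _ _ _).symm.trans (Eq.trans ?_ hk')
    ext y
    constructor
    · rintro ⟨z, hz, rfl⟩
      exact ⟨k * ⟨z, hxS hz⟩ * k⁻¹, ⟨⟨z, hxS hz⟩, mem_subgroupOf.2 hz, rfl⟩, rfl⟩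
    · rintro ⟨_, ⟨z, hz, rfl⟩, rfl⟩
      exact ⟨z, mem_subgroupOf.1 hz, rfl⟩
  set y := (k : G) * x with hy
  have hyS : y ∈ normalizer ((S : Subgroup G) : Set G) := mem_normalizer_of_cj_eq hk
  have hyZ : y ∈ normalizer (Z : Set G) := mul_mem k.2.2 hxZ
  have hyY : y ∈ Y := mul_mem (hBY k.2) x.2
  have hyrot : Rot S y w := by
    refine ⟨hyS, hfix y hyY hyS, fun hyc => ?_⟩
    obtain ⟨d, hd, s₀, hs₀, ek⟩ := Coprime.exists_mul_of_mem_sup hSN' k.2.1
    obtain ⟨v, hvV, v1, -⟩ := h.line_exists_pts hV (one_mem V)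
    have hvS : v ∈ (S : Subgroup G) := hV.le hvV
    have hnv : n * v * n⁻¹ ∈ (S : Subgroup G) := (mem_normalizer_iff.1 hn.norm v).1 hvS
    obtain ⟨d₀, hd₀, ed⟩ := hd
    -- modulo `N'` the element `y` acts as `n`
    have hyv : f (⟨y, hyY⟩ * ⟨v, hSY hvS⟩ * (⟨y, hyY⟩ : Y)⁻¹) = f ⟨n * v * n⁻¹, hSY hnv⟩ := by
      have e1 : (⟨y, hyY⟩ : Y) = d₀ * ⟨s₀, hSY hs₀⟩ * x := by
        refine Subtype.ext ?_
        show y = (d₀ : G) * s₀ * (x : G)
        rw [hy, ek, ← ed]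
        rfl
      have e2 : f d₀ = 1 := (QuotientGroup.eq_one_iff _).2 hd₀
      rw [e1]
      simp only [map_mul, map_inv, e2, one_mul, hfx]
      have e3 : f ⟨n, hnY⟩ * f ⟨v, hSY hvS⟩ * (f ⟨n, hnY⟩)⁻¹ = f ⟨n * v * n⁻¹, hSY hnv⟩ := by
        rw [← map_mul, ← map_inv, ← map_mul]; rfl
      have e4 : f ⟨s₀, hSY hs₀⟩ * f ⟨n * v * n⁻¹, hSY hnv⟩ =
          f ⟨n * v * n⁻¹, hSY hnv⟩ * f ⟨s₀, hSY hs₀⟩ := by
        rw [← map_mul, ← map_mul]
        exact congrArg f (Subtype.ext (h.comm hs₀ hnv))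
      calc f ⟨s₀, hSY hs₀⟩ * f ⟨n, hnY⟩ * f ⟨v, hSY hvS⟩ * (f ⟨s₀, hSY hs₀⟩ * f ⟨n, hnY⟩)⁻¹ =
            f ⟨s₀, hSY hs₀⟩ * (f ⟨n, hnY⟩ * f ⟨v, hSY hvS⟩ * (f ⟨n, hnY⟩)⁻¹) *
              (f ⟨s₀, hSY hs₀⟩)⁻¹ := by group
        _ = _ := by rw [e3, e4]; group
    have eyv : y * v * y⁻¹ = v := by rw [← mem_centralizer_iff.1 hyc v hvS]; group
    have hdiff : (n * v * n⁻¹) * v ∈ C := by
      have h2 := hN'C _ (QuotientGroup.eq.1 hyv.symm)
      have e : ((⟨n * v * n⁻¹, hSY hnv⟩ : Y)⁻¹ * (⟨y, hyY⟩ * ⟨v, hSY hvS⟩ * (⟨y, hyY⟩ : Y)⁻¹) : Y).1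
          = (n * v * n⁻¹) * v := by
        show (n * v * n⁻¹)⁻¹ * (y * v * y⁻¹) = _
        rw [eyv, h.inv_eq hnv]
      rwa [← e]
    have hpv : Pt S v := ⟨hvS, v1⟩
    have hnv' : n * v * n⁻¹ ∈ V := (hVn n hn.norm hn.fix) ▸ conj_mem_cj hvV
    rcases hCsmall _ (mul_mem hnv hvS) hdiff with e | e
    · refine hwV (h.eq_of_fix hn hA.pt hpv ?_ ▸ hvV)
      exact (mul_eq_one_iff_eq_inv.1 e).trans (h.inv_eq hvS)
    · exact hwV (e ▸ mul_mem hnv' hvV)
  by_cases hQmax : MaxIn p S ⊤ Q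
  · exact finish hQmax y hyrot hyZ
  exfalso
  set Y' := normalizer (Z : Set G) with hY'
  have hne : Q ≠ ⊥ := fun e => by
    obtain ⟨c, hc, hle⟩ := hQc
    rw [e, le_bot_iff, Subgroup.map_eq_bot_iff_of_injective _ (MulAut.conj c).injective] at hle
    exact hA.ne hle
  have hZne : Z ≠ ⊥ := Local.GlaubermanZJ.centerThompsonAOf_ne_bot hQ.pgrp hne
  have hY'top : Y' ≠ ⊤ := by
    intro e
    haveI : Z.Normal := normalizer_eq_top_iff.1 e
    rcases IsSimpleGroup.eq_bot_or_eq_top_of_normal Z inferInstance with h1 | h1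
    · exact hZne h1
    · have hGp : IsPGroup p (⊤ : Subgroup G) := h1 ▸ hQ.pgrp.to_le (centerThompsonAOf_le Q)
      have := odd_of_pGroup hp.out hp2 hGp
      have h8 := odd_of_le (le_top : (S : Subgroup G) ≤ ⊤) this
      rw [h.card] at h8
      exact absurd h8 (by decide)
  have hQY' : Q ≤ Y' := le_normalizer.trans (normalizer_le_normalizer_centerThompsonAOf Q)
  obtain ⟨c, hcN, hcQ⟩ := hQc
  have hfix' : FixAt S Y' w := by
    intro m hm hmS
    by_contra hmw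
    exact hA.proper Y' hSZ hY'top c hcN (hcQ.trans hQY')
      (h.transAt_of hA.pt hyrot hyZ hm hmS hmw)
  have hMcor := hA.core Y' hSZ hfix' c hcN (hcQ.trans hQY')
  have hK'S : (S : Subgroup G) ≤ normalizer (cor Y' : Set G) := hSZ.trans (le_normalizer_cor Y')
  obtain ⟨U', hU', hMU'⟩ := exists_maxIn_ge (p := p) (S := S) (K := cor Y')
    ⟨hMcor, pGroup_cj hA.inv.pgrp c, norm_cj (mem_Nw.1 hcN).1 hA.inv.norm⟩
  obtain ⟨c', -, hc'S, hc'n⟩ := h.frattini (odd_cor Y') hK'S hU' hyS (le_normalizer_cor Y' hyZ)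
  have hU'F : U' ∈ Fam := ⟨⟨le_top, hU'.pgrp, hU'.norm⟩, ⟨c, hcN, hMU'⟩, c' * y,
    rot_mul hA.pt hyrot hc'S, hc'n⟩
  obtain ⟨P', hP', hQP'⟩ := exists_maxIn_ge (p := p) (S := S) (hQ.toInv.mono le_top)
  have hlt : Q < P' := lt_of_le_of_ne hQP' fun e => hQmax (e ▸ hP')
  have h1 := (Set.Finite.card_lt_card (Set.toFinite _) (Fusion.lt_inf_normalizer hP'.pgrp hlt) :
    Nat.card Q < Nat.card (P' ⊓ normalizer (Q : Set G) : Subgroup G))
  have hQ1 : Inv p S Y' (P' ⊓ normalizer (Q : Set G)) :=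
    (inv_normalizer hP'.toInv hQ.norm).mono (normalizer_le_normalizer_centerThompsonAOf Q)
  obtain ⟨Q₂, hQ₂, hUQ₂⟩ := exists_maxIn_ge (p := p) (S := S) (hU'.toInv.mono (cor_le Y'))
  have h2 := h.card_maxIn_eq hT hp2 hSZ hA.pt hfix' hQ₂ hQ1
  have hQn : Q₂ ≤ normalizer (U' : Set G) := le_normalizer_of_maxIn hK'S hU'
    (hQ₂.toInv.mono le_top) (hQ₂.le.trans (le_normalizer_cor Y')) hUQ₂
  have h3 : Nat.card Q₂ ≤ mm U' := le_mm ⟨hQn, hQ₂.pgrp, hQ₂.norm⟩
  have h4 := hfam hU'F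
  simp only [SetLike.coe_sort_coe] at h1
  omega

end Hyp

end Cfsg.Lib.Walter3
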