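import Cfsg.Agent.Lib.Walter3.SocleModel
import Cfsg.Agent.Lib.Walter3.Plane

/-!
# Proper overgroups of `S` fusing its involutions: the pieces lie in the odd core

For `Y ≠ G` containing `S` with nonsolvable `C_Y(t)` the quotient `Y / O(Y)` has a known socle, so
`O(C(t)) ∩ Y ≤ O(Y)`.
-/

set_option autoImplicit false
set_option linter.unusedSectionVars false
set_option linter.style.haveILetI false

namespace Cfsg.Lib.Walter3

open Subgroup Cfsg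

universe u

variable {G : Type u} [Group G] [Finite G] {S : Sylow 2 G}

/-- The projection of `Y` modulo its odd core. -/
noncomputable def yπ (Y : Subgroup G) : Y →* Y ⧸ Cfsg.oddCore Y := QuotientGroup.mk' _

theorem yπ_surjective (Y : Subgroup G) : Function.Surjective (yπ Y) := QuotientGroup.mk'_surjective _

theorem ker_yπ (Y : Subgroup G) : (yπ Y).ker = Cfsg.oddCore Y := QuotientGroup.ker_mk' _

theorem odd_ker_yπ (Y : Subgroup G) : Odd (Nat.card (yπ Y).ker) := by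
  rw [ker_yπ]; exact AbTwo.odd_oddCore

/-- The Sylow subgroup of `Y / O(Y)`. -/
noncomputable def ySyl (S : Sylow 2 G) {Y : Subgroup G} (hSY : (S : Subgroup G) ≤ Y) :
    Sylow 2 (Y ⧸ Cfsg.oddCore Y) :=
  haveI : Fact (Nat.Prime 2) := ⟨Nat.prime_two⟩
  (S.subtype hSY).mapSurjective (yπ_surjective Y)

theorem mem_ySyl {Y : Subgroup G} (hSY : (S : Subgroup G) ≤ Y) {z : Y ⧸ Cfsg.oddCore Y} :
    z ∈ (ySyl S hSY : Subgroup _) ↔ ∃ s : Y, (s : G) ∈ (S : Subgroup G) ∧ yπ Y s = z := Iff.rfl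

namespace Hyp

variable (h : Hyp S)
include h

theorem yπ_injOn {Y : Subgroup G} {s : Y} (hs : (s : G) ∈ (S : Subgroup G)) (e : yπ Y s = 1) : s = 1 := by
  have h1 : s ∈ (yπ Y).ker := e
  have h2 : orderOf s ∣ Nat.gcd 2 (Nat.card (yπ Y).ker) := Nat.dvd_gcd
    (orderOf_dvd_of_pow_eq_one (Subtype.ext (by rw [Subgroup.coe_pow, pow_two]; exact h.sq _ hs)))
    (by rw [← Subgroup.orderOf_mk s h1]; exact orderOf_dvd_natCard _)
  rw [Nat.Coprime.gcd_eq_one (Nat.coprime_two_left.2 (odd_ker_yπ Y)), Nat.dvd_one, orderOf_eq_one_iff] at h2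
  exact h2

theorem card_ySyl {Y : Subgroup G} (hSY : (S : Subgroup G) ≤ Y) :
    Nat.card (ySyl S hSY : Subgroup (Y ⧸ Cfsg.oddCore Y)) = 8 := by
  rw [← h.card, ← Nat.card_congr (subgroupOfEquivOfLe hSY).toEquiv]
  refine (Nat.card_congr (Equiv.ofBijective
    (fun s : (S : Subgroup G).subgroupOf Y =>
      (⟨yπ Y (s : Y), (mem_ySyl hSY).2 ⟨(s : Y), s.2, rfl⟩⟩ : (ySyl S hSY : Subgroup (Y ⧸ Cfsg.oddCore Y))))
    ⟨fun a b e => ?_, fun z => ?_⟩)).symm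
  · have e' : yπ Y (a : Y) = yπ Y (b : Y) := congrArg Subtype.val e
    have h1 := h.yπ_injOn (Y := Y) (s := (a : Y)⁻¹ * (b : Y)) ((S : Subgroup G).mul_mem ((S : Subgroup G).inv_mem a.2) b.2)
      (by rw [map_mul, map_inv, e', inv_mul_cancel])
    exact Subtype.ext (inv_mul_eq_one.1 h1)
  · obtain ⟨s, hs, e⟩ := (mem_ySyl hSY).1 z.2
    exact ⟨⟨s, hs⟩, Subtype.ext e⟩

theorem sq_ySyl {Y : Subgroup G} (hSY : (S : Subgroup G) ≤ Y) :
    ∀ v ∈ (ySyl S hSY : Subgroup (Y ⧸ Cfsg.oddCore Y)), v * v = 1 := by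
  intro v hv
  obtain ⟨s, hs, rfl⟩ := (mem_ySyl hSY).1 hv
  rw [← map_mul, show s * s = 1 from Subtype.ext (h.sq _ hs), map_one]

theorem pt_ySyl {Y : Subgroup G} (hSY : (S : Subgroup G) ≤ Y) {t : G} (ht : Pt S t) :
    Pt (ySyl S hSY) (yπ Y ⟨t, hSY ht.1⟩) :=
  ⟨(mem_ySyl hSY).2 ⟨⟨t, hSY ht.1⟩, ht.1, rfl⟩,
    fun e => ht.2 (congrArg Subtype.val (h.yπ_injOn (s := ⟨t, hSY ht.1⟩) ht.1 e))⟩

theorem transAt_ySyl {Y : Subgroup G} (hSY : (S : Subgroup G) ≤ Y) (htr : TransAt S Y) :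
    TransAt (ySyl S hSY) ⊤ := by
  intro a b ha hb
  obtain ⟨a', ha', rfl⟩ := (mem_ySyl hSY).1 ha.1
  obtain ⟨b', hb', rfl⟩ := (mem_ySyl hSY).1 hb.1
  obtain ⟨n, hnY, hnS, e⟩ := htr a' b' ⟨ha', fun e => ha.2 (by rw [show a' = 1 from Subtype.ext e, map_one])⟩
    ⟨hb', fun e => hb.2 (by rw [show b' = 1 from Subtype.ext e, map_one])⟩
  refine ⟨yπ Y ⟨n, hnY⟩, mem_top _, ?_, ?_⟩
  · refine mem_normalizer_of_cj_eq (eq_of_le_of_card_ge ?_ (by rw [card_cj]))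
    rintro _ ⟨z, hz, rfl⟩
    obtain ⟨s, hs, rfl⟩ := (mem_ySyl hSY).1 hz
    refine (mem_ySyl hSY).2 ⟨⟨n, hnY⟩ * s * ⟨n, hnY⟩⁻¹, (mem_normalizer_iff.1 hnS _).1 hs, ?_⟩
    rw [map_mul, map_mul, map_inv]
    rfl
  · rw [← map_inv, ← map_mul, ← map_mul]
    exact congrArg _ (Subtype.ext e)

theorem cent_ySyl {Y : Subgroup G} (hSY : (S : Subgroup G) ≤ Y) {t : G} (ht : Pt S t) :
    (Cg (⟨t, hSY ht.1⟩ : Y)).map (yπ Y) = Cg (yπ Y ⟨t, hSY ht.1⟩) :=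
  map_cent_eq (yπ Y) (yπ_surjective Y) (odd_ker_yπ Y) (Subtype.ext (h.sq t ht.1))

theorem not_solvable_ySyl {Y : Subgroup G} (hSY : (S : Subgroup G) ≤ Y) {t : G} (ht : Pt S t)
    (hns : ¬ Group.IsSolvable ↥(Y ⊓ Cg t)) : ¬ Group.IsSolvable ↥(Cg (yπ Y ⟨t, hSY ht.1⟩)) := by
  intro hs
  haveI := hs
  apply hns
  let g : ↥(Y ⊓ Cg t) →* ↥(Cg (yπ Y ⟨t, hSY ht.1⟩)) :=
    ((yπ Y).comp (inclusion (inf_le_left : Y ⊓ Cg t ≤ Y))).codRestrict _ fun c => by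
      rw [mem_Cg, MonoidHom.comp_apply, ← map_mul, ← map_mul]
      exact congrArg _ (Subtype.ext (mem_Cg.1 c.2.2))
  haveI : Group.IsSolvable g.ker := WalterBig.isSolvable_of_odd_card <| (odd_ker_yπ Y).of_dvd_nat (by
    refine Subgroup.card_dvd_of_injective
      (({ toFun := fun c => ⟨inclusion (inf_le_left : Y ⊓ Cg t ≤ Y) c.1,
            congrArg Subtype.val (MonoidHom.mem_ker.1 c.2)⟩
          map_one' := rfl
          map_mul' := fun _ _ => rfl } : g.ker →* (yπ Y).ker)) fun a b e => Subtype.ext (Subtype.ext ?_)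
    exact (congrArg (fun z : (yπ Y).ker => ((z : Y) : G)) e :))
  exact Group.isSolvable_of_ker_le_range g.ker.subtype g (by simp)

/-- The quotient of a proper overgroup of `S` fusing its involutions, with its socle. -/
theorem exists_section_model (ih : CentBelow.{u} (Nat.card G)) {Y : Subgroup G} (hSY : (S : Subgroup G) ≤ Y)
    (hY : Y ≠ ⊤) (htr : TransAt S Y) {t : G} (ht : Pt S t) (hns : ¬ Group.IsSolvable ↥(Y ⊓ Cg t)) :
    ∃ (N : Subgroup (Y ⧸ Cfsg.oddCore Y)) (F : Type) (_ : Field F) (_ : Fintype F),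
      SocleModel (ySyl S hSY) (yπ Y ⟨t, hSY ht.1⟩) N F := by
  refine exists_socleModel (ySyl S hSY) (h.card_ySyl hSY) (h.sq_ySyl hSY) (h.transAt_ySyl hSY htr)
    ?_ (h.pt_ySyl hSY ht) (h.not_solvable_ySyl hSY ht hns) ih ?_
  · exact Core.pPrimeCore_quotient_eq_bot
  · refine lt_of_le_of_lt (Nat.le_of_dvd Nat.card_pos (card_quotient_dvd_card _)) ?_
    exact lt_of_le_of_ne (Nat.le_of_dvd Nat.card_pos (card_subgroup_dvd_card Y))
      fun e => hY ((card_eq_iff_eq_top Y).1 e)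

/-- The pieces lie in the odd core. -/
theorem pieces_le_cor (ih : CentBelow.{u} (Nat.card G)) {Y : Subgroup G} (hSY : (S : Subgroup G) ≤ Y)
    (hY : Y ≠ ⊤) (htr : TransAt S Y) {t : G} (ht : Pt S t) (hns : ¬ Group.IsSolvable ↥(Y ⊓ Cg t)) :
    Og t ⊓ Y ≤ cor Y := by
  obtain ⟨N, F, i, j, hN⟩ := h.exists_section_model ih hSY hY htr ht hns
  have hO := hN.oddCore_cent (h.card_ySyl hSY) (h.sq_ySyl hSY) (h.pt_ySyl hSY ht)
  set tY : Y := ⟨t, hSY ht.1⟩ with htY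
  set R := ((Og t).subgroupOf Y).map (yπ Y) with hR
  have hRC : R ≤ Cg (yπ Y tY) := by
    rintro _ ⟨y, hy, rfl⟩
    rw [mem_Cg, ← map_mul, ← map_mul]
    exact congrArg _ (Subtype.ext (mem_Cg.1 (cor_le _ (mem_subgroupOf.1 hy))))
  have hRodd : Odd (Nat.card R) := ((odd_cor (Cg t)).of_dvd_nat (by
    refine Subgroup.card_dvd_of_injective ((Y.subtype.comp ((Og t).subgroupOf Y).subtype).codRestrict _
      fun c => c.2) fun a b e => Subtype.ext (Subtype.ext ?_)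
    exact (congrArg (fun z : ↥(cor (Cg t)) => (z : G)) e :))).of_dvd_nat (card_map_dvd _ _)
  have hRn : Cg (yπ Y tY) ≤ normalizer (R : Set (Y ⧸ Cfsg.oddCore Y)) := by
    intro z hz
    rw [← h.cent_ySyl hSY ht] at hz
    obtain ⟨c, hc, rfl⟩ := hz
    refine mem_normalizer_of_cj_eq (eq_of_le_of_card_ge ?_ (by rw [card_cj]))
    rintro _ ⟨_, ⟨y, hy, rfl⟩, rfl⟩
    refine ⟨c * y * c⁻¹, ?_, by rw [map_mul, map_mul, map_inv]; rfl⟩
    rw [SetLike.mem_coe, mem_subgroupOf] at hy ⊢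
    exact (mem_normalizer_iff.1 (le_normalizer_cor (Cg t) (mem_Cg.2 (congrArg Subtype.val (mem_Cg.1 hc)))) _).1 hy
  have hRle : R ≤ cor (Cg (yπ Y tY)) := le_cor hRC hRodd hRn
  rw [show cor (Cg (yπ Y tY)) = ⊥ by rw [cor, hO, Subgroup.map_bot], le_bot_iff, hR, Subgroup.map_eq_bot_iff,
    ker_yπ] at hRle
  intro y hy
  exact ⟨⟨y, hy.2⟩, hRle (mem_subgroupOf.2 (show (⟨y, hy.2⟩ : Y).1 ∈ Og t from hy.1)), rfl⟩

end Hyp

end Cfsg.Lib.Walter3
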